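import Groth.Agent.EtShLib.PullGerm
import Groth.Agent.EtPushStalk.Unit
import Groth.Agent.EtStalk.Conservative
import Groth.Prelude.Def_EtBCD
import Mathlib

/-!
Inverse image of abelian sheaves commutes with passing to underlying sheaves of sets; transfer of base change.
-/

set_option autoImplicit false
set_option backward.isDefEq.respectTransparency false
set_option backward.isDefEq.respectTransparency.types false
set_option maxHeartbeats 1000000
set_option linter.style.haveILetI false

universe u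

open CategoryTheory CategoryTheory.Limits AlgebraicGeometry Opposite

noncomputable section

namespace Groth.Agent.EtShSep

/-- the underlying sheaf of sets -/
abbrev undSh (X : Scheme.{u}) : EtCoh.Ab X ⥤ EtDesc.Sh X :=
  sheafCompose X.smallEtaleTopology (forget AddCommGrpCat.{u + 1})

theorem isIso_of_isIso_undSh {X : Scheme.{u}} {F G : EtCoh.Ab X} (a : F ⟶ G) (h : IsIso ((undSh X).map a)) : IsIso a := by
  haveI : ∀ U : X.Etaleᵒᵖ, IsIso (a.hom.app U) := fun U => by
    haveI : IsIso ((forget AddCommGrpCat.{u + 1}).map (a.hom.app U)) :=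
      inferInstanceAs (IsIso (((sheafToPresheaf _ _).map ((undSh X).map a)).app U))
    exact isIso_of_reflects_iso (a.hom.app U) (forget AddCommGrpCat.{u + 1})
  haveI : IsIso ((sheafToPresheaf X.smallEtaleTopology AddCommGrpCat.{u + 1}).map a) :=
    NatIso.isIso_of_isIso_app a.hom
  exact (fullyFaithfulSheafToPresheaf _ _).isIso_of_isIso_map _

variable {T S : Scheme.{u}} (f : T ⟶ S) (F : EtCoh.Ab S)

/-- the comparison of inverse images -/
def pullCmp : (EtDesc.pullSh f).obj ((undSh S).obj F) ⟶ (undSh T).obj ((EtCoh.pull f).obj F) :=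
  ((EtDesc.adjSh f).homEquiv _ _).symm ((undSh S).map ((EtCoh.pullPushAdj f).unit.app F))

theorem unit_pullCmp : (EtDesc.adjSh f).unit.app ((undSh S).obj F) ≫ (EtDesc.pushSh f).map (pullCmp f F) =
    (undSh S).map ((EtCoh.pullPushAdj f).unit.app F) := by
  have h := ((EtDesc.adjSh f).homEquiv ((undSh S).obj F) ((undSh T).obj ((EtCoh.pull f).obj F))).apply_symm_apply
    ((undSh S).map ((EtCoh.pullPushAdj f).unit.app F))
  exact ((Adjunction.homEquiv_unit _ _ _ _).symm.trans h)

theorem app_congr {X : Scheme.{u}} {G H : EtDesc.Sh X} {a b : G ⟶ H} (h : a = b) (U : X.Etaleᵒᵖ) (s : G.obj.obj U) :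
    a.hom.app U s = b.hom.app U s := by subst h; rfl

theorem isIso_pullCmp : IsIso (pullCmp f F) := by
  let P : ∀ (Ω : Type u) [Field Ω] [IsSepClosed Ω], (Spec (CommRingCat.of Ω) ⟶ T) → Prop := fun Ω _ _ ξ =>
    Function.Bijective ((Scheme.pointSmallEtale ξ).presheafFiber.map (pullCmp f F).hom)
  have hP : EtStalk.Covers (X := T) P := fun x => by
    obtain ⟨Ω, _, _, ξ, -, hξ⟩ := EtStalk.covers_all (X := T) x
    refine ⟨Ω, inferInstance, inferInstance, ξ, ?_, hξ⟩
    let m := (Scheme.pointSmallEtale ξ).presheafFiber.map (pullCmp f F).hom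
    let γ := (EtStalk.stalkPullShIso f ξ).hom.app ((undSh S).obj F)
    let κ := ((Scheme.pointSmallEtale (ξ ≫ f)).presheafFiberCompIso (forget AddCommGrpCat.{u + 1})).hom.app F.obj
    let κ' := ((Scheme.pointSmallEtale ξ).presheafFiberCompIso (forget AddCommGrpCat.{u + 1})).hom.app
      ((EtCoh.pull f).obj F).obj
    let θ := (forget AddCommGrpCat.{u + 1}).map ((EtStalk.stalkPullIso f ξ).hom.app F)
    have key : ∀ z, κ' (m (γ z)) = θ (κ z) := fun z => by
      obtain ⟨V, v, s, rfl⟩ := EtShLib.gm_surjective (G := (undSh S).obj F) (ξ ≫ f) z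
      have h1 : γ (EtShLib.gm (ξ ≫ f) ((undSh S).obj F) V v s) =
          EtShLib.gm ξ ((EtDesc.pullSh f).obj ((undSh S).obj F)) ((EtCoh.bc f).obj V) (EtPushStalk.up f ξ v)
            (((EtDesc.adjSh f).unit.app ((undSh S).obj F)).hom.app (op V) s) :=
        EtShLib.stalkPullShIso_gm f ξ _ V v s
      have h2 : (pullCmp f F).hom.app (op ((EtCoh.bc f).obj V))
          (((EtDesc.adjSh f).unit.app ((undSh S).obj F)).hom.app (op V) s) =
          ((EtCoh.pullPushAdj f).unit.app F).hom.app (op V) s :=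
        app_congr (unit_pullCmp f F) (op V) s
      have h3 : κ (EtShLib.gm (ξ ≫ f) ((undSh S).obj F) V v s) =
          (Scheme.pointSmallEtale (ξ ≫ f)).toPresheafFiber V v F.obj s :=
        ConcreteCategory.congr_hom (GrothendieckTopology.Point.toPresheafFiber_presheafFiberCompIso_hom_app
          (Scheme.pointSmallEtale (ξ ≫ f)) (forget AddCommGrpCat.{u + 1}) V v F.obj) s
      rw [h1, h3]
      refine Eq.trans (congrArg κ' ((GrothendieckTopology.Point.toPresheafFiber_naturality_apply
        (Scheme.pointSmallEtale ξ) (pullCmp f F).hom ((EtCoh.bc f).obj V) (EtPushStalk.up f ξ v) _).trans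
          (congrArg _ h2))) ?_
      refine Eq.trans (ConcreteCategory.congr_hom (GrothendieckTopology.Point.toPresheafFiber_presheafFiberCompIso_hom_app
          (Scheme.pointSmallEtale ξ) (forget AddCommGrpCat.{u + 1}) ((EtCoh.bc f).obj V) (EtPushStalk.up f ξ v)
            ((EtCoh.pull f).obj F).obj) (((EtCoh.pullPushAdj f).unit.app F).hom.app (op V) s)) ?_
      symm
      show (EtStalk.stalkPullIso f ξ).hom.app F
        ((Scheme.pointSmallEtale (ξ ≫ f)).toPresheafFiber V v F.obj s) = _
      rw [EtPushStalk.stalkPullIso_hom_eq]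
      refine Eq.trans ?_ (EtPushStalk.stalkPushHom_germ ξ ((EtCoh.pull f).obj F) V v _)
      refine congrArg (EtPushStalk.stalkPushHom f ξ ((EtCoh.pull f).obj F)) ?_
      exact GrothendieckTopology.Point.toPresheafFiber_naturality_apply (Scheme.pointSmallEtale (ξ ≫ f))
        ((EtCoh.pullPushAdj f).unit.app F).hom V v s
    have hb : Function.Bijective (θ ∘ κ) :=
      ((isIso_iff_bijective θ).mp inferInstance).comp ((isIso_iff_bijective κ).mp inferInstance)
    have hb' : Function.Bijective ((κ' ∘ m) ∘ γ) := by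
      rw [show ((κ' ∘ m) ∘ γ : _ → _) = θ ∘ κ from funext key]
      exact hb
    have hγ : Function.Bijective γ := (isIso_iff_bijective γ).mp inferInstance
    have h1 : Function.Bijective (κ' ∘ m) := (Function.Bijective.of_comp_iff _ hγ).mp hb'
    exact (Function.Bijective.of_comp_iff' ((isIso_iff_bijective κ').mp inferInstance) _).mp h1
  have : Sheaf.IsLocallyInjective (pullCmp f F) :=
    EtStalk.isLocallyInjective_of_covers _ hP fun Ω _ _ ξ hξ => hξ.1
  have : Sheaf.IsLocallySurjective (pullCmp f F) :=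
    EtStalk.isLocallySurjective_of_covers _ hP fun Ω _ _ ξ hξ => hξ.2
  exact (Sheaf.isLocallyBijective_iff_isIso _).mp ⟨inferInstance, inferInstance⟩

/-- abelian units from units for sheaves of sets -/
theorem isIso_unit_ab (h : IsIso ((EtDesc.adjSh f).unit.app ((undSh S).obj F))) :
    IsIso ((EtCoh.pullPushAdj f).unit.app F) := by
  apply isIso_of_isIso_undSh
  rw [← unit_pullCmp]
  haveI := isIso_pullCmp f F
  infer_instance

/-- abelian base change from base change for sheaves of sets -/
theorem isIso_baseChange0_of_sets {X Y X' Y' : Scheme.{u}} (f : X ⟶ Y) (g : Y' ⟶ Y) (f' : X' ⟶ Y') (g' : X' ⟶ X)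
    (w : g' ≫ f = f' ≫ g) (F : EtCoh.Ab X) (h : IsIso (EtBC.baseChange0Sh f g f' g' w ((undSh X).obj F))) :
    IsIso (EtCoh.baseChange0 f g f' g' w F) := by
  apply isIso_of_isIso_undSh
  have key : pullCmp g ((EtCoh.push f).obj F) ≫ (undSh Y').map (EtCoh.baseChange0 f g f' g' w F) =
      EtBC.baseChange0Sh f g f' g' w ((undSh X).obj F) ≫ (EtDesc.pushSh f').map (pullCmp g' F) := by
    let isoA := (EtCoh.pushComp f g').hom ≫ (EtCoh.pushCongr w).hom ≫ (EtCoh.pushComp g f').inv
    let isoS := (EtDesc.pushCompSh f g').hom ≫ (EtBC.pushCongrSh w).hom ≫ (EtDesc.pushCompSh g f').inv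
    have e1 := unit_pullCmp g ((EtCoh.push f).obj F)
    have e2 : (EtDesc.adjSh g).unit.app _ ≫ (EtDesc.pushSh g).map (EtBC.baseChange0Sh f g f' g' w ((undSh X).obj F)) =
        (EtDesc.pushSh f).map ((EtDesc.adjSh g').unit.app ((undSh X).obj F)) ≫ isoS.app _ :=
      (Adjunction.homEquiv_unit _ _ _ _).symm.trans (Equiv.apply_symm_apply _ _)
    have e3 : (EtCoh.pullPushAdj g).unit.app _ ≫ (EtCoh.push g).map (EtCoh.baseChange0 f g f' g' w F) =
        (EtCoh.push f).map ((EtCoh.pullPushAdj g').unit.app F) ≫ isoA.app _ :=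
      (Adjunction.homEquiv_unit _ _ _ _).symm.trans (Equiv.apply_symm_apply _ _)
    have e4 := unit_pullCmp g' F
    have hiso : (undSh Y).map (isoA.app ((EtCoh.pull g').obj F)) = isoS.app ((undSh X').obj ((EtCoh.pull g').obj F)) := rfl
    apply ((EtDesc.adjSh g).homEquiv _ _).injective
    refine (Adjunction.homEquiv_unit _ _ _ _).trans (Eq.trans ?_ (Adjunction.homEquiv_unit _ _ _ _).symm)
    refine ((congrArg (_ ≫ ·) (Functor.map_comp (EtDesc.pushSh g) _ _)).trans (Category.assoc _ _ _).symm).trans ?_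
    refine (congrArg (· ≫ _) e1).trans ?_
    refine ((Functor.map_comp (undSh Y) _ ((EtCoh.push g).map (EtCoh.baseChange0 f g f' g' w F))).symm.trans
      ((congrArg (undSh Y).map e3).trans (Functor.map_comp _ _ _))).trans ?_
    refine (congrArg (_ ≫ ·) hiso).trans ?_
    refine (congrArg (fun z => (EtDesc.pushSh f).map z ≫ isoS.app ((undSh X').obj ((EtCoh.pull g').obj F))) e4.symm).trans ?_
    refine ((congrArg (· ≫ _) (Functor.map_comp (EtDesc.pushSh f) _ _)).trans (Category.assoc _ _ _)).trans ?_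
    refine (congrArg (_ ≫ ·) (isoS.naturality (pullCmp g' F))).trans ?_
    refine (Category.assoc _ _ _).symm.trans ((congrArg (· ≫ _) e2.symm).trans ?_)
    exact (Category.assoc _ _ _).trans (congrArg (_ ≫ ·) (Functor.map_comp (EtDesc.pushSh g) _ _).symm)
  haveI := isIso_pullCmp g ((EtCoh.push f).obj F)
  haveI := isIso_pullCmp g' F
  haveI := h
  have : IsIso (pullCmp g ((EtCoh.push f).obj F) ≫ (undSh Y').map (EtCoh.baseChange0 f g f' g' w F)) := by
    rw [key]; infer_instance
  exact IsIso.of_isIso_comp_left (pullCmp g ((EtCoh.push f).obj F)) _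

end Groth.Agent.EtShSep
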