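import Groth.Agent.EtShSep.Forget
import Groth.Agent.EtShLib.BaseChange
import Groth.Agent.EtShLib.ConnFib
import Groth.Agent.EtAcycX.Fibres
import Groth.Agent.EtAcycX.MinusOne
import Groth.Agent.EtAcycX.ZCover
import Groth.Agent.EtAcycX.ConstPt
import Groth.Agent.EtAcycX.PointAcyc
import Groth.Agent.EtAcycX.LAChange
import Groth.Agent.GRingCpl.ConnFibre
import Groth.Agent.FFModel.Basic
import Groth.Agent.EtCons.ExtZeroConst
import Mathlib

/-!
Universally locally 0-acyclic morphisms: universal submersivity and connected geometric fibres on strict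
localisations; base change for sheaves of sets.
-/

set_option autoImplicit false
set_option backward.isDefEq.respectTransparency false
set_option backward.isDefEq.respectTransparency.types false
set_option maxHeartbeats 1000000
set_option linter.style.haveILetI false
set_option linter.unusedSectionVars false
set_option linter.overlappingInstances false

universe u

open CategoryTheory CategoryTheory.Limits AlgebraicGeometry Opposite IsLocalRing
open scoped TensorProduct

noncomputable section

namespace Groth.Agent.EtShSep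

/-- a zero acyclic morphism has connected preimages of connected opens -/
theorem connectedSpace_preimage {X Y : Scheme.{u}} (q : X ⟶ Y) (hq : EtAcyc.IsZeroAcyclic q) (U : Y.Opens)
    [ConnectedSpace ↥(U : Scheme.{u})] : ConnectedSpace ↥((q ⁻¹ᵁ U : X.Opens) : Scheme.{u}) := by
  let V : Y.Etale := MorphismProperty.Over.mk ⊤ U.ι (inferInstanceAs (Etale U.ι))
  let m := EtAcyc.prj q V
  haveI : ConnectedSpace ↥V.left := ‹ConnectedSpace ↥(U : Scheme.{u})›
  let F := EtCoh.const V.left (ZMod 2)
  haveI := isIso_unit_ab m F (hq V _)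
  haveI : IsIso ((EtCoh.pullPushAdj m).unit.app F).hom :=
    inferInstanceAs (IsIso ((sheafToPresheaf _ _).map ((EtCoh.pullPushAdj m).unit.app F)))
  haveI : IsIso (EtCons.pullConstM m (ZMod 2)).hom.hom :=
    inferInstanceAs (IsIso ((sheafToPresheaf _ _).map (EtCons.pullConstM m (ZMod 2)).hom))
  have e1 : EtCoh.sect F (EtCoh.top V.left) ≃+ EtCoh.sect ((EtCoh.pull m).obj F) ((EtCoh.bc m).obj (EtCoh.top V.left)) :=
    (asIso (((EtCoh.pullPushAdj m).unit.app F).hom.app (op (EtCoh.top V.left)))).addCommGroupIsoToAddEquiv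
  have e2 : EtCoh.sect ((EtCoh.pull m).obj F) ((EtCoh.bc m).obj (EtCoh.top V.left)) ≃+
      EtCoh.sect ((EtCoh.pull m).obj F) (EtCoh.top _) :=
    (((EtCoh.pull m).obj F).obj.mapIso (EtCore.bcTopIso m).symm.op).addCommGroupIsoToAddEquiv
  have e3 : EtCoh.sect ((EtCoh.pull m).obj F) (EtCoh.top (pullback V.hom q)) ≃+
      EtCoh.sect (EtCoh.const (pullback V.hom q) (ZMod 2)) (EtCoh.top _) :=
    (asIso ((EtCons.pullConstM m (ZMod 2)).hom.hom.app (op (EtCoh.top _)))).addCommGroupIsoToAddEquiv
  have h : ConnectedSpace ↥(pullback V.hom q) := EtAcycX.connectedSpace_of_card (M := ZMod 2) (by simp)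
    ((Nat.card_congr ((e1.trans e2).trans e3).toEquiv).symm.trans EtAcycX.card_sect_const)
  exact (pullbackSymmetry V.hom q ≪≫ pullbackRestrictIsoRestrict q U).hom.homeomorph.connectedSpace_iff.1 h

theorem isMinusOne_of_isZero {X Y : Scheme.{u}} {q : X ⟶ Y} (h : EtAcyc.IsZeroAcyclic q) :
    EtAcyc.IsMinusOneAcyclic q := fun V F => by
  haveI := h V F
  infer_instance

theorem isNilpotent_of_unit_mul {R : Type u} [CommRing R] {a b : R} (ha : IsUnit a) (h : IsNilpotent (a * b)) :
    IsNilpotent b := by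
  obtain ⟨n, hn⟩ := h
  exact ⟨n, (ha.pow n).mul_right_eq_zero.1 (by rwa [← mul_pow])⟩

/-- topological quotient maps from lifting of generalisations -/
theorem isQuotientMap_of_generalizing {A B : Type u} [CommRing A] [CommRing B] (φ : A →+* B)
    (h : ∀ (S' : Scheme.{u}) (t : S' ⟶ Spec (CommRingCat.of A)),
      GeneralizingMap ⇑(pullback.snd (Spec.map (CommRingCat.ofHom φ)) t))
    [Surjective (Spec.map (CommRingCat.ofHom φ))] (S' : Scheme.{u}) (t : S' ⟶ Spec (CommRingCat.of A)) :
    Topology.IsQuotientMap (pullback.snd (Spec.map (CommRingCat.ofHom φ)) t) := by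
  let f := Spec.map (CommRingCat.ofHom φ)
  let p := pullback.snd f t
  rw [Topology.isQuotientMap_iff]
  refine ⟨.of_isOpen_preimage_iff_isOpen fun s =>
    ⟨fun hs => ?_, fun hs => hs.preimage p.continuous⟩, p.surjective⟩
  let 𝒰 := S'.affineCover
  rw [𝒰.isOpenCover_opensRange.isOpen_iff_inter]
  intro i
  rw [Scheme.Hom.coe_opensRange, ← Set.image_preimage_eq_inter_range]
  apply (𝒰.f i).isOpenEmbedding.isOpenMap
  obtain ⟨R, hR⟩ : ∃ R, 𝒰.X i = Spec R := ⟨_, rfl⟩
  let t' := 𝒰.f i ≫ t
  let c : pullback f t' ⟶ pullback f t := pullback.lift (pullback.fst f t') (pullback.snd f t' ≫ 𝒰.f i)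
    (pullback.condition.trans (Category.assoc _ _ _).symm)
  have hc : c ≫ p = pullback.snd f t' ≫ 𝒰.f i := pullback.lift_snd _ _ _
  haveI : IsAffine (𝒰.X i) := by rw [hR]; infer_instance
  haveI : IsAffineHom f := inferInstance
  let p' := pullback.snd f t'
  haveI : IsAffine (pullback f t') := isAffine_of_isAffineHom p'
  have hs' : IsOpen (p' ⁻¹' ((𝒰.f i) ⁻¹' s)) := by
    rw [← Set.preimage_comp, ← TopCat.coe_comp, ← Scheme.Hom.comp_base, ← hc, Scheme.Hom.comp_base, TopCat.coe_comp,
      Set.preimage_comp]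
    exact hs.preimage c.continuous
  let i₁ := (pullback f t').isoSpec
  let i₂ := (𝒰.X i).isoSpec
  obtain ⟨ψ, hψ⟩ := Spec.map_surjective (i₁.inv ≫ p' ≫ i₂.hom)
  have hψ' : ⇑(Spec.map ψ) = ⇑i₂.hom ∘ ⇑p' ∘ ⇑i₁.inv := by
    rw [hψ, Scheme.Hom.comp_base, TopCat.coe_comp, Scheme.Hom.comp_base, TopCat.coe_comp]
    rfl
  have hq : Topology.IsQuotientMap ⇑(Spec.map ψ) := by
    refine PrimeSpectrum.isQuotientMap_of_generalizingMap (f := ψ.hom) ?_ ?_
    · show Function.Surjective ⇑(Spec.map ψ)
      rw [hψ']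
      exact i₂.hom.homeomorph.surjective.comp (p'.surjective.comp i₁.inv.homeomorph.surjective)
    · show GeneralizingMap ⇑(Spec.map ψ)
      rw [hψ']
      exact (i₁.inv.isOpenEmbedding.generalizingMap.comp (h _ t')).comp i₂.hom.isOpenEmbedding.generalizingMap
  have hp' : Topology.IsQuotientMap p' := by
    have h0 : p' = i₁.hom ≫ Spec.map ψ ≫ i₂.inv := by
      rw [hψ, Category.assoc, Category.assoc, Iso.hom_inv_id_assoc, Iso.hom_inv_id, Category.comp_id]
    have h1 : ⇑p' = ⇑i₂.inv ∘ ⇑(Spec.map ψ) ∘ ⇑i₁.hom := by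
      rw [h0, Scheme.Hom.comp_base, TopCat.coe_comp, Scheme.Hom.comp_base, TopCat.coe_comp]
      rfl
    rw [h1]
    exact i₂.inv.homeomorph.isQuotientMap.comp (hq.comp i₁.hom.homeomorph.isQuotientMap)
  exact hp'.isOpen_preimage.mp hs'

section ULoc

variable {X Y : Scheme.{u}} (g : X ⟶ Y) (hg : EtAcyc.IsULocZeroAcyclic g) {x : X} (QX : EtBCQ.SH X x) {y : Y}
  (QY : EtBCQ.SH Y y) (φ : QY.R →+* QX.R) [IsLocalHom φ]
  (hφ : Spec.map (CommRingCat.ofHom φ) ≫ QY.spec = QX.spec ≫ g)

include hg hφ

/-- base changes of the map of strict localisations are locally acyclic -/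
theorem isLocZeroAcyclic_snd (S' : Scheme.{u}) (t : S' ⟶ Spec (CommRingCat.of QY.R)) :
    EtAcyc.IsLocZeroAcyclic (pullback.snd (Spec.map (CommRingCat.ofHom φ)) t) := by
  let f := Spec.map (CommRingCat.ofHom φ)
  haveI : WeaklyEtale QY.spec := EtAcycX.weaklyEtale_specOf y QY.R
  haveI : WeaklyEtale QX.spec := EtAcycX.weaklyEtale_specOf x QX.R
  let v : Spec (CommRingCat.of QX.R) ⟶ pullback g QY.spec := pullback.lift QX.spec f hφ.symm
  haveI : WeaklyEtale (v ≫ pullback.fst g QY.spec) := by rw [pullback.lift_fst]; infer_instance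
  haveI : WeaklyEtale v := WeaklyEtale.of_comp v (pullback.fst g QY.spec)
  let p₂ := pullback.snd g QY.spec
  have hv : v ≫ p₂ = f := pullback.lift_snd _ _ _
  let u₁ : pullback f t ⟶ pullback p₂ t := pullback.lift (pullback.fst f t ≫ v) (pullback.snd f t)
    (by rw [Category.assoc, hv, pullback.condition])
  have hu : u₁ ≫ pullback.snd p₂ t = pullback.snd f t := pullback.lift_snd _ _ _
  have hP : IsPullback u₁ (pullback.fst f t) (pullback.fst p₂ t) v := by
    have h0 : IsPullback (pullback.snd f t) (pullback.fst f t) t (v ≫ p₂) := by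
      rw [hv]
      exact (IsPullback.of_hasPullback f t).flip
    rw [← hu] at h0
    exact IsPullback.of_right h0 (pullback.lift_fst _ _ _) (IsPullback.of_hasPullback p₂ t).flip
  haveI : WeaklyEtale u₁ := MorphismProperty.of_isPullback (P := @WeaklyEtale) hP.flip inferInstance
  have h₁ : EtAcyc.IsLocZeroAcyclic (pullback.snd p₂ t) := hg (pullback.snd p₂ t)
    (pullback.fst p₂ t ≫ pullback.fst g QY.spec) (t ≫ QY.spec)
    ((IsPullback.of_hasPullback p₂ t).paste_horiz (IsPullback.of_hasPullback g QY.spec))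
  exact EtAcycX.onStrict_of_weaklyEtale u₁ (𝟙 S') (hu.trans (Category.comp_id _).symm) h₁

theorem surjective_strict : Surjective (Spec.map (CommRingCat.ofHom φ)) := by
  have hy : g.base x = y := by
    have h1 := congrArg (fun z : Spec (CommRingCat.of QX.R) ⟶ Y => z (closedPoint QX.R)) hφ
    simp only [Scheme.Hom.comp_apply, EtBCQ.Spec_closedPoint', QX.spec_closed, QY.spec_closed] at h1
    exact h1.symm
  have h : EtAcyc.IsZeroAcyclic (Spec.map (CommRingCat.ofHom φ)) :=
    EtAcycX.apply_onStrict' (hg g (𝟙 X) (𝟙 Y) (IsPullback.of_horiz_isIso ⟨by simp⟩)) hy QY QX φ hφ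
  exact ⟨EtAcycX.surjective_of_isMinusOneAcyclic _ (isMinusOne_of_isZero h)⟩

theorem generalizingMap_snd (S' : Scheme.{u}) (t : S' ⟶ Spec (CommRingCat.of QY.R)) :
    GeneralizingMap ⇑(pullback.snd (Spec.map (CommRingCat.ofHom φ)) t) := by
  intro a b hb
  let p := pullback.snd (Spec.map (CommRingCat.ofHom φ)) t
  let QS := EtBCQ.mkSH S' (p a)
  let QP := EtBCQ.mkSH _ a
  obtain ⟨ψ, hl, hψ⟩ := EtBCQ.exists_strict_hom QS (QP.spec ≫ p) (by rw [Scheme.Hom.comp_apply, QP.spec_closed])
  haveI := hl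
  have h := EtAcycX.apply_onStrict (isLocZeroAcyclic_snd g hg QX QY φ hφ S' t) QS QP ψ hψ
  have hsurj := EtAcycX.surjective_of_isMinusOneAcyclic _ (isMinusOne_of_isZero h)
  obtain ⟨z, hz⟩ : b ∈ Set.range QS.spec := by
    have h1 : b ∈ Set.range (S'.fromSpecStalk (p a)) := by
      rw [Scheme.range_fromSpecStalk]
      exact hb
    obtain ⟨z, rfl⟩ := h1
    haveI := Hensel.strictHenselization_faithfullyFlat (S'.presheaf.stalk (p a)) QS.R
    obtain ⟨w, rfl⟩ := PrimeSpectrum.comap_surjective_of_faithfullyFlat (A := S'.presheaf.stalk (p a)) (B := QS.R) z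
    exact ⟨w, rfl⟩
  obtain ⟨w, rfl⟩ := hsurj z
  refine ⟨QP.spec w, ?_, ?_⟩
  · show QP.spec w ⤳ a
    exact ((IsLocalRing.specializes_closedPoint w).map QP.spec.continuous).trans (specializes_of_eq QP.spec_closed)
  · rw [← hz, ← Scheme.Hom.comp_apply, ← hψ]
    rfl

theorem isQuotientMap_strict (S' : Scheme.{u}) (t : S' ⟶ Spec (CommRingCat.of QY.R)) :
    Topology.IsQuotientMap (pullback.snd (Spec.map (CommRingCat.ofHom φ)) t) := by
  haveI := surjective_strict g hg QX QY φ hφ
  exact isQuotientMap_of_generalizing φ (generalizingMap_snd g hg QX QY φ hφ) S' t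

end ULoc

/-- opens `D(a)` have connected preimages along locally acyclic maps of strictly henselian rings -/
theorem isPreconnected_basicOpen {A C : Type u} [CommRing A] [IsDomain A] [HenselianLocalRing A]
    [IsSepClosed (ResidueField A)] [CommRing C] [HenselianLocalRing C] [IsSepClosed (ResidueField C)]
    (ψ : A →+* C) [IsLocalHom ψ] (h : EtAcyc.IsLocZeroAcyclic (Spec.map (CommRingCat.ofHom ψ))) (a : A) (ha : a ≠ 0) :
    _root_.IsPreconnected (PrimeSpectrum.basicOpen (ψ a) : Set (PrimeSpectrum C)) := by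
  obtain ⟨QC, eC, hC⟩ := EtShLib.exists_self_SH C
  obtain ⟨QA, eA, hA⟩ := EtShLib.exists_self_SH A
  let χ : QA.R →+* QC.R := (eC.toRingHom.comp ψ).comp eA.symm.toRingHom
  haveI : IsLocalHom χ := ⟨fun x hx => by
    have h1 : IsUnit (eC (ψ (eA.symm x))) := hx
    rw [MulEquiv.isUnit_map] at h1
    exact (MulEquiv.isUnit_map eA.symm).1 (isUnit_of_map_unit ψ _ h1)⟩
  have hs : Spec.map (CommRingCat.ofHom χ) ≫ QA.spec = QC.spec ≫ Spec.map (CommRingCat.ofHom ψ) := by
    rw [← hA, ← hC, ← Spec.map_comp, ← Spec.map_comp]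
    refine congrArg Spec.map (CommRingCat.hom_ext (RingHom.ext fun x => ?_))
    simp [χ]
  have hz : EtAcyc.IsZeroAcyclic (Spec.map (CommRingCat.ofHom χ)) :=
    EtAcycX.apply_onStrict' h (EtBCQ.Spec_closedPoint' ψ) QA QC χ hs
  haveI : IsDomain QA.R := eA.symm.injective.isDomain
  let U : (Spec (CommRingCat.of QA.R)).Opens := PrimeSpectrum.basicOpen (eA a)
  haveI : PreirreducibleSpace (PrimeSpectrum QA.R) := inferInstance
  haveI : ConnectedSpace ↥(U : Scheme.{u}) := by
    have hne : (U : Set ↥(Spec (CommRingCat.of QA.R))).Nonempty := ⟨⟨⊥, Ideal.bot_prime⟩, by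
      show eA a ∉ (⊥ : Ideal QA.R)
      simpa using ha⟩
    haveI : PreirreducibleSpace ↥(Spec (CommRingCat.of QA.R)) :=
      inferInstanceAs (PreirreducibleSpace (PrimeSpectrum QA.R))
    have hirr : IsIrreducible (U : Set ↥(Spec (CommRingCat.of QA.R))) :=
      ⟨hne, PreirreducibleSpace.isPreirreducible_univ.open_subset U.2 (Set.subset_univ _)⟩
    exact isConnected_iff_connectedSpace.1 hirr.isConnected
  have hW := connectedSpace_preimage _ hz U
  have hW' : _root_.IsPreconnected ((Spec.map (CommRingCat.ofHom χ) ⁻¹ᵁ U : (Spec (CommRingCat.of QC.R)).Opens) : Set ↥(Spec (CommRingCat.of QC.R))) :=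
    (isConnected_iff_connectedSpace.2 hW).isPreconnected
  let ec : PrimeSpectrum QC.R → PrimeSpectrum C := PrimeSpectrum.comap eC.toRingHom
  have hec : Function.Bijective ec := (PrimeSpectrum.homeomorphOfRingEquiv eC.symm).bijective
  have h2 : (PrimeSpectrum.basicOpen (ψ a) : Set (PrimeSpectrum C)) =
      ec '' ((Spec.map (CommRingCat.ofHom χ) ⁻¹ᵁ U : (Spec (CommRingCat.of QC.R)).Opens) : Set ↥(Spec (CommRingCat.of QC.R))) := by
    refine Set.ext fun z => ?_
    obtain ⟨w, rfl⟩ := hec.2 z
    rw [hec.1.mem_set_image]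
    show eC (ψ a) ∉ w.asIdeal ↔ χ (eA a) ∉ w.asIdeal
    simp [χ]
  rw [h2]
  exact hW'.image ec (PrimeSpectrum.continuous_comap _).continuousOn

/-- idempotents at the generic point of the base are trivial -/
theorem idem_trivial_of_preconnected {A C D : Type u} [CommRing A] [CommRing C] [Algebra A C] [CommRing D] [Algebra C D]
    (M : Submonoid A) [IsLocalization (Algebra.algebraMapSubmonoid C M) D]
    (h : ∀ a ∈ M, _root_.IsPreconnected (PrimeSpectrum.basicOpen (algebraMap A C a) : Set (PrimeSpectrum C)))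
    (e : D) (he : IsIdempotentElem e) : e = 0 ∨ e = 1 := by
  obtain ⟨c, ⟨s, a, ha, rfl⟩, rfl⟩ := IsLocalization.exists_mk'_eq (Algebra.algebraMapSubmonoid C M) e
  let S₀ : Algebra.algebraMapSubmonoid C M := ⟨algebraMap A C a, a, ha, rfl⟩
  let e := IsLocalization.mk' D c S₀
  change IsIdempotentElem e at he
  show e = 0 ∨ e = 1
  have hs : e * algebraMap C D (algebraMap A C a) = algebraMap C D c := IsLocalization.mk'_spec D c S₀
  have hcc : algebraMap C D (c * c) = algebraMap C D (c * algebraMap A C a) := by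
    rw [map_mul, map_mul, ← hs]
    linear_combination (algebraMap C D (algebraMap A C a) * algebraMap C D (algebraMap A C a)) * he.eq
  obtain ⟨⟨_, b, hb, rfl⟩, ht⟩ := (IsLocalization.eq_iff_exists (Algebra.algebraMapSubmonoid C M) D).1 hcc
  let s := algebraMap A C a
  let t := algebraMap A C b
  change t * (c * c) = t * (c * s) at ht
  have hu : IsUnit (algebraMap C D (algebraMap A C (a * b))) :=
    IsLocalization.map_units D (⟨_, a * b, mul_mem ha hb, rfl⟩ : Algebra.algebraMapSubmonoid C M)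
  have hO : ∀ z ∈ (PrimeSpectrum.basicOpen (algebraMap A C (a * b)) : Set (PrimeSpectrum C)),
      s ∉ z.asIdeal ∧ t ∉ z.asIdeal := fun z hz => by
    have h1 : algebraMap A C (a * b) ∉ z.asIdeal := hz
    rw [map_mul] at h1
    exact ⟨fun h => h1 (z.asIdeal.mul_mem_right _ h), fun h => h1 (z.asIdeal.mul_mem_left _ h)⟩
  have hnil : ∀ d : C, (∀ z ∈ (PrimeSpectrum.basicOpen
      (algebraMap A C (a * b)) : Set (PrimeSpectrum C)), d ∈ z.asIdeal) → IsNilpotent (algebraMap C D d) := fun d hd => by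
    have h1 : IsNilpotent (algebraMap A C (a * b) * d) := nilpotent_iff_mem_prime.2 fun P hP => by
      by_cases hab : algebraMap A C (a * b) ∈ P
      · exact P.mul_mem_right _ hab
      · exact P.mul_mem_left _ (hd ⟨P, hP⟩ hab)
    have h2 := h1.map (algebraMap C D)
    rw [map_mul] at h2
    exact isNilpotent_of_unit_mul hu h2
  have hcov := h (a * b) (mul_mem ha hb) (PrimeSpectrum.basicOpen c : Set (PrimeSpectrum C))
    (PrimeSpectrum.basicOpen (s - c) : Set (PrimeSpectrum C)) (PrimeSpectrum.basicOpen c).isOpen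
    (PrimeSpectrum.basicOpen (s - c)).isOpen fun z hz => by
      by_contra hne
      simp only [Set.mem_union, SetLike.mem_coe, PrimeSpectrum.mem_basicOpen, not_or, not_not] at hne
      exact (hO z hz).1 (by simpa using z.asIdeal.add_mem hne.1 hne.2)
  have hunit : IsUnit (algebraMap C D s) := IsLocalization.map_units D S₀
  by_cases h1 : ∀ z ∈ (PrimeSpectrum.basicOpen (algebraMap A C (a * b)) : Set (PrimeSpectrum C)), c ∈ z.asIdeal
  · left
    have h3 := hnil c h1
    rw [← hs] at h3
    exact he.eq_zero_of_isNilpotent (isNilpotent_of_unit_mul hunit (by rwa [mul_comm]))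
  by_cases h2 : ∀ z ∈ (PrimeSpectrum.basicOpen (algebraMap A C (a * b)) : Set (PrimeSpectrum C)), s - c ∈ z.asIdeal
  · right
    have h3 := hnil (s - c) h2
    rw [map_sub, ← hs, show algebraMap C D s - e * algebraMap C D s = (1 - e) * algebraMap C D s by ring] at h3
    exact (sub_eq_zero.1 (he.one_sub.eq_zero_of_isNilpotent
      (isNilpotent_of_unit_mul hunit (by rwa [mul_comm])))).symm
  exfalso
  push Not at h1 h2
  obtain ⟨z₁, hz₁, hz₁'⟩ := h1
  obtain ⟨z₂, hz₂, hz₂'⟩ := h2
  obtain ⟨z, hz, hzc, hzsc⟩ := hcov ⟨z₁, hz₁, hz₁'⟩ ⟨z₂, hz₂, hz₂'⟩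
  have h0 : t * (c * (s - c)) ∈ z.asIdeal := by
    rw [show t * (c * (s - c)) = t * (c * s) - t * (c * c) by ring, ← ht, sub_self]
    exact zero_mem _
  rcases z.2.mem_or_mem h0 with h | h
  · exact (hO z hz).2 h
  rcases z.2.mem_or_mem h with h | h
  · exact hzc h
  · exact hzsc h

theorem idem_trivial_tensor {A' C L : Type u} [CommRing A'] [CommRing C] [CommRing L] [Algebra A' C]
    [Algebra A' L] [IsFractionRing A' L]
    (h : ∀ a ∈ nonZeroDivisors A', _root_.IsPreconnected
      (PrimeSpectrum.basicOpen (algebraMap A' C a) : Set (PrimeSpectrum C)))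
    (e : C ⊗[A'] L) (he : IsIdempotentElem e) : e = 0 ∨ e = 1 :=
  idem_trivial_of_preconnected (A := A') (C := C) (D := C ⊗[A'] L) (nonZeroDivisors A') h e he

/-- idempotents over the fraction field of the base -/
theorem idem_trivial_fractionRing {A B A' L : Type u} [CommRing A] [CommRing B] [CommRing A'] [CommRing L]
    [Algebra A B] [Algebra A A'] [Algebra A L] [Algebra A' L] [IsScalarTower A A' L] [IsFractionRing A' L]
    (h : ∀ a ∈ nonZeroDivisors A', _root_.IsPreconnected
      (PrimeSpectrum.basicOpen (algebraMap A' (A' ⊗[A] B) a) : Set (PrimeSpectrum (A' ⊗[A] B))))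
    (e : B ⊗[A] L) (he : IsIdempotentElem e) : e = 0 ∨ e = 1 := by
  let δ : (A' ⊗[A] B) ⊗[A'] L ≃+* B ⊗[A] L := ((Algebra.TensorProduct.comm A' (A' ⊗[A] B) L).toRingEquiv.trans
    (Algebra.TensorProduct.cancelBaseChange A A' L L B).toRingEquiv).trans
      (Algebra.TensorProduct.comm A L B).toRingEquiv
  rcases idem_trivial_tensor h (δ.symm e) (he.map δ.symm) with h | h
  · exact Or.inl (δ.symm.injective (h.trans (map_zero δ.symm).symm))
  · exact Or.inr (δ.symm.injective (h.trans (map_one δ.symm).symm))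

/-- after base change to a strictly henselian domain integral over the base -/
theorem isPreconnected_uloc {X Y : Scheme.{u}} (g : X ⟶ Y) (hg : EtAcyc.IsULocZeroAcyclic g) {x : X}
    (QX : EtBCQ.SH X x) {y : Y} (QY : EtBCQ.SH Y y) [Algebra QY.R QX.R] [IsLocalHom (algebraMap QY.R QX.R)]
    (hφ : Spec.map (CommRingCat.ofHom (algebraMap QY.R QX.R)) ≫ QY.spec = QX.spec ≫ g)
    (A' : Type u) [CommRing A'] [IsDomain A'] [HenselianLocalRing A'] [IsSepClosed (ResidueField A')]
    [Algebra QY.R A'] [Algebra.IsIntegral QY.R A'] [IsLocalHom (algebraMap QY.R A')] (a : A') (ha : a ≠ 0) :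
    _root_.IsPreconnected (PrimeSpectrum.basicOpen (algebraMap A' (A' ⊗[QY.R] QX.R) a) :
      Set (PrimeSpectrum (A' ⊗[QY.R] QX.R))) := by
  let A := QY.R
  let B := QX.R
  -- the strict localisation over the normal base
  haveI : Nontrivial (B ⊗[A] A') := EtShLib.nontrivial_tensor A B A'
  haveI : IsLocalRing (B ⊗[A] A') := EtAcycX.isLocalRing_tensor A B A'
  let C := A' ⊗[A] B
  let σ : C ≃+* B ⊗[A] A' := (Algebra.TensorProduct.comm A A' B).toRingEquiv
  haveI : Nontrivial C := σ.toEquiv.nontrivial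
  haveI : IsLocalRing C := IsLocalRing.of_surjective' σ.symm.toRingHom σ.symm.surjective
  let iB : B →+* C := (Algebra.TensorProduct.includeRight : B →ₐ[A] C).toRingHom
  letI : Algebra B C := iB.toAlgebra
  haveI : Algebra.IsIntegral B C := Algebra.IsIntegral.of_surjective (R := B)
    ({ σ.symm.toRingHom with
        commutes' := fun b => by
          show σ.symm (algebraMap B (B ⊗[A] A') b) = iB b
          simp [σ, iB]
          rfl } : B ⊗[A] A' →ₐ[B] C) σ.symm.surjective
  haveI : HenselianLocalRing C := Hensel.henselianLocalRing_finite B C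
  haveI : IsSepClosed (ResidueField C) := by
    haveI : IsLocalHom (algebraMap B C) := by
      refine ((local_hom_TFAE (algebraMap B C)).out 0 4).2 ?_
      exact eq_maximalIdeal (Ideal.isMaximal_comap_of_isIntegral_of_isMaximal (R := B) (maximalIdeal C))
    haveI : Algebra.IsIntegral B (ResidueField C) :=
      Algebra.IsIntegral.of_surjective (IsScalarTower.toAlgHom B C _) residue_surjective
    haveI : Algebra.IsIntegral (ResidueField B) (ResidueField C) := Algebra.IsIntegral.tower_top B
    haveI : Algebra.IsAlgebraic (ResidueField B) (ResidueField C) := inferInstance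
    exact Algebra.IsAlgebraic.isSepClosed (F := ResidueField B)
  haveI : IsLocalHom (algebraMap A' C) := by
    refine ((local_hom_TFAE (algebraMap A' C)).out 0 4).2 ?_
    haveI : ((maximalIdeal C).comap (algebraMap A' C)).IsPrime := Ideal.IsPrime.comap _
    refine eq_maximalIdeal (Ideal.isMaximal_of_isIntegral_of_isMaximal_comap (R := A) _ ?_)
    haveI : IsLocalHom iB := by
      refine ((local_hom_TFAE iB).out 0 4).2 ?_
      exact eq_maximalIdeal (Ideal.isMaximal_comap_of_isIntegral_of_isMaximal (R := B) (maximalIdeal C))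
    haveI : IsLocalHom (iB.comp (algebraMap A B)) := RingHom.isLocalHom_comp _ _
    rw [Ideal.comap_comap, show (algebraMap A' C).comp (algebraMap A A') = iB.comp (algebraMap A B) from
      RingHom.ext fun r => (IsScalarTower.algebraMap_apply A A' C r).symm.trans
        ((Algebra.TensorProduct.includeRight : B →ₐ[A] C).commutes r).symm, maximalIdeal_comap]
    infer_instance
  let f := Spec.map (CommRingCat.ofHom (algebraMap A B))
  let t := Spec.map (CommRingCat.ofHom (algebraMap A A'))
  let ε : Spec (CommRingCat.of C) ⟶ pullback f t := (pullbackSpecIso A A' B).inv ≫ (pullbackSymmetry t f).hom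
  have hε : ε ≫ pullback.snd f t = Spec.map (CommRingCat.ofHom (algebraMap A' C)) := by
    rw [Category.assoc, pullbackSymmetry_hom_comp_snd, pullbackSpecIso_inv_fst]
    rfl
  have hloc : EtAcyc.IsLocZeroAcyclic (Spec.map (CommRingCat.ofHom (algebraMap A' C))) :=
    EtAcycX.onStrict_of_weaklyEtale ε (𝟙 _) (hε.trans (Category.comp_id _).symm)
      (isLocZeroAcyclic_snd g hg QX QY (algebraMap A B) hφ _ t)
  exact isPreconnected_basicOpen _ hloc a ha

/-- **Connected geometric fibres** on strict localisations of universally locally 0-acyclic morphisms -/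
theorem connectedSpace_tensor_uloc {X Y : Scheme.{u}} (g : X ⟶ Y) (hg : EtAcyc.IsULocZeroAcyclic g) {x : X}
    (QX : EtBCQ.SH X x) {y : Y} (QY : EtBCQ.SH Y y) [Algebra QY.R QX.R] [IsLocalHom (algebraMap QY.R QX.R)]
    (hφ : Spec.map (CommRingCat.ofHom (algebraMap QY.R QX.R)) ≫ QY.spec = QX.spec ≫ g)
    (Ω : Type u) [Field Ω] [IsAlgClosed Ω] [Algebra QY.R Ω] :
    ConnectedSpace (PrimeSpectrum (QX.R ⊗[QY.R] Ω)) := by
  let A := QY.R
  let B := QX.R
  haveI := surjective_strict g hg QX QY (algebraMap A B) hφ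
  have hsurj : Function.Surjective (PrimeSpectrum.comap (algebraMap A B)) :=
    (Spec.map (CommRingCat.ofHom (algebraMap A B))).surjective
  let p : Ideal A := RingHom.ker (algebraMap A Ω)
  haveI : p.IsPrime := RingHom.ker_isPrime _
  let R₀ := A ⧸ p
  letI : Algebra R₀ Ω := (RingHom.kerLift (algebraMap A Ω)).toAlgebra
  haveI : IsScalarTower A R₀ Ω := IsScalarTower.of_algebraMap_eq fun r => rfl
  have hinj : Function.Injective (algebraMap R₀ Ω) := RingHom.kerLift_injective (algebraMap A Ω)
  haveI : FaithfulSMul R₀ Ω := (faithfulSMul_iff_algebraMap_injective _ _).2 hinj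
  let κ := FractionRing R₀
  letI : Algebra κ Ω := FractionRing.liftAlgebra R₀ Ω
  let L := AlgebraicClosure κ
  letI : Algebra L Ω := (IsAlgClosed.lift : L →ₐ[κ] Ω).toRingHom.toAlgebra
  haveI : IsScalarTower κ L Ω := IsScalarTower.of_algebraMap_eq fun c => ((IsAlgClosed.lift : L →ₐ[κ] Ω).commutes c).symm
  haveI : IsScalarTower A L Ω := IsScalarTower.of_algebraMap_eq fun r => by
    rw [IsScalarTower.algebraMap_apply A κ L, ← IsScalarTower.algebraMap_apply κ L Ω,
      IsScalarTower.algebraMap_apply A R₀ κ, ← IsScalarTower.algebraMap_apply R₀ κ Ω, ← IsScalarTower.algebraMap_apply A R₀ Ω]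
  haveI : Algebra.IsAlgebraic R₀ L := ⟨fun z => (IsFractionRing.isAlgebraic_iff R₀ κ L).mpr (Algebra.IsAlgebraic.isAlgebraic z)⟩
  have hinjL : ∀ z, algebraMap R₀ L z = 0 → z = 0 := fun z hz => by
    apply hinj
    rw [map_zero, IsScalarTower.algebraMap_apply R₀ κ Ω, IsScalarTower.algebraMap_apply κ L Ω,
      ← IsScalarTower.algebraMap_apply R₀ κ L, hz, map_zero]
  let A' := integralClosure R₀ L
  haveI : IsFractionRing A' L := integralClosure.isFractionRing_of_algebraic hinjL
  haveI : HenselianLocalRing R₀ := Hensel.henselianLocalRing_finite A R₀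
  haveI : Algebra.IsIntegral R₀ A' := inferInstance
  haveI : IsLocalRing A' := Hensel.isLocalRing_of_integral_domain R₀ A'
  haveI : Algebra.IsIntegral A A' := Algebra.IsIntegral.trans R₀
  haveI : HenselianLocalRing A' := Hensel.henselianLocalRing_finite A A'
  haveI : IsLocalHom (algebraMap A A') := by
    refine ((local_hom_TFAE (algebraMap A A')).out 0 4).2 ?_
    exact eq_maximalIdeal (Ideal.isMaximal_comap_of_isIntegral_of_isMaximal (R := A) (maximalIdeal A'))
  haveI : IsSepClosed (ResidueField A') := by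
    haveI : Algebra.IsIntegral A (ResidueField A') :=
      Algebra.IsIntegral.of_surjective (IsScalarTower.toAlgHom A A' _) residue_surjective
    haveI : Algebra.IsIntegral (ResidueField A) (ResidueField A') := Algebra.IsIntegral.tower_top A
    haveI : Algebra.IsAlgebraic (ResidueField A) (ResidueField A') := inferInstance
    exact Algebra.IsAlgebraic.isSepClosed (F := ResidueField A)
  -- the generic point
  let D := B ⊗[A] L
  haveI : Nontrivial D := by
    haveI := FFModel.nontrivial_tensor (R := A) (S := B) (K := L) (hsurj _)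
    exact (Algebra.TensorProduct.comm A L B).symm.toEquiv.nontrivial
  haveI : ConnectedSpace (PrimeSpectrum D) := GRingCpl.connectedSpace_of_idem fun e he =>
    idem_trivial_fractionRing (A' := A') (fun a ha => isPreconnected_uloc g hg QX QY hφ A' a
      (nonZeroDivisors.ne_zero ha)) e he
  letI : Algebra L D := (Algebra.TensorProduct.includeRight : L →ₐ[A] D).toRingHom.toAlgebra
  haveI h2 := GRingCpl.connectedSpace_tensor_of_algClosed (Ω := L) (Ω' := Ω) (D := D)
  haveI : IsScalarTower A L D := IsScalarTower.of_algebraMap_eq fun r =>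
    (Algebra.TensorProduct.algebraMap_apply' (R := A) (A := B) (B := L) r)
  let ζ : L ⊗[A] B ≃ₐ[L] D := AlgEquiv.ofRingEquiv (f := (Algebra.TensorProduct.comm A L B).toRingEquiv)
    fun l => rfl
  let e : Ω ⊗[L] D ≃ₐ[Ω] Ω ⊗[A] B :=
    (Algebra.TensorProduct.congr AlgEquiv.refl ζ.symm).trans (Algebra.TensorProduct.cancelBaseChange A L Ω Ω B)
  exact (PrimeSpectrum.homeomorphOfRingEquiv
    (e.toRingEquiv.trans (Algebra.TensorProduct.comm A Ω B).toRingEquiv)).connectedSpace_iff.mp h2

variable {X Y X' Y' : Scheme.{u}} (f : X ⟶ Y) (g : Y' ⟶ Y) (f' : X' ⟶ Y') (g' : X' ⟶ X)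
  [QuasiCompact f] [QuasiSeparated f]

/-- base change for sheaves of sets along universally locally 0-acyclic morphisms -/
theorem isIso_baseChange0Sh_uloc (h : IsPullback g' f' f g) (hg : EtAcyc.IsULocZeroAcyclic g)
    (F : EtDesc.Sh X) : IsIso (EtBC.baseChange0Sh f g f' g' h.w F) := by
  refine EtShLib.isIso_baseChange0Sh_of_strict f g f' g' h (fun y' => ?_) F
  let QY := EtBCQ.mkSH Y (g y')
  let Q' := EtBCQ.mkSH Y' y'
  obtain ⟨φ, hl, hφ⟩ := EtBCQ.exists_strict_hom QY (Q'.spec ≫ g) (by rw [Scheme.Hom.comp_apply, Q'.spec_closed])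
  refine ⟨QY, Q', φ, hl, hφ, fun G => ?_⟩
  letI : Algebra QY.R Q'.R := φ.toAlgebra
  haveI : IsLocalHom (algebraMap QY.R Q'.R) := hl
  have hsq := EtShLib.isPullback_xMap f g f' g' QY Q' φ hφ h
  let m := EtShLib.xMap f g f' g' h.w QY Q' φ hφ
  refine EtShLib.isIso_unit m (fun S' t => ?_) (fun Ω _ _ s => ?_) G
  · have hP := (IsPullback.of_hasPullback m t).paste_horiz hsq.flip
    have e : pullback.snd m t = hP.isoPullback.hom ≫ pullback.snd _ _ := hP.isoPullback_hom_snd.symm
    rw [e]
    exact (isQuotientMap_strict g hg Q' QY φ hφ S' _).comp hP.isoPullback.hom.homeomorph.isQuotientMap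
  · obtain ⟨ψ, hψ⟩ := Spec.map_surjective (s ≫ pullback.snd f QY.spec)
    letI : Algebra QY.R Ω := ψ.hom.toAlgebra
    haveI := connectedSpace_tensor_uloc g hg Q' QY hφ Ω
    have hP := (IsPullback.of_hasPullback m s).paste_horiz hsq.flip.flip.flip
    rw [← hψ] at hP
    exact (hP.isoPullback.hom.homeomorph).connectedSpace_iff.mpr
      ((pullbackSpecIso QY.R Q'.R Ω).hom.homeomorph.connectedSpace_iff.mpr
        (inferInstanceAs (ConnectedSpace (PrimeSpectrum (Q'.R ⊗[QY.R] Ω)))))

end Groth.Agent.EtShSep
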