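import Groth.Agent.EtShSep.Chart
import Groth.Agent.FinHopf.PerfTensor
import Groth.Agent.EtShLib.BaseChange
import Mathlib

/-!
Over a zero dimensional base every algebra is locally acyclic: idempotents and topology are unchanged by nil ideals.
-/

set_option autoImplicit false
set_option backward.isDefEq.respectTransparency false
set_option backward.isDefEq.respectTransparency.types false
set_option maxHeartbeats 1200000
set_option synthInstance.maxHeartbeats 200000
set_option linter.style.haveILetI false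
set_option linter.unusedSectionVars false

universe u

open CategoryTheory CategoryTheory.Limits AlgebraicGeometry Opposite IsLocalRing
open scoped TensorProduct

noncomputable section

namespace Groth.Agent.EtShSep

/-- surjective with nil kernel -/
def NilSurj {R S : Type u} [CommRing R] [CommRing S] (f : R →+* S) : Prop :=
  Function.Surjective f ∧ ∀ x, f x = 0 → IsNilpotent x

theorem NilSurj.comp {R S T : Type u} [CommRing R] [CommRing S] [CommRing T] {g : S →+* T} {f : R →+* S}
    (hg : NilSurj g) (hf : NilSurj f) : NilSurj (g.comp f) := by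
  refine ⟨hg.1.comp hf.1, fun x hx => ?_⟩
  obtain ⟨n, hn⟩ := hg.2 (f x) hx
  obtain ⟨m, hm⟩ := hf.2 (x ^ n) (by rw [map_pow, hn])
  exact ⟨n * m, by rw [pow_mul, hm]⟩

theorem nilSurj_of_bijective {R S : Type u} [CommRing R] [CommRing S] (f : R →+* S) (hf : Function.Bijective f) :
    NilSurj f :=
  ⟨hf.2, fun x hx => ⟨1, by rw [pow_one]; exact hf.1 (hx.trans (map_zero f).symm)⟩⟩

theorem nilSurj_of_equiv {R S : Type u} [CommRing R] [CommRing S] (e : R ≃+* S) : NilSurj e.toRingHom :=
  nilSurj_of_bijective _ e.bijective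

theorem nilSurj_lTensor {S T M N : Type u} [CommRing S] [CommRing T] [CommRing M] [CommRing N] [Algebra S T]
    [Algebra S M] [Algebra S N] (f : M →ₐ[S] N) (hf : NilSurj f.toRingHom) :
    NilSurj (Algebra.TensorProduct.map (AlgHom.id S T) f).toRingHom := by
  refine ⟨TensorProduct.map_surjective Function.surjective_id hf.1, fun x hx => ?_⟩
  have h : x ∈ RingHom.ker (Algebra.TensorProduct.map (AlgHom.id S T) f) := hx
  rw [Algebra.TensorProduct.lTensor_ker f hf.1] at h
  refine mem_nilradical.1 ((Ideal.map_le_iff_le_comap.2 fun y hy => ?_) h)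
  exact mem_nilradical.2 ((hf.2 y hy).map (Algebra.TensorProduct.includeRight : M →ₐ[S] T ⊗[S] M))

theorem NilSurj.exists_idem {R S : Type u} [CommRing R] [CommRing S] {f : R →+* S} (hf : NilSurj f) {e : S}
    (he : IsIdempotentElem e) : ∃ z : R, IsIdempotentElem z ∧ f z = e :=
  exists_isIdempotentElem_eq_of_ker_isNilpotent f (fun x hx => hf.2 x hx) e (hf.1 e) he

theorem NilSurj.idem_ext {R S : Type u} [CommRing R] [CommRing S] {f : R →+* S} (hf : NilSurj f) {a b : R}
    (ha : IsIdempotentElem a) (hb : IsIdempotentElem b) (h : f a = f b) : a = b :=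
  eq_of_isNilpotent_sub_of_isIdempotentElem ha hb (hf.2 _ (by rw [map_sub, h, sub_self]))

/-- idempotents lift through a nil extension to an algebra with a model and reduced fibres -/
theorem idemLifts_of_nilSurj {A C : Type u} [CommRing A] [CommRing C] [Algebra A C] {R₀ L : Type u} [CommRing R₀]
    [Field L] [Algebra A L] [Algebra A R₀] [Algebra R₀ L] [IsScalarTower A R₀ L] (A' : Subalgebra R₀ L)
    (hic : ∀ x : L, IsIntegral A' x → x ∈ A') (hfrac : ∀ l : L, ∃ a ∈ A', a ≠ 0 ∧ a * l ∈ A')
    (Cn : Type u) [CommRing Cn] [Algebra A Cn] [Algebra A' Cn] [Algebra C Cn] [IsScalarTower A C Cn]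
    [IsScalarTower A A' Cn] (hm : HasModel A' Cn)
    (hred : ∀ (K : Type u) [Field K] [Algebra A' K], IsReduced (K ⊗[A'] Cn))
    (hπ : NilSurj (Algebra.TensorProduct.lift (Algebra.ofId C Cn) (IsScalarTower.toAlgHom A A' Cn)
      (fun _ _ => .all _ _) : C ⊗[A] A' →ₐ[C] Cn).toRingHom) : IdemLifts A C A' := by
  intro D _ _ _ _ _ e he
  let Dn := Cn ⊗[C] D
  let i₂ : D →ₐ[A] Dn := (Algebra.TensorProduct.includeRight : D →ₐ[C] Dn).restrictScalars A
  let P : A' ⊗[A] D →ₐ[A'] Dn := Algebra.TensorProduct.lift (Algebra.ofId A' Dn) i₂ (fun _ _ => .all _ _)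
  have hP : NilSurj P.toRingHom := by
    have h1 : NilSurj ((Algebra.TensorProduct.comm C D Cn).toRingEquiv.toRingHom.comp
        ((Algebra.TensorProduct.map (AlgHom.id C D) (Algebra.TensorProduct.lift (Algebra.ofId C Cn)
          (IsScalarTower.toAlgHom A A' Cn) (fun _ _ => .all _ _) : C ⊗[A] A' →ₐ[C] Cn)).toRingHom.comp
          (((Algebra.TensorProduct.comm A A' D).toRingEquiv.trans
            (Algebra.TensorProduct.cancelBaseChange A C D D A').symm.toRingEquiv).toRingHom))) :=
      (nilSurj_of_equiv _).comp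
        ((nilSurj_lTensor _ hπ).comp (nilSurj_of_equiv _))
    convert h1 using 1
    refine RingHom.ext fun x => ?_
    induction x using TensorProduct.induction_on with
    | zero => simp
    | tmul a d =>
      simp [P, i₂, Dn, Algebra.TensorProduct.tmul_mul_tmul]
    | add x y hx hy => simp only [map_add, hx, hy]
  let T : D ⊗[A] L →+* Dn ⊗[A'] L :=
    (Algebra.TensorProduct.comm A' L Dn).toRingEquiv.toRingHom.comp
      ((Algebra.TensorProduct.map (AlgHom.id A' L) P).toRingHom.comp
        (((Algebra.TensorProduct.comm A D L).toRingEquiv.trans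
          (Algebra.TensorProduct.cancelBaseChange A A' L L D).symm.toRingEquiv).toRingHom))
  have hT : NilSurj T := (nilSurj_of_equiv _).comp
    ((nilSurj_lTensor _ hP).comp (nilSurj_of_equiv _))
  obtain ⟨z₂, hz₂, hz₂e⟩ := idemLifts_of_model hm hred (⊥ : Subalgebra A' L) (fun x hx => by
    haveI : Algebra.IsIntegral A' (⊥ : Subalgebra A' L) := ⟨fun y => by
      obtain ⟨a, ha⟩ := Algebra.mem_bot.1 y.2
      rw [show y = algebraMap A' (⊥ : Subalgebra A' L) a from Subtype.ext ha.symm]
      exact isIntegral_algebraMap⟩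
    exact Algebra.mem_bot.2 ⟨⟨x, hic x (isIntegral_trans (R := A') x hx)⟩, rfl⟩) (fun l => by
    obtain ⟨a, ha, ha0, hal⟩ := hfrac l
    exact ⟨a, Algebra.mem_bot.2 ⟨⟨a, ha⟩, rfl⟩, ha0, Algebra.mem_bot.2 ⟨⟨_, hal⟩, rfl⟩⟩) Dn (T e) (he.map T)
  let σ : (⊥ : Subalgebra A' L) ≃ₐ[A'] A' := Algebra.botEquivOfInjective Subtype.val_injective
  let r : Dn ⊗[A'] (⊥ : Subalgebra A' L) →ₐ[A'] Dn :=
    Algebra.TensorProduct.lift (AlgHom.id A' Dn) ((Algebra.ofId A' Dn).comp σ.toAlgHom) (fun _ _ => .all _ _)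
  have hr : ∀ w, Algebra.TensorProduct.map (AlgHom.id A' Dn) (IsScalarTower.toAlgHom A' (⊥ : Subalgebra A' L) L) w =
      r w ⊗ₜ[A'] (1 : L) := fun w => by
    induction w using TensorProduct.induction_on with
    | zero => simp
    | tmul d b =>
      obtain ⟨a, rfl⟩ := σ.symm.surjective b
      have hb : IsScalarTower.toAlgHom A' (⊥ : Subalgebra A' L) L (σ.symm a) = algebraMap A' L a :=
        ((IsScalarTower.toAlgHom A' (⊥ : Subalgebra A' L) L).comp σ.symm.toAlgHom).commutes a
      rw [Algebra.TensorProduct.map_tmul, hb, Algebra.algebraMap_eq_smul_one, ← TensorProduct.smul_tmul]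
      simp [r, Algebra.smul_def, mul_comm]
    | add x y hx hy => simp only [map_add, hx, hy, TensorProduct.add_tmul]
  obtain ⟨z', hz', hz'e⟩ := hP.exists_idem (hz₂.map r)
  let z := Algebra.TensorProduct.comm A A' D z'
  refine ⟨z, hz'.map (Algebra.TensorProduct.comm A A' D), hT.idem_ext
    ((hz'.map (Algebra.TensorProduct.comm A A' D)).map _) he ?_⟩
  rw [← hz₂e, hr, ← hz'e]
  clear hz' hz'e
  show T (Algebra.TensorProduct.map _ _ (Algebra.TensorProduct.comm A A' D z')) = P z' ⊗ₜ[A'] (1 : L)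
  induction z' using TensorProduct.induction_on with
  | zero => simp
  | tmul a d =>
    rw [show P (a ⊗ₜ[A] d) = a • i₂ d by simp [P, Algebra.smul_def], TensorProduct.smul_tmul,
      ← Algebra.algebraMap_eq_smul_one]
    simp [T, P, i₂]
  | add x y hx hy => simp only [map_add, hx, hy, TensorProduct.add_tmul]

/-- the reduced quotient after passing to an algebraically closed field -/
theorem exists_reduced_model {A00 C00 : Type u} [CommRing A00] [CommRing C00] [Algebra A00 C00]
    (K : Type u) [Field K] [IsAlgClosed K] [Algebra A00 K]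
    (A' : Type u) [CommRing A'] [Algebra A00 A'] [Algebra K A'] [IsScalarTower A00 K A'] :
    ∃ (Cn : Type u) (_ : CommRing Cn) (_ : Algebra A' Cn) (p₀ : A' ⊗[A00] C00 →ₐ[A'] Cn),
      NilSurj p₀.toRingHom ∧ HasModel A' Cn ∧
        ∀ (F : Type u) [Field F] [Algebra A' F], IsReduced (F ⊗[A'] Cn) := by
  let R := K ⊗[A00] C00
  let Rr := R ⧸ nilradical R
  haveI : IsReduced Rr := (Ideal.isRadical_iff_quotient_reduced _).1 (Ideal.radical_isRadical _)
  let c := Algebra.TensorProduct.cancelBaseChange A00 K A' A' C00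
  let m : A' ⊗[K] R →ₐ[A'] A' ⊗[K] Rr :=
    Algebra.TensorProduct.map (AlgHom.id A' A') (Ideal.Quotient.mkₐ K (nilradical R))
  have hm : NilSurj (R := A' ⊗[K] R) (S := A' ⊗[K] Rr) m.toRingHom := nilSurj_lTensor (T := A') (Ideal.Quotient.mkₐ K (nilradical R))
    ⟨Ideal.Quotient.mk_surjective, fun x hx => mem_nilradical.1 (Ideal.Quotient.eq_zero_iff_mem.1 hx)⟩
  refine ⟨A' ⊗[K] Rr, inferInstance, inferInstance, m.comp c.symm.toAlgHom, hm.comp (nilSurj_of_equiv c.symm.toRingEquiv),
    ⟨K, inferInstance, inferInstance, inferInstance, Rr, inferInstance, inferInstance, inferInstance, ⟨AlgEquiv.refl⟩⟩,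
    fun F _ _ => ?_⟩
  letI : Algebra K F := ((algebraMap A' F).comp (algebraMap K A')).toAlgebra
  haveI : IsScalarTower K A' F := IsScalarTower.of_algebraMap_eq fun _ => rfl
  haveI : IsReduced (F ⊗[K] Rr) := FinHopf.isReduced_tensor_of_perfect K Rr F
  exact isReduced_of_injective _ (Algebra.TensorProduct.cancelBaseChange K A' F F Rr).injective

/-- over a zero dimensional base, idempotents lift on every chart -/
theorem idemLifts_discrete {A00 A C00 : Type u} [CommRing A00] [CommRing A] [CommRing C00] [Algebra A00 A]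
    [Algebra A00 C00] (hmax : ∀ p : Ideal A00, p.IsPrime → p.IsMaximal) {R₀ L : Type u} [CommRing R₀] [Field L]
    [IsAlgClosed L] [Algebra A L] [Algebra A R₀] [Algebra R₀ L] [IsScalarTower A R₀ L] (A' : Subalgebra R₀ L)
    (hic : ∀ x : L, IsIntegral A' x → x ∈ A') (hfrac : ∀ l : L, ∃ a ∈ A', a ≠ 0 ∧ a * l ∈ A') :
    IdemLifts A (A ⊗[A00] C00) A' := by
  letI : Algebra A00 L := ((algebraMap A L).comp (algebraMap A00 A)).toAlgebra
  letI : Algebra A00 A' := ((algebraMap A A').comp (algebraMap A00 A)).toAlgebra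
  haveI : IsScalarTower A00 A A' := IsScalarTower.of_algebraMap_eq fun _ => rfl
  haveI : IsScalarTower A00 A L := IsScalarTower.of_algebraMap_eq fun _ => rfl
  haveI : IsScalarTower A00 A' L := IsScalarTower.of_algebraMap_eq fun a => IsScalarTower.algebraMap_apply A A' L _
  let p : Ideal A00 := RingHom.ker (algebraMap A00 L)
  haveI : p.IsMaximal := hmax p (RingHom.ker_isPrime _)
  let k := A00 ⧸ p
  letI : Field k := Ideal.Quotient.field p
  letI : Algebra k L := (RingHom.kerLift (algebraMap A00 L)).toAlgebra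
  haveI : IsScalarTower A00 k L := IsScalarTower.of_algebraMap_eq fun _ => rfl
  let K := AlgebraicClosure k
  let j : K →ₐ[k] L := IsAlgClosed.lift
  have hj : ∀ x : K, j x ∈ A' := fun x => hic _ (by
    haveI : Algebra.IsIntegral A00 k := Algebra.IsIntegral.of_surjective (IsScalarTower.toAlgHom A00 A00 k) Ideal.Quotient.mk_surjective
    exact (isIntegral_trans (R := A00) (A := k) (j x)
      ((Algebra.IsIntegral.isIntegral (R := k) x).map j)).tower_top)
  letI : Algebra K A' := (j.toRingHom.codRestrict A'.toSubring hj).toAlgebra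
  haveI : IsScalarTower A00 K A' := IsScalarTower.of_algebraMap_eq fun a => Subtype.ext (by
    show algebraMap A00 L a = j (algebraMap A00 K a)
    rw [IsScalarTower.algebraMap_apply A00 k K, j.commutes, ← IsScalarTower.algebraMap_apply A00 k L])
  obtain ⟨Cn, _, _, p₀, hp₀, hm, hred⟩ := exists_reduced_model (A00 := A00) (C00 := C00) K A'
  let ι : A ⊗[A00] C00 →ₐ[A00] A' ⊗[A00] C00 :=
    Algebra.TensorProduct.map (IsScalarTower.toAlgHom A00 A A') (AlgHom.id A00 C00)
  letI : Algebra (A ⊗[A00] C00) Cn := (p₀.toRingHom.comp ι.toRingHom).toAlgebra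
  letI : Algebra A Cn := ((algebraMap A' Cn).comp (algebraMap A A')).toAlgebra
  haveI : IsScalarTower A A' Cn := IsScalarTower.of_algebraMap_eq fun _ => rfl
  haveI : IsScalarTower A (A ⊗[A00] C00) Cn := IsScalarTower.of_algebraMap_eq fun a => by
    show algebraMap A' Cn (algebraMap A A' a) = p₀ (ι (a ⊗ₜ 1))
    rw [← p₀.commutes]
    rfl
  refine idemLifts_of_nilSurj A' hic hfrac Cn hm (fun F _ _ => hred F) ?_
  have h1 : NilSurj (p₀.toRingHom.comp ((Algebra.TensorProduct.comm A (A ⊗[A00] C00) A').toRingEquiv.trans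
      (Algebra.TensorProduct.cancelBaseChange A00 A A' A' C00).toRingEquiv).toRingHom) :=
    hp₀.comp (nilSurj_of_equiv _)
  convert h1 using 1
  refine RingHom.ext fun x => ?_
  induction x using TensorProduct.induction_on with
  | zero => simp
  | tmul c a =>
    induction c using TensorProduct.induction_on with
    | zero => simp
    | tmul a₀ c₀ =>
      have h2 : algebraMap (A ⊗[A00] C00) Cn (a₀ ⊗ₜ c₀) = p₀ (algebraMap A A' a₀ ⊗ₜ c₀) := rfl
      have h3 : algebraMap A' Cn a = p₀ (a ⊗ₜ 1) := (p₀.commutes a).symm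
      simp [h2, h3, ← map_mul, Algebra.smul_def, mul_comm]
    | add u v hu hv => simp only [TensorProduct.add_tmul, map_add, hu, hv]
  | add x y hx hy => simp only [map_add, hx, hy]

/-- in a ring all of whose primes are maximal, primes of algebras contract to nil ideals on local algebras -/
theorem isNilpotent_algebraMap {A00 A : Type u} [CommRing A00] [CommRing A] [IsLocalRing A] [Algebra A00 A]
    (hmax : ∀ p : Ideal A00, p.IsPrime → p.IsMaximal) {t : A00} (ht : algebraMap A00 A t ∈ maximalIdeal A) :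
    IsNilpotent (algebraMap A00 A t) := by
  rw [nilpotent_iff_mem_prime]
  intro P hP
  exact ((hmax _ (hP.comap (algebraMap A00 A))).eq_of_le (Ideal.IsPrime.ne_top
      (Ideal.comap_isPrime (algebraMap A00 A) (maximalIdeal A)))
      (Ideal.comap_mono (IsLocalRing.le_maximalIdeal hP.ne_top))).symm.le ht

attribute [local instance] Algebra.TensorProduct.rightAlgebra in
/-- flatness of the base change to an algebra over the residue field -/
theorem flat_tensor_of_field {A00 A C00 : Type u} [CommRing A00] [CommRing A] [CommRing C00] [Algebra A00 A]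
    [Algebra A00 C00] {k : Type u} [Field k] [Algebra A00 k] (Ab : Type u) [CommRing Ab] [Algebra A Ab]
    [Algebra A00 Ab] [IsScalarTower A00 A Ab] [Algebra k Ab] [IsScalarTower A00 k Ab] (B : Type u) [CommRing B]
    [Algebra (A ⊗[A00] C00) B] [Algebra A B] [IsScalarTower A (A ⊗[A00] C00) B] [Module.Flat (A ⊗[A00] C00) B] :
    Module.Flat Ab (Ab ⊗[A] B) := by
  let C := A ⊗[A00] C00
  haveI h0 : Module.Flat Ab (Ab ⊗[A] C) := Module.Flat.of_linearEquiv
    ((Algebra.TensorProduct.cancelBaseChange A00 A Ab Ab C00).trans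
      (Algebra.TensorProduct.cancelBaseChange A00 k Ab Ab C00).symm).toLinearEquiv
  haveI : Module.Flat (Ab ⊗[A] C) ((Ab ⊗[A] C) ⊗[C] B) := Module.Flat.baseChange C (Ab ⊗[A] C) B
  haveI : Module.Flat Ab ((Ab ⊗[A] C) ⊗[C] B) := Module.Flat.trans Ab (Ab ⊗[A] C) ((Ab ⊗[A] C) ⊗[C] B)
  let e : (Ab ⊗[A] C) ⊗[C] B ≃ₐ[Ab] Ab ⊗[A] B :=
    Algebra.IsPushout.cancelBaseChangeAlg A Ab C (Ab ⊗[A] C) B
  exact Module.Flat.of_linearEquiv e.symm.toLinearEquiv

/-- flatness holds up to a nil ideal, so the map is universally submersive -/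
theorem isQuotientMap_of_nil {A B : Type u} [CommRing A] [IsLocalRing A] [CommRing B] [IsLocalRing B] [Algebra A B]
    [IsLocalHom (algebraMap A B)] (N : Ideal A) (hN : ∀ x ∈ N, IsNilpotent x)
    [Module.Flat (A ⧸ N) ((A ⧸ N) ⊗[A] B)] :
    Function.Surjective (PrimeSpectrum.comap (algebraMap A B)) ∧ ∀ (S' : Scheme.{u}) (t : S' ⟶ Spec (CommRingCat.of A)),
      Topology.IsQuotientMap (pullback.snd (Spec.map (CommRingCat.ofHom (algebraMap A B))) t) := by
  let Ab := A ⧸ N
  have hNtop : N ≠ ⊤ := fun h => not_isNilpotent_one (R := A) (hN 1 (h ▸ Submodule.mem_top))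
  haveI : Nontrivial Ab := Ideal.Quotient.nontrivial_iff.2 hNtop
  haveI : IsLocalRing Ab := IsLocalRing.of_surjective' _ Ideal.Quotient.mk_surjective
  haveI : IsLocalHom (algebraMap A Ab) := IsLocalHom.of_surjective (Ideal.Quotient.mk N) Ideal.Quotient.mk_surjective
  haveI : Nontrivial (B ⊗[A] Ab) := EtShLib.nontrivial_tensor A B Ab
  haveI : Nontrivial (Ab ⊗[A] B) := (Algebra.TensorProduct.comm A Ab B).toEquiv.nontrivial
  let rb : B →ₐ[A] Ab ⊗[A] B := Algebra.TensorProduct.includeRight
  have hrb : Function.Surjective rb := fun x => by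
    induction x using TensorProduct.induction_on with
    | zero => exact ⟨0, map_zero rb⟩
    | tmul a b =>
      obtain ⟨a, rfl⟩ := Ideal.Quotient.mk_surjective a
      exact ⟨a • b, by show (1 : Ab) ⊗ₜ (a • b) = _; rw [← TensorProduct.smul_tmul, Algebra.smul_def, mul_one]; rfl⟩
    | add x y hx hy =>
      obtain ⟨a, rfl⟩ := hx
      obtain ⟨b, rfl⟩ := hy
      exact ⟨a + b, map_add rb a b⟩
  haveI : IsLocalRing (Ab ⊗[A] B) := IsLocalRing.of_surjective' rb.toRingHom hrb
  haveI : IsLocalHom (algebraMap Ab (Ab ⊗[A] B)) := ⟨fun x hx => by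
    obtain ⟨a, rfl⟩ := Ideal.Quotient.mk_surjective x
    have h1 : IsUnit (rb (algebraMap A B a)) := by rw [rb.commutes]; exact hx
    haveI := IsLocalHom.of_surjective rb.toRingHom hrb
    exact ((isUnit_of_map_unit rb.toRingHom _ h1).of_map (f := algebraMap A B)).map (Ideal.Quotient.mk N)⟩
  haveI : Module.FaithfullyFlat Ab (Ab ⊗[A] B) := Module.FaithfullyFlat.of_flat_of_isLocalHom
  have hi : Function.Surjective (PrimeSpectrum.comap (algebraMap A Ab)) := fun P => by
    have h : N ≤ P.asIdeal := fun x hx => P.2.radical_le_iff.mpr le_rfl (by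
      obtain ⟨n, hn⟩ := hN x hx
      exact ⟨n, by rw [hn]; exact zero_mem _⟩)
    have h' : P ∈ Set.range (PrimeSpectrum.comap (Ideal.Quotient.mk N)) := by
      rw [range_comap_of_surjective _ _ Ideal.Quotient.mk_surjective, Ideal.mk_ker]
      exact h
    exact h'
  have hb := PrimeSpectrum.comap_surjective_of_faithfullyFlat (A := Ab) (B := Ab ⊗[A] B)
  have hcomm : rb.toRingHom.comp (algebraMap A B) = (algebraMap Ab (Ab ⊗[A] B)).comp (algebraMap A Ab) :=
    RingHom.ext fun a => rb.commutes a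
  refine ⟨fun P => ?_, fun S' t => ?_⟩
  · obtain ⟨Q, rfl⟩ := hi P
    obtain ⟨W, rfl⟩ := hb Q
    exact ⟨PrimeSpectrum.comap rb.toRingHom W, by
      rw [← PrimeSpectrum.comap_comp_apply, hcomm, PrimeSpectrum.comap_comp_apply]⟩
  let f : Spec (CommRingCat.of B) ⟶ Spec (CommRingCat.of A) := Spec.map (CommRingCat.ofHom (algebraMap A B))
  let i : Spec (CommRingCat.of Ab) ⟶ Spec (CommRingCat.of A) := Spec.map (CommRingCat.ofHom (algebraMap A Ab))
  let fb : Spec (CommRingCat.of (Ab ⊗[A] B)) ⟶ Spec (CommRingCat.of Ab) :=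
    Spec.map (CommRingCat.ofHom (algebraMap Ab (Ab ⊗[A] B)))
  let k : Spec (CommRingCat.of (Ab ⊗[A] B)) ⟶ Spec (CommRingCat.of B) := Spec.map (CommRingCat.ofHom rb.toRingHom)
  haveI : Flat fb := by
    rw [HasRingHomProperty.Spec_iff (P := @Flat)]
    exact RingHom.flat_algebraMap_iff.mpr inferInstance
  haveI : Surjective fb := ⟨hb⟩
  haveI : IsClosedImmersion i := IsClosedImmersion.spec_of_surjective _ Ideal.Quotient.mk_surjective
  haveI : Surjective i := ⟨hi⟩
  have hk : k ≫ f = fb ≫ i := by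
    show Spec.map _ ≫ Spec.map _ = Spec.map _ ≫ Spec.map _
    rw [← Spec.map_comp, ← Spec.map_comp]
    exact congrArg Spec.map (CommRingCat.hom_ext hcomm)
  let p := pullback.snd i t
  haveI : IsClosedImmersion p := inferInstance
  haveI : Surjective p := inferInstance
  let q := pullback.snd fb (pullback.fst i t)
  let m : pullback fb (pullback.fst i t) ⟶ pullback f t := pullback.lift (pullback.fst fb (pullback.fst i t) ≫ k)
    (q ≫ p) (by rw [Category.assoc, Category.assoc, hk, ← pullback.condition, pullback.condition_assoc])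
  have hp : Topology.IsQuotientMap p :=
    (Scheme.Hom.isClosedEmbedding p).isClosedMap.isQuotientMap p.continuous (Surjective.surj (f := p))
  have hq : Topology.IsQuotientMap q := EtShLib.isQuotientMap_snd_of_flat fb _ _
  have hqp : Topology.IsQuotientMap ⇑(m ≫ pullback.snd f t) := by
    rw [pullback.lift_snd, Scheme.Hom.comp_base, TopCat.coe_comp]
    exact hp.comp hq
  rw [Scheme.Hom.comp_base, TopCat.coe_comp] at hqp
  exact Topology.IsQuotientMap.of_comp m.continuous (pullback.snd f t).continuous hqp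

theorem chartProp_discrete {A00 C00 : Type u} [CommRing A00] [CommRing C00] [Algebra A00 C00]
    (hmax : ∀ p : Ideal A00, p.IsPrime → p.IsMaximal) : ChartProp A00 C00 := by
  intro A _ _ _ _ q _ Cq _ _ _ _ B _ _ _ _ _ _ _ _ _ _
  let m : Ideal A00 := (maximalIdeal A).comap (algebraMap A00 A)
  haveI : m.IsPrime := Ideal.comap_isPrime _ _
  haveI : m.IsMaximal := hmax m inferInstance
  let N : Ideal A := m.map (algebraMap A00 A)
  have hN : ∀ x ∈ N, IsNilpotent x := fun x hx => mem_nilradical.1 ((Ideal.map_le_iff_le_comap.2 fun t ht =>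
    mem_nilradical.2 (isNilpotent_algebraMap hmax ht)) hx)
  let k := A00 ⧸ m
  letI : Field k := Ideal.Quotient.field m
  letI : Algebra k (A ⧸ N) := (Ideal.quotientMap N (algebraMap A00 A) Ideal.le_comap_map).toAlgebra
  haveI : IsScalarTower A00 k (A ⧸ N) := IsScalarTower.of_algebraMap_eq fun _ => rfl
  haveI : Module.Flat (A ⧸ N) ((A ⧸ N) ⊗[A] B) := by
    haveI : Module.Flat (A ⊗[A00] C00) B := EtStrictLoc.flat_strict q Cq B
    exact flat_tensor_of_field (A00 := A00) (A := A) (C00 := C00) (k := k) (A ⧸ N) B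
  obtain ⟨hsurj, hq⟩ := isQuotientMap_of_nil (B := B) N hN
  exact acyclicRingMap_of_connected hq fun Ω _ _ _ => connectedSpace_tensor_of_lifts q Cq B hsurj
    (fun A' hic hfrac => idemLifts_discrete hmax A' hic hfrac) Ω

theorem isULocZeroAcyclic_discrete {X Y : Scheme.{u}} (g : X ⟶ Y) [DiscreteTopology Y] :
    EtAcyc.IsULocZeroAcyclic g := by
  intro X₁ Y₁ g₁ b' b h x RY RX _ _ _ _ _ _ _ _ _ _ _ _ hc
  let QY : EtBCQ.SH Y₁ (g₁.base x) := { R := RY }
  let QX : EtBCQ.SH X₁ x := { R := RX }
  have hX : Spec.map (CommRingCat.ofHom (algebraMap RY RX)) ≫ QY.spec = QX.spec ≫ g₁ :=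
    (EtBCQ.specOf_comp g₁ x RY RX (algebraMap RY RX) hc).symm
  have hA := acyclicRingMap_strict g (fun V U hUV hV hU => by
    refine @chartProp_discrete Γ(Y, V) Γ(X, U) _ _ (g.appLE V U hUV).hom.toAlgebra fun p hp => ?_
    haveI : DiscreteTopology (Spec Γ(Y, V)) :=
      DiscreteTopology.of_continuous_injective hV.fromSpec.continuous hV.fromSpec.isOpenEmbedding.injective
    exact (PrimeSpectrum.isClosed_singleton_iff_isMaximal (⟨p, hp⟩ : PrimeSpectrum Γ(Y, V))).1
      (isClosed_discrete (α := Spec Γ(Y, V)) _)) g₁ b b' h QX QY hX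
  exact EtShLib.isZeroAcyclic_of_connected (Spec.map (CommRingCat.ofHom (algebraMap RY RX))) hA.1
    fun Ω _ _ s => hA.2 Ω s

end Groth.Agent.EtShSep
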