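import Groth.Agent.EtShLib.BaseChange
import Groth.Agent.EtShLib.ConnFib
import Groth.Agent.EtIntegral.Scheme
import Groth.Agent.EtAcycX.GeomFib
import Groth.Agent.EtAcycX.Fibres
import Groth.Agent.EtIntegral.SetPush
import Groth.Agent.Weighting.Semicont
import Groth.Agent.FEtRank.Count
import Mathlib

/-!
Sections of sheaves of sets on schemes integral over a strictly henselian ring only depend on the closed fibre;
base change along integral morphisms.
-/

set_option autoImplicit false
set_option backward.isDefEq.respectTransparency false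
set_option backward.isDefEq.respectTransparency.types false
set_option maxHeartbeats 1000000
set_option linter.style.haveILetI false
set_option linter.unusedSectionVars false
set_option linter.overlappingInstances false

universe u

open CategoryTheory CategoryTheory.Limits AlgebraicGeometry Opposite IsLocalRing

noncomputable section

namespace Groth.Agent.EtShSep

open Groth.Agent.EtShLib

variable {R : Type u} [CommRing R] [IsLocalRing R] {W : Scheme.{u}} (f : W ⟶ Spec (CommRingCat.of R))
  [IsIntegralHom f]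

/-- étale schemes over a strictly henselian ring with a point over the closed point have sections -/
theorem exists_section_etale {R : Type u} [CommRing R] [HenselianLocalRing R] [IsSepClosed (ResidueField R)]
    {V : Scheme.{u}} (p : V ⟶ Spec (CommRingCat.of R)) [Etale p] (v : Spec (CommRingCat.of (ResidueField R)) ⟶ V)
    (hv : v ≫ p = Spec.map (CommRingCat.ofHom (residue R))) :
    ∃ s₀ : Spec (CommRingCat.of R) ⟶ V, s₀ ≫ p = 𝟙 _ := by
  obtain ⟨a, ha, -⟩ := Groth.Agent.EtStrictLoc.exists_lift (R := R) (𝟙 (Spec (CommRingCat.of R))) (Scheme.Etale.mk p) v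
    (hv.trans (Category.comp_id _).symm)
  exact ⟨a, ha⟩

/-- an open subset containing the closed fibre of a morphism integral over a local ring is everything -/
theorem eq_univ_of_closed_fibre {O : Set W} (hO : IsOpen O)
    (h : ∀ w, f w = closedPoint R → w ∈ O) : O = Set.univ := by
  by_contra hne
  obtain ⟨w, hw⟩ := (Set.ne_univ_iff_exists_notMem O).1 hne
  have hcl : IsClosed (f '' Oᶜ) := f.isClosedMap _ hO.isClosed_compl
  obtain ⟨w₀, hw₀, hw₀'⟩ := ((IsLocalRing.specializes_closedPoint (f w)).mem_closed hcl ⟨w, hw, rfl⟩)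
  exact hw₀ (h w₀ hw₀')

/-- residue fields of points étale over the closed fibre are algebraic over the residue field -/
theorem isPurelyInseparable_fibre [IsSepClosed (ResidueField R)] {V : Scheme.{u}}
    (p : V ⟶ Spec (CommRingCat.of (ResidueField R))) (z : V) {W₀ : Scheme.{u}} (a : V ⟶ W₀) [Etale a]
    (b : W₀ ⟶ Spec (CommRingCat.of (ResidueField R))) [IsIntegralHom b] (hab : a ≫ b = p) :
    UniversallyInjective (V.fromSpecResidueField z ≫ p) := by
  subst hab
  obtain ⟨φ, hφ⟩ := Spec.map_surjective (V.fromSpecResidueField z ≫ a ≫ b)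
  rw [← hφ]
  let k := ResidueField R
  letI : Algebra k (V.residueField z) := φ.hom.toAlgebra
  haveI : Algebra.IsIntegral k (V.residueField z) := ⟨by
    obtain ⟨ψ, hψ⟩ := Spec.map_surjective (W₀.fromSpecResidueField (a z) ≫ b)
    have hint : ψ.hom.IsIntegral := by
      haveI : IsClosedImmersion (W₀.fromSpecResidueField (a z)) := by
        refine IsClosedImmersion.of_isPreimmersion _ ?_
        rw [Scheme.range_fromSpecResidueField]
        refine isClosed_of_closure_subset fun w hw => ?_
        have hs : a z ⤳ w := specializes_iff_mem_closure.2 hw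
        exact (Groth.Agent.EtIntegral.eq_of_specializes b hs
          (Subsingleton.elim (α := Spec (CommRingCat.of k)) _ _)).symm
      haveI : IsIntegralHom (Spec.map ψ) := by rw [hψ]; infer_instance
      exact (IsIntegralHom.SpecMap_iff (φ := ψ)).1 inferInstance
    haveI : LocallyQuasiFinite a := Groth.Agent.Weighting.locallyQuasiFinite_of_etale a
    have hfin := (Groth.Agent.EtAcycX.algResidue_of_lqf a z)
    have hcomp : φ = ψ ≫ a.residueFieldMap z := by
      apply Spec.map_injective
      rw [hφ, Spec.map_comp, hψ, Scheme.Hom.SpecMap_residueFieldMap_fromSpecResidueField_assoc]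
    show φ.hom.IsIntegral
    rw [hcomp]
    exact RingHom.IsIntegral.trans _ _ hint hfin⟩
  haveI : Algebra.IsAlgebraic k (V.residueField z) := inferInstance
  haveI : IsPurelyInseparable k (V.residueField z) := inferInstance
  exact Groth.Agent.EtAcycX.universallyInjective_specMap k (V.residueField z)

variable {R' : Type u} [CommRing R'] [IsLocalRing R'] (φ : R →+* R') [IsLocalHom φ] {W' : Scheme.{u}}
  (f' : W' ⟶ Spec (CommRingCat.of R')) (m : W' ⟶ W) (hsq : IsPullback m f' f (Spec.map (CommRingCat.ofHom φ)))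

include hsq in
/-- closed points lift -/
theorem exists_closed_lift (w : W) (hw : f w = closedPoint R) : ∃ w', m w' = w ∧ f' w' = closedPoint R' := by
  obtain ⟨w', h1, h2⟩ := Scheme.exists_preimage_of_isPullback hsq w (closedPoint R') (by
    rw [hw]; exact (EtBCQ.Spec_closedPoint' φ).symm)
  exact ⟨w', h1, h2⟩

/-- the points over the closed point of the upper local ring -/
def clo (V : W.Etale) : Set ((EtCoh.bc m).obj V).left :=
  {q | f' (pullback.snd V.hom m q) = closedPoint R'}

include hsq in
/-- a neighbourhood in an étale chart on which agreement on closed points holds -/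
theorem exists_open_saturated [IsSepClosed (ResidueField R)] (V : W.Etale) (L : Set ((EtCoh.bc m).obj V).left)
    (hL : IsOpen L) (q₀ : ((EtCoh.bc m).obj V).left) (hq₀ : q₀ ∈ L) (hq₀' : q₀ ∈ clo f' m V) :
    ∃ O : V.left.Opens, pullback.fst V.hom m q₀ ∈ O ∧
      ∀ q ∈ clo f' m V, pullback.fst V.hom m q ∈ O → q ∈ L := by
  let ik : Spec (CommRingCat.of (ResidueField R)) ⟶ Spec (CommRingCat.of R) :=
    Spec.map (CommRingCat.ofHom (residue R))
  let ik' : Spec (CommRingCat.of (ResidueField R')) ⟶ Spec (CommRingCat.of R') :=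
    Spec.map (CommRingCat.ofHom (residue R'))
  haveI : IsClosedImmersion ik := IsClosedImmersion.spec_of_surjective _ residue_surjective
  haveI : IsClosedImmersion ik' := IsClosedImmersion.spec_of_surjective _ residue_surjective
  let σ : Spec (CommRingCat.of (ResidueField R')) ⟶ Spec (CommRingCat.of (ResidueField R)) :=
    Spec.map (CommRingCat.ofHom (ResidueField.map φ))
  have hσ : σ ≫ ik = ik' ≫ Spec.map (CommRingCat.ofHom φ) := by
    show Spec.map _ ≫ Spec.map _ = Spec.map _ ≫ Spec.map _
    rw [← Spec.map_comp, ← Spec.map_comp]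
    rfl
  let fV := V.hom ≫ f
  let fV' := pullback.snd V.hom m ≫ f'
  have hV : IsPullback (pullback.fst V.hom m) fV' fV (Spec.map (CommRingCat.ofHom φ)) :=
    (IsPullback.of_hasPullback V.hom m).paste_vert hsq
  let j : pullback fV' ik' ⟶ ((EtCoh.bc m).obj V).left := pullback.fst fV' ik'
  let c : pullback fV' ik' ⟶ pullback fV ik := pullback.lift (j ≫ pullback.fst V.hom m) (pullback.snd fV' ik' ≫ σ) (by
    rw [Category.assoc, Category.assoc, hσ, hV.w]
    exact pullback.condition_assoc _)
  have hc : IsPullback c (pullback.snd fV' ik') (pullback.snd fV ik) σ := by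
    refine IsPullback.of_right ?_ (pullback.lift_snd _ _ _) (IsPullback.of_hasPullback fV ik)
    rw [pullback.lift_fst, hσ]
    exact (IsPullback.of_hasPullback fV' ik').paste_horiz hV
  haveI : Flat σ := by
    letI : Algebra (ResidueField R) (ResidueField R') := (ResidueField.map φ).toAlgebra
    rw [HasRingHomProperty.Spec_iff (P := @Flat)]
    haveI : Module.Free (ResidueField R) (ResidueField R') := Module.Free.of_divisionRing _ _
    exact RingHom.flat_algebraMap_iff.mpr Module.Flat.of_free
  haveI : Surjective σ := ⟨fun x => ⟨closedPoint _, Subsingleton.elim (α := Spec (CommRingCat.of (ResidueField R))) _ _⟩⟩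
  haveI : Flat c := MorphismProperty.of_isPullback (P := @Flat) hc.flip inferInstance
  haveI : QuasiCompact c := MorphismProperty.of_isPullback (P := @QuasiCompact) hc.flip inferInstance
  haveI : Surjective c := MorphismProperty.of_isPullback (P := @Surjective) hc.flip inferInstance
  have hinj : Function.Injective c := by
    intro p₁ p₂ hp
    let z := c p₁
    let b := pullback.snd f ik
    haveI : IsIntegralHom b := inferInstance
    let a : pullback fV ik ⟶ pullback f ik := pullback.lift (pullback.fst fV ik ≫ V.hom) (pullback.snd fV ik)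
      (by rw [Category.assoc]; exact pullback.condition)
    haveI : Etale a := by
      haveI : Etale V.hom := V.prop
      have h0 : IsPullback (pullback.fst fV ik) a V.hom (pullback.fst f ik) :=
        IsPullback.of_bot (IsPullback.of_hasPullback fV ik |> fun h => by
          rw [show a ≫ pullback.snd f ik = pullback.snd fV ik from pullback.lift_snd _ _ _]
          exact h) (pullback.lift_fst _ _ _).symm (IsPullback.of_hasPullback f ik)
      exact MorphismProperty.of_isPullback (P := @Etale) h0 inferInstance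
    haveI := isPurelyInseparable_fibre (pullback.snd fV ik) z a b (pullback.lift_snd _ _ _)
    let u := (pullback fV ik).fromSpecResidueField z
    have hu : ∀ p, c p = z → ∃ x : (pullback u c : Scheme.{u}), pullback.snd u c x = p := fun p hpz => by
      obtain ⟨x, -, hx⟩ := Scheme.Pullback.exists_preimage_pullback (f := u) (g := c) default p
        ((Scheme.fromSpecResidueField_apply z _).trans hpz.symm)
      exact ⟨x, hx⟩
    obtain ⟨x₁, hx₁⟩ := hu p₁ rfl
    obtain ⟨x₂, hx₂⟩ := hu p₂ hp.symm
    rw [← hx₁, ← hx₂]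
    have hP : IsPullback (pullback.fst u c) (pullback.snd u c ≫ pullback.snd fV' ik') (u ≫ pullback.snd fV ik) σ :=
      (IsPullback.of_hasPullback u c).paste_vert hc
    haveI : UniversallyInjective (pullback.snd u c ≫ pullback.snd fV' ik') :=
      MorphismProperty.of_isPullback (P := @UniversallyInjective) hP inferInstance
    rw [(pullback.snd u c ≫ pullback.snd fV' ik').injective
      (Subsingleton.elim (α := Spec (CommRingCat.of (ResidueField R'))) ((pullback.snd u c ≫ pullback.snd fV' ik') x₁) _)]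
  have hopen : IsOpen (c '' (j ⁻¹' L)) := by
    rw [← (Flat.isQuotientMap_of_surjective c).isOpen_preimage, Set.preimage_image_eq _ hinj]
    exact hL.preimage j.continuous
  let i₀ := pullback.fst fV ik
  obtain ⟨O, hO, hOpre⟩ := i₀.isClosedEmbedding.isInducing.isOpen_iff.1 hopen
  have hlift : ∀ q ∈ clo f' m V, ∃ p, j p = q := fun q hq => by
    obtain ⟨p, hp, -⟩ := Scheme.Pullback.exists_preimage_pullback (f := fV') (g := ik') q (closedPoint _)
      (Eq.trans hq (EtBCQ.Spec_closedPoint' (residue R')).symm)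
    exact ⟨p, hp⟩
  have hjc : ∀ p, i₀ (c p) = pullback.fst V.hom m (j p) := fun p => by
    rw [← Scheme.Hom.comp_apply, pullback.lift_fst, Scheme.Hom.comp_apply]
    rfl
  refine ⟨⟨O, hO⟩, ?_, fun q hq hqO => ?_⟩
  · obtain ⟨p, rfl⟩ := hlift q₀ hq₀'
    show pullback.fst V.hom m (j p) ∈ O
    rw [← hjc]
    exact hOpre.ge ⟨p, hq₀, rfl⟩
  · obtain ⟨p, rfl⟩ := hlift q hq
    obtain ⟨p', hp', hpp⟩ := hOpre.le (show i₀ (c p) ∈ O by rw [hjc]; exact hqO)
    rw [← hinj hpp]
    exact hp'

variable (G : EtDesc.Sh W)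

include hsq in
/-- a section near each point of the closed fibre -/
theorem exists_local_piece [IsSepClosed (ResidueField R)]
    (t : EtDesc.sect ((EtDesc.pullSh m).obj G) ((EtCoh.bc m).obj (EtCoh.top W))) (w : W) (hw : f w = closedPoint R) :
    ∃ (Z : W.Etale) (σ : EtDesc.sect G Z), w ∈ Set.range Z.hom ∧
      ∀ q ∈ clo f' m Z, q ∈ eqLoc ((EtDesc.pullSh m).obj G) ((EtCoh.bc m).obj Z)
        (((EtDesc.pullSh m).obj G).obj.map ((EtCoh.bc m).map (tT Z)).op t) (unitSect m G Z σ) := by
  obtain ⟨w', hw', hw'c⟩ := exists_closed_lift f φ f' m hsq w hw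
  obtain ⟨K, _, _, ξ, hξ⟩ := Groth.Agent.FEtRank.exists_geomPt w'
  let T := EtCoh.top W
  let v₀ : Over.mk (ξ ≫ m) ⟶ (Scheme.Etale.forget W).obj T := Over.homMk (ξ ≫ m) (Category.comp_id _)
  obtain ⟨γ, hγ, hγg⟩ := exists_pullGerm m ξ (ξ ≫ m) rfl G
  obtain ⟨z, hz⟩ := hγ.2 (gm ξ ((EtDesc.pullSh m).obj G) ((EtCoh.bc m).obj T) (EtPushStalk.up m ξ v₀) t)
  obtain ⟨V, v, σ, rfl⟩ := gm_surjective (G := G) (ξ ≫ m) z
  have hq0 := (hγg V v σ).symm.trans hz
  let u := EtPushStalk.up m ξ v
  have hu : (Scheme.pointSmallEtale ξ).fiber.map ((EtCoh.bc m).map (tT V)) u = EtPushStalk.up m ξ v₀ := by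
    refine (EtPushStalk.up_map m ξ (tT V) v).trans (congrArg _ ?_)
    exact Over.OverMorphism.ext (Over.w v)
  rw [← hu, ← gm_map] at hq0
  have hmem := (gm_eq_iff _ _ _ _).mp hq0.symm
  have hclo : (u.left : Spec (CommRingCat.of K) ⟶ _) (default : Spec (CommRingCat.of K)) ∈ clo f' m V := by
    show f' (pullback.snd V.hom m _) = _
    have e : u.left ≫ pullback.snd V.hom m = ξ := Over.w u
    rw [← hw'c]
    refine congrArg f' ((Scheme.Hom.comp_apply u.left (pullback.snd V.hom m) _).symm.trans ((congr($e _)).trans ?_))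
    exact (congrArg ξ (Subsingleton.elim (α := Spec (CommRingCat.of K)) _ _)).trans hξ
  obtain ⟨O, hO, hOs⟩ := exists_open_saturated f φ f' m hsq V _ (isOpen_eqLoc _ _) _ hmem hclo
  haveI := V.prop
  let Z : W.Etale := Scheme.Etale.mk (O.ι ≫ V.hom)
  let g : Z ⟶ V := MorphismProperty.Over.homMk O.ι rfl
  refine ⟨Z, G.obj.map g.op σ, ?_, fun q hq => ?_⟩
  · refine ⟨(⟨_, hO⟩ : O), ?_⟩
    show V.hom (pullback.fst V.hom m ((u.left : Spec (CommRingCat.of K) ⟶ _) (default : Spec (CommRingCat.of K)))) = w
    have e : u.left ≫ pullback.fst V.hom m ≫ V.hom = ξ ≫ m := by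
      rw [pullback.condition]
      exact (Category.assoc _ _ _).symm.trans (congrArg (· ≫ m) (Over.w u))
    refine ((Scheme.Hom.comp_apply (pullback.fst V.hom m) V.hom _).symm.trans
      ((Scheme.Hom.comp_apply u.left (pullback.fst V.hom m ≫ V.hom) _).symm.trans ((congr($e _)).trans ?_)))
    rw [Scheme.Hom.comp_apply, ← hw']
    exact congrArg m ((congrArg ξ (Subsingleton.elim (α := Spec (CommRingCat.of K)) _ _)).trans hξ)
  · have h1 : ((EtCoh.bc m).map g).left q ∈ clo f' m V := by
      refine (congrArg f' ((Scheme.Hom.comp_apply ((EtCoh.bc m).map g).left (pullback.snd V.hom m) q).symm.trans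
        ?_)).trans hq
      exact congr($(bc_map_snd m g) q)
    have h2 : pullback.fst V.hom m (((EtCoh.bc m).map g).left q) ∈ O := by
      have e1 := (Scheme.Hom.comp_apply ((EtCoh.bc m).map g).left (pullback.fst V.hom m) q).symm.trans
        (congr($(bc_map_fst m g) q))
      rw [Scheme.Hom.comp_apply] at e1
      exact e1 ▸ (Scheme.Opens.range_ι O).le ⟨_, rfl⟩
    have h3 := (eqLoc_map ((EtCoh.bc m).map g) _ _).ge (hOs _ h1 h2)
    rw [← tT_eq (g ≫ tT V), Functor.map_comp, op_comp, Functor.map_comp, unitSect_map]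
    exact h3

variable [HenselianLocalRing R]

include hsq in
/-- **Sections over a scheme integral over a strictly henselian ring only depend on the closed fibre.** -/
theorem bijective_unitSect_henselian [IsSepClosed (ResidueField R)] :
    Function.Bijective (unitSect m G (EtCoh.top W)) := by
  have key : ∀ {a b : EtDesc.sect ((EtDesc.pullSh m).obj G) ((EtCoh.bc m).obj (EtCoh.top W))},
      (∀ q ∈ clo f' m (EtCoh.top W), q ∈ eqLoc _ ((EtCoh.bc m).obj (EtCoh.top W)) a b) → a = b := by
    intro a b hab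
    haveI : IsIntegralHom f' := MorphismProperty.of_isPullback (P := @IsIntegralHom) hsq inferInstance
    haveI : IsIntegralHom (pullback.snd (EtCoh.top W).hom m ≫ f') := by
      haveI : IsIso (EtCoh.top W).hom := inferInstanceAs (IsIso (𝟙 W))
      infer_instance
    have h := eq_univ_of_closed_fibre (pullback.snd (EtCoh.top W).hom m ≫ f') (isOpen_eqLoc a b)
      (fun q hq => hab q hq)
    exact eq_of_eqLoc fun q => h.ge (Set.mem_univ q)
  refine ⟨fun σ σ' h => eq_of_eqLoc fun x => ?_, fun t => ?_⟩
  · refine (eq_univ_of_closed_fibre f (O := eqLoc G (EtCoh.top W) σ σ') (isOpen_eqLoc σ σ') fun w hw => ?_).ge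
      (Set.mem_univ x)
    obtain ⟨w', hw', -⟩ := exists_closed_lift f φ f' m hsq w hw
    obtain ⟨p, hp, -⟩ := Scheme.Pullback.exists_preimage_pullback (f := (EtCoh.top W).hom) (g := m) w w' hw'.symm
    rw [← hp, ← mem_eqLoc_unit, h, eqLoc_self]
    trivial
  -- the cover
  let I := {w : W // f w = closedPoint R}
  choose Z σ hwZ hσ using fun i : I => exists_local_piece f φ f' m hsq G t i.1 i.2
  let P : Scheme.{u} := ∐ fun i : I => (Z i).left
  let g : P ⟶ W := Sigma.desc fun i => (Z i).hom
  haveI : Etale g := IsZariskiLocalAtSource.sigmaDesc fun i => (Z i).prop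
  let k := ResidueField R
  let ξ : Spec (CommRingCat.of k) ⟶ Spec (CommRingCat.of R) := Spec.map (CommRingCat.ofHom (residue R))
  have hξ : ξ default = closedPoint R :=
    (congrArg ξ (Subsingleton.elim (α := Spec (CommRingCat.of k)) _ (closedPoint k))).trans (EtBCQ.Spec_closedPoint' _)
  obtain ⟨V, p, hp, v, hv, s, hs⟩ := Groth.Agent.EtIntegral.exists_section_nhd f g ξ (fun w hw => by
    obtain ⟨z, hz⟩ := hwZ ⟨w, hw.trans hξ⟩
    refine ⟨Sigma.ι (fun i : I => (Z i).left) ⟨w, hw.trans hξ⟩ z, ?_⟩
    rw [← Scheme.Hom.comp_apply, Sigma.ι_desc]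
    exact hz)
  haveI := hp
  obtain ⟨S₀, e₀⟩ : ∃ (s₀ : Spec (CommRingCat.of R) ⟶ V), s₀ ≫ p = 𝟙 _ := exists_section_etale p v hv
  let s₁ : W ⟶ P := pullback.lift (f ≫ S₀) (𝟙 W) (by rw [Category.assoc, e₀]; simp) ≫ s
  have hs₁ : s₁ ≫ g = 𝟙 W := by rw [Category.assoc, hs, pullback.lift_snd]
  -- the pieces
  let cov := sigmaOpenCover fun i : I => (Z i).left
  let Wi : I → W.Opens := fun i => s₁ ⁻¹ᵁ (Sigma.ι (fun i : I => (Z i).left) i).opensRange
  let Wo : I → W.Etale := fun i => Scheme.Etale.mk (Wi i).ι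
  let π : ∀ i, Wo i ⟶ EtCoh.top W := fun i => tT _
  let r : ∀ i, (Wi i : Scheme.{u}) ⟶ (Z i).left := fun i =>
    IsOpenImmersion.lift (Sigma.ι (fun i : I => (Z i).left) i) ((Wi i).ι ≫ s₁) (by
      rintro _ ⟨x, rfl⟩
      rw [Scheme.Hom.comp_apply]
      exact x.2)
  let ρ : ∀ i, Wo i ⟶ Z i := fun i => MorphismProperty.Over.homMk (r i) (by
    show r i ≫ (Z i).hom = (Wi i).ι
    have h1 : (Z i).hom = Sigma.ι (fun i : I => (Z i).left) i ≫ g := by simp [g]
    rw [h1, ← Category.assoc, IsOpenImmersion.lift_fac, Category.assoc, hs₁, Category.comp_id])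
  have hcovW : ∀ x : (EtCoh.top W).left, ∃ i, x ∈ Set.range (π i).left := fun x => by
    obtain ⟨i, z, hz⟩ := cov.exists_eq (s₁ x)
    exact ⟨i, ⟨⟨x, ⟨z, hz⟩⟩, rfl⟩⟩
  obtain ⟨σ₀, hσ₀⟩ := exists_amalg (G := G) Wo π hcovW (fun i => G.obj.map (ρ i).op (σ i))
    (fun i l T a b hab => by
      by_cases hil : i = l
      · subst hil
        have : a = b := MorphismProperty.Over.Hom.ext ((cancel_mono (Wi i).ι).1 (congrArg (fun z => z.left) hab))
        rw [this]
      · haveI : Subsingleton (G.obj.obj (op T)) := Groth.Agent.EtIntegral.sh_subsingleton_of_isEmpty G T ⟨fun x => by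
          have h0 : a.left ≫ (Wi i).ι = b.left ≫ (Wi l).ι := congrArg (fun z : T ⟶ EtCoh.top W => z.left) hab
          have h1 : (Wi i).ι (a.left x) = (Wi l).ι (b.left x) := (Scheme.Hom.comp_apply _ _ x).symm.trans
            ((congr($h0 x)).trans (Scheme.Hom.comp_apply _ _ x))
          obtain ⟨z, hz⟩ := (a.left x).2
          obtain ⟨z', hz'⟩ := (b.left x).2
          exact hil (congrArg Sigma.fst (sigmaι_eq_iff (fun i : I => (Z i).left) i l z z' |>.1 (by rw [hz, hz']; exact congrArg s₁ h1)))⟩
        exact Subsingleton.elim _ _)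
  refine ⟨σ₀, key fun q hq => ?_⟩
  obtain ⟨i, x, hx⟩ := hcovW (pullback.fst (EtCoh.top W).hom m q)
  obtain ⟨q', hq', -⟩ := Scheme.exists_preimage_of_isPullback (EtCoh.isPullback_bc_map m (π i)) q x hx.symm
  have h2 : ((EtCoh.bc m).map (ρ i)).left q' ∈ clo f' m (Z i) := by
    rw [← hq'] at hq
    have e1 := (Scheme.Hom.comp_apply ((EtCoh.bc m).map (ρ i)).left (pullback.snd (Z i).hom m) q').symm.trans
      (congr($(bc_map_snd m (ρ i)) q'))
    have e2 := (Scheme.Hom.comp_apply ((EtCoh.bc m).map (π i)).left (pullback.snd (EtCoh.top W).hom m) q').symm.trans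
      (congr($(bc_map_snd m (π i)) q'))
    exact (congrArg f' (e1.trans e2.symm)).trans hq
  have h3 := (eqLoc_map ((EtCoh.bc m).map (ρ i)) _ _).ge (hσ i _ h2)
  rw [← Functor.map_comp_apply, ← op_comp, ← Functor.map_comp, tT_eq (ρ i ≫ tT (Z i)), ← unitSect_map, ← hσ₀ i,
    unitSect_map] at h3
  rw [← hq']
  exact eqLoc_symm ((eqLoc_map ((EtCoh.bc m).map (π i)) _ _).le h3)

/-- the tautological pullback of sections over the final object -/
theorem bijective_ru_top' {A B : Scheme.{u}} (m : A ⟶ B) (G : EtDesc.Sh B)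
    (h : Function.Bijective (unitSect m G (EtCoh.top B))) :
    Function.Bijective (ru m G (mkδ (T := EtCoh.top A) (o := EtCoh.top B) m m
      ((Category.comp_id _).trans (Category.id_comp _).symm))) := by
  let δ := mkδ (T := EtCoh.top A) (o := EtCoh.top B) m m ((Category.comp_id _).trans (Category.id_comp _).symm)
  have e : δ = (EtCore.bcTopIso m).inv := (EtCore.bcTopIsTerminal m).hom_ext _ _
  haveI : IsIso δ := e ▸ inferInstance
  exact (ConcreteCategory.bijective_of_isIso (((EtDesc.pullSh m).obj G).obj.map δ.op)).comp h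

/-- **Base change for sheaves of sets along an integral morphism.** -/
theorem isIso_baseChange0Sh_integral {X Y X' Y' : Scheme.{u}} (f : X ⟶ Y) [IsIntegralHom f] (g : Y' ⟶ Y)
    (f' : X' ⟶ Y') (g' : X' ⟶ X) (h : IsPullback g' f' f g) (F : EtDesc.Sh X) :
    IsIso (EtBC.baseChange0Sh f g f' g' h.w F) := by
  haveI : IsIntegralHom f' := MorphismProperty.of_isPullback (P := @IsIntegralHom) h inferInstance
  let P : ∀ (Ω : Type u) [Field Ω] [IsSepClosed Ω], (Spec (CommRingCat.of Ω) ⟶ Y') → Prop := fun Ω _ _ ξ =>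
    Function.Bijective ((Scheme.pointSmallEtale ξ).presheafFiber.map (EtBC.baseChange0Sh f g f' g' h.w F).hom)
  have hP : EtStalk.Covers (X := Y') P := by
    intro y'
    let QY := EtBCQ.mkSH Y (g y')
    let Q' := EtBCQ.mkSH Y' y'
    obtain ⟨φ, hl, hφ⟩ := EtBCQ.exists_strict_hom QY (Q'.spec ≫ g) (by rw [Scheme.Hom.comp_apply, Q'.spec_closed])
    haveI := hl
    exact ⟨_, inferInstance, inferInstance, Hens2.geomPt Y' y' Q'.R,
      bijective_stalk_of_strict f g f' g' h.w QY Q' φ hφ (fun G => bijective_ru_top' _ G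
        (bijective_unitSect_henselian (pullback.snd f QY.spec) φ (pullback.snd f' Q'.spec)
          (xMap f g f' g' h.w QY Q' φ hφ) (isPullback_xMap f g f' g' QY Q' φ hφ h) G)) F,
      EtBCQ.geomPt_apply y' Q'.R⟩
  have : Sheaf.IsLocallyInjective (EtBC.baseChange0Sh f g f' g' h.w F) :=
    EtStalk.isLocallyInjective_of_covers _ hP fun Ω _ _ ξ hξ => hξ.1
  have : Sheaf.IsLocallySurjective (EtBC.baseChange0Sh f g f' g' h.w F) :=
    EtStalk.isLocallySurjective_of_covers _ hP fun Ω _ _ ξ hξ => hξ.2
  exact (Sheaf.isLocallyBijective_iff_isIso _).mp ⟨inferInstance, inferInstance⟩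

end Groth.Agent.EtShSep
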