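import Groth.Agent.EtShSep.Chart
import Groth.Agent.EtShLib.BaseChange
import Mathlib

/-!
Flat morphisms with geometrically reduced fibres are universally locally 0-acyclic; base change along them.
-/

set_option autoImplicit false
set_option backward.isDefEq.respectTransparency false
set_option backward.isDefEq.respectTransparency.types false
set_option maxHeartbeats 1000000
set_option linter.style.haveILetI false
set_option linter.unusedSectionVars false

universe u

open CategoryTheory CategoryTheory.Limits AlgebraicGeometry Opposite IsLocalRing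
open scoped TensorProduct

noncomputable section

namespace Groth.Agent.EtShSep

theorem isULocZeroAcyclic_sep {X Y : Scheme.{u}} (g : X ⟶ Y) [Flat g]
    (hsep : ∀ (K : Type u) [Field K] (k : Spec (CommRingCat.of K) ⟶ Y), AlgebraicGeometry.IsReduced (pullback g k))
    (hn : IsLocallyNoetherian Y ∨ LocallyOfFinitePresentation g) : EtAcyc.IsULocZeroAcyclic g := by
  intro X₁ Y₁ g₁ b' b h
  haveI : Flat g₁ := MorphismProperty.of_isPullback (P := @Flat) h inferInstance
  intro x RY RX _ _ _ _ _ _ _ _ _ _ _ _ hc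
  let QY : EtBCQ.SH Y₁ (g₁.base x) := { R := RY }
  let QX : EtBCQ.SH X₁ x := { R := RX }
  have hX : Spec.map (CommRingCat.ofHom (algebraMap RY RX)) ≫ QY.spec = QX.spec ≫ g₁ :=
    (EtBCQ.specOf_comp g₁ x RY RX (algebraMap RY RX) hc).symm
  haveI : Module.Flat RY RX := by
    rw [← RingHom.flat_algebraMap_iff]
    refine EtBCQ.flat_of_strict (g₁.stalkMap x).hom (Flat.stalkMap g₁ x) (algebraMap (X₁.presheaf.stalk x) RX) ?_ _ hc
    haveI := Hensel.strictHenselization_faithfullyFlat (X₁.presheaf.stalk x) RX
    rw [RingHom.flat_algebraMap_iff]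
    infer_instance
  let f : Spec (CommRingCat.of RX) ⟶ Spec (CommRingCat.of RY) := Spec.map (CommRingCat.ofHom (algebraMap RY RX))
  haveI : Flat f := by
    rw [HasRingHomProperty.Spec_iff (P := @Flat)]
    exact RingHom.flat_algebraMap_iff.mpr inferInstance
  haveI : Surjective f := by
    haveI : Module.FaithfullyFlat RY RX := Module.FaithfullyFlat.of_flat_of_isLocalHom
    exact ⟨PrimeSpectrum.comap_surjective_of_faithfullyFlat (A := RY) (B := RX)⟩
  refine EtShLib.isZeroAcyclic_of_connected f (fun S' t => EtShLib.isQuotientMap_snd_of_flat f S' t) fun Ω _ _ s => ?_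
  obtain ⟨φ, rfl⟩ := Spec.map_surjective s
  letI : Algebra RY Ω := φ.hom.toAlgebra
  haveI := connectedSpace_tensor_sep g hsep hn g₁ b b' h QX QY hX Ω
  exact (pullbackSpecIso RY RX Ω).hom.homeomorph.connectedSpace_iff.mpr
    (inferInstanceAs (ConnectedSpace (PrimeSpectrum (RX ⊗[RY] Ω))))

variable {X Y X' Y' : Scheme.{u}} (f : X ⟶ Y) (g : Y' ⟶ Y) (f' : X' ⟶ Y') (g' : X' ⟶ X)
  [QuasiCompact f] [QuasiSeparated f]

/-- base change for sheaves of sets along flat morphisms with geometrically reduced fibres -/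
theorem isIso_baseChange0Sh_sep (h : IsPullback g' f' f g) [Flat g]
    (hsep : ∀ (K : Type u) [Field K] (k : Spec (CommRingCat.of K) ⟶ Y), AlgebraicGeometry.IsReduced (pullback g k))
    (hn : IsLocallyNoetherian Y ∨ LocallyOfFinitePresentation g)
    (F : EtDesc.Sh X) : IsIso (EtBC.baseChange0Sh f g f' g' h.w F) :=
  EtShLib.isIso_baseChange0Sh_of_connected f g f' g' h (fun _ QY Q' _ _ _ hX Ω _ _ _ =>
    connectedSpace_tensor_sep g hsep hn g (𝟙 Y) (𝟙 Y') (IsPullback.of_horiz_isIso ⟨by simp⟩) Q' QY hX Ω) F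

end Groth.Agent.EtShSep
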