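import Groth.Agent.EtShSep.Sections
import Mathlib

/-!
Base change for sheaves of sets when étale schemes are covered by stages with connected fibres.
-/

set_option autoImplicit false
set_option backward.isDefEq.respectTransparency false
set_option backward.isDefEq.respectTransparency.types false
set_option maxHeartbeats 1000000
set_option linter.style.haveILetI false
set_option linter.unusedSectionVars false

universe u

open CategoryTheory CategoryTheory.Limits AlgebraicGeometry Opposite

noncomputable section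

namespace Groth.Agent.EtShSep

open Groth.Agent.EtShLib

/-- every étale scheme is covered by quasi-compact geometrically connected stages over étale schemes of the base -/
def HasConnCovers {X S : Scheme.{u}} (f : X ⟶ S) : Prop :=
  ∀ U : X.Etale, ∃ (ι : Type u) (Uc : ι → X.Etale) (mU : ∀ i, Uc i ⟶ U),
    (∀ y : U.left, ∃ (i : ι) (z : (Uc i).left), (mU i).left.base z = y) ∧
    ∀ i, ∃ (V : S.Etale) (a : (Uc i).left ⟶ V.left),
      a ≫ V.hom = (Uc i).hom ≫ f ∧ QuasiCompact a ∧ GeometricallyConnected a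

/-- a map of sheaves bijective on covering stages is an isomorphism -/
theorem isIso_of_bijective_covering {X : Scheme.{u}} {G H : EtDesc.Sh X} (φ : G ⟶ H)
    (h : ∀ U : X.Etale, ∃ (ι : Type u) (Uc : ι → X.Etale) (mU : ∀ i, Uc i ⟶ U),
      (∀ y : U.left, ∃ (i : ι) (z : (Uc i).left), (mU i).left.base z = y) ∧
      ∀ i, Function.Bijective (φ.hom.app (op (Uc i)))) : IsIso φ := by
  have nat : ∀ {U W : X.Etale} (m : W ⟶ U) (a : EtDesc.sect G U),
      φ.hom.app (op W) (G.obj.map m.op a) = H.obj.map m.op (φ.hom.app (op U) a) := fun m a =>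
    NatTrans.naturality_apply φ.hom m.op a
  have hinj : ∀ U, Function.Injective (φ.hom.app (op U)) := fun U a b hab => by
    obtain ⟨ι, Uc, mU, hc, hb⟩ := h U
    refine eq_of_eqLoc fun y => ?_
    obtain ⟨i, z, hz⟩ := hc y
    exact ⟨Uc i, mU i, ⟨z, hz⟩, (hb i).1 (by rw [nat, nat, hab])⟩
  haveI : ∀ U : X.Etaleᵒᵖ, IsIso (φ.hom.app U) := fun U => (isIso_iff_bijective _).mpr ⟨hinj U.unop, fun t => by
    obtain ⟨ι, Uc, mU, hc, hb⟩ := h U.unop
    choose g hg using fun i => (hb i).2 (H.obj.map (mU i).op t)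
    have hc' : ∀ y : U.unop.left, ∃ i, y ∈ Set.range (mU i).left := fun y => by
      obtain ⟨i, z, hz⟩ := hc y
      exact ⟨i, z, hz⟩
    obtain ⟨s, hs⟩ := exists_amalg (G := G) Uc mU hc' g fun i k T a b hab => hinj T (by
      rw [nat, nat, hg, hg, map_map, map_map, hab])
    refine ⟨s, eq_of_eqLoc fun y => ?_⟩
    obtain ⟨i, hi⟩ := hc' y
    exact ⟨Uc i, mU i, hi, by rw [← nat, hs, hg]⟩⟩
  haveI : IsIso ((sheafToPresheaf X.smallEtaleTopology (Type (u + 1))).map φ) := NatIso.isIso_of_isIso_app φ.hom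
  exact (fullyFaithfulSheafToPresheaf _ _).isIso_of_isIso_map _

theorem flat_of_comp_etale {U V B : Scheme.{u}} (a : U ⟶ V) (v : V ⟶ B) [Etale v] [Flat (a ≫ v)] : Flat a := by
  let σ : U ⟶ pullback (a ≫ v) v := pullback.lift (𝟙 U) a (by rw [Category.id_comp])
  haveI : Etale (σ ≫ pullback.fst (a ≫ v) v) := by rw [pullback.lift_fst]; infer_instance
  haveI : Etale σ := Etale.of_comp σ (pullback.fst (a ≫ v) v)
  rw [← pullback.lift_snd (f := a ≫ v) (g := v) (𝟙 U) a (by rw [Category.id_comp])]
  show Flat (σ ≫ _)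
  infer_instance

theorem flat_stage {X S : Scheme.{u}} (f : X ⟶ S) [Flat f] {U : X.Etale} {V : S.Etale} (a : U.left ⟶ V.left)
    (w : a ≫ V.hom = U.hom ≫ f) : Flat a := by
  haveI := U.prop
  haveI := V.prop
  haveI : Flat (a ≫ V.hom) := by rw [w]; infer_instance
  exact flat_of_comp_etale a V.hom

theorem isIso_baseChange0Sh_covered {X S Y T : Scheme.{u}} (f : X ⟶ S) [Flat f] (g : T ⟶ S) (h : Y ⟶ X) (e : Y ⟶ T)
    (c : IsPullback e h g f) (hcov : HasConnCovers f) (F : EtDesc.Sh T) :
    IsIso (EtBC.baseChange0Sh g f h e c.w F) := by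
  refine isIso_of_bijective_covering _ fun U => ?_
  obtain ⟨ι, Uc, mU, hc, hf⟩ := hcov U
  refine ⟨ι, Uc, mU, hc, fun i => ?_⟩
  obtain ⟨V, a, w, hqc, hgc⟩ := hf i
  let U' := Uc i
  haveI : Flat a := flat_stage f a w
  let δ : U' ⟶ (EtCoh.bc f).obj V := mkδ f a w
  let sw := Groth.Agent.EtIntegral.bcSwap g f h e c.w V
  let δ'' : (EtCoh.bc h).obj U' ⟶ (EtCoh.bc e).obj ((EtCoh.bc g).obj V) := (EtCoh.bc h).map δ ≫ sw
  let m' : ((EtCoh.bc h).obj U').left ⟶ ((EtCoh.bc g).obj V).left :=
    δ''.left ≫ pullback.fst ((EtCoh.bc g).obj V).hom e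
  have w' : m' ≫ ((EtCoh.bc g).obj V).hom = ((EtCoh.bc h).obj U').hom ≫ e := by
    show (δ''.left ≫ _) ≫ _ = _
    rw [Category.assoc, pullback.condition, ← Category.assoc]
    exact congrArg (· ≫ e) (MorphismProperty.Over.w δ'')
  have hm' : m' ≫ pullback.fst V.hom g = pullback.fst U'.hom h ≫ a := by
    refine (Category.assoc _ _ _).trans ?_
    refine (Category.assoc ((EtCoh.bc h).map δ).left sw.left _).trans ?_
    refine (congrArg (((EtCoh.bc h).map δ).left ≫ ·) (Groth.Agent.EtIntegral.bcSwap_fst g f h e c.w V)).trans ?_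
    refine (Category.assoc _ _ _).symm.trans ((congrArg (· ≫ pullback.fst V.hom f) (bc_map_fst h δ)).trans ?_)
    exact (Category.assoc _ _ _).trans (congrArg (pullback.fst U'.hom h ≫ ·) (mkδ_fst f a w))
  have hP : IsPullback m' (pullback.fst U'.hom h) (pullback.fst V.hom g) a := by
    have houter : IsPullback (pullback.snd U'.hom h ≫ e) (pullback.fst U'.hom h) g (U'.hom ≫ f) :=
      (IsPullback.of_hasPullback U'.hom h).flip.paste_horiz c
    rw [← w] at houter
    rw [show pullback.snd U'.hom h ≫ e = m' ≫ pullback.snd V.hom g from w'.symm] at houter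
    exact IsPullback.of_right houter hm' (IsPullback.of_hasPullback V.hom g).flip
  haveI : Flat m' := MorphismProperty.of_isPullback (P := @Flat) hP.flip inferInstance
  haveI : QuasiCompact m' := MorphismProperty.of_isPullback (P := @QuasiCompact) hP.flip hqc
  haveI : GeometricallyConnected m' := MorphismProperty.of_isPullback (P := @GeometricallyConnected) hP.flip hgc
  haveI := hqc
  haveI := hgc
  have hsrc := bijective_ru_of_geomConnected f ((EtDesc.pushSh g).obj F) a w
  have htgt := bijective_ru_of_geomConnected e F (T := (EtCoh.bc h).obj U') (V := (EtCoh.bc g).obj V) m' w'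
  have hδ'' : δ'' = mkδ e m' w' := bc_ext e (mkδ_fst e m' w').symm
  have key : ∀ s, (EtBC.baseChange0Sh g f h e c.w F).hom.app (op U') (ru f ((EtDesc.pushSh g).obj F) δ s) =
      ru e F (mkδ e m' w') s := fun s => by
    refine (NatTrans.naturality_apply (EtBC.baseChange0Sh g f h e c.w F).hom δ.op _).trans ?_
    rw [baseChange0Sh_unit g f h e c.w F V s, ← hδ'']
    exact map_map ((EtDesc.pullSh e).obj F) sw ((EtCoh.bc h).map δ) _
  have hcomp : Function.Bijective (fun s => (EtBC.baseChange0Sh g f h e c.w F).hom.app (op U')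
      (ru f ((EtDesc.pushSh g).obj F) δ s)) := by
    rw [funext key]
    exact htgt
  exact (Function.Bijective.of_comp_iff _ hsrc).mp hcomp

end Groth.Agent.EtShSep
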