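import Groth.Agent.EtShSep.Conn
import Groth.Agent.EtShLib.SmoothStrict
import Groth.Agent.EtAcycX.LAFibre
import Mathlib

/-!
Maps of strict localisations of flat morphisms with geometrically reduced fibres.
-/

set_option autoImplicit false
set_option backward.isDefEq.respectTransparency false
set_option backward.isDefEq.respectTransparency.types false
set_option maxHeartbeats 1200000
set_option linter.style.haveILetI false
set_option linter.unusedSectionVars false

universe u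

open CategoryTheory CategoryTheory.Limits AlgebraicGeometry Opposite IsLocalRing
open scoped TensorProduct

noncomputable section

namespace Groth.Agent.EtShSep

/-- an affine open embedding makes a strict henselization of the stalk one of a localisation -/
theorem exists_chart_localization {P : Scheme.{u}} {C : Type u} [CommRing C] (j : Spec (CommRingCat.of C) ⟶ P)
    [IsOpenImmersion j] (c : Spec (CommRingCat.of C)) :
    ∃ (_ : Algebra C (P.presheaf.stalk (j c))),
      IsLocalization.AtPrime (P.presheaf.stalk (j c)) c.asIdeal ∧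
      Spec.map (CommRingCat.ofHom (algebraMap C (P.presheaf.stalk (j c)))) ≫ j = P.fromSpecStalk (j c) := by
  letI aC : Algebra C ((Spec (CommRingCat.of C)).presheaf.stalk c) := StructureSheaf.stalkAlgebra C c
  haveI : IsLocalization.AtPrime ((Spec (CommRingCat.of C)).presheaf.stalk c) c.asIdeal :=
    StructureSheaf.IsLocalization.to_stalk C c
  let θ : CommRingCat.of C ⟶ (Spec (CommRingCat.of C)).presheaf.stalk c :=
    CommRingCat.ofHom (algebraMap C ((Spec (CommRingCat.of C)).presheaf.stalk c))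
  let e := (asIso (j.stalkMap c)).commRingCatIsoToRingEquiv
  letI aP : Algebra C (P.presheaf.stalk (j c)) := (θ ≫ inv (j.stalkMap c)).hom.toAlgebra
  refine ⟨aP, ?_, ?_⟩
  · let eA : (Spec (CommRingCat.of C)).presheaf.stalk c ≃ₐ[C] P.presheaf.stalk (j c) :=
      AlgEquiv.ofRingEquiv (f := e.symm) fun x => rfl
    exact IsLocalization.isLocalization_of_algEquiv c.asIdeal.primeCompl eA
  · show Spec.map (θ ≫ inv (j.stalkMap c)) ≫ j = _
    have h1 : (Spec (CommRingCat.of C)).fromSpecStalk c = Spec.map θ := Spec.fromSpecStalk_eq' _ c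
    rw [Spec.map_comp, Category.assoc, ← h1, ← Scheme.SpecMap_stalkMap_fromSpecStalk, ← Spec.map_comp_assoc,
      IsIso.hom_inv_id, Spec.map_id, Category.id_comp]

/-- endomorphisms of a strict localisation have right inverses -/
theorem exists_comp_eq_id {Z : Scheme.{u}} {z : Z} (P : EtBCQ.SH Z z) (a : P.R →+* P.R) [IsLocalHom a]
    (ha : Spec.map (CommRingCat.ofHom a) ≫ P.spec = P.spec) :
    ∃ b : P.R →+* P.R, IsLocalHom b ∧ Spec.map (CommRingCat.ofHom b) ≫ P.spec = P.spec ∧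
      a.comp b = RingHom.id _ := by
  obtain ⟨b, ⟨hb, hab⟩, -⟩ := EtBCQ.existsUnique_strict P (B := P.R) (C := P.R) P.spec (RingHom.id _) a (by
    rw [ha, CommRingCat.ofHom_id, Spec.map_id, Category.id_comp])
  exact ⟨b, ⟨fun x hx => by
    have := hx.map a
    rwa [show a (b x) = x from RingHom.congr_fun hab x] at this⟩, hb, hab⟩

theorem bijective_endo {Z : Scheme.{u}} {z : Z} (P : EtBCQ.SH Z z) (a : P.R →+* P.R) [IsLocalHom a]
    (ha : Spec.map (CommRingCat.ofHom a) ≫ P.spec = P.spec) : Function.Bijective a := by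
  obtain ⟨b, hbl, hb, hab⟩ := exists_comp_eq_id P a ha
  haveI := hbl
  obtain ⟨c, -, -, hbc⟩ := exists_comp_eq_id P b hb
  have hac : a = c := RingHom.ext fun x => by
    conv_lhs => rw [← show b (c x) = x from RingHom.congr_fun hbc x]
    exact RingHom.congr_fun hab (c x)
  exact ⟨fun x y h => by
    rw [← show b (c x) = x from RingHom.congr_fun hbc x, ← show b (c y) = y from RingHom.congr_fun hbc y,
      ← hac, h], fun x => ⟨b x, RingHom.congr_fun hab x⟩⟩

/-- two strict localisations at a point agree compatibly with the base -/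
theorem exists_ringEquiv {X₁ Y₁ : Scheme.{u}} (g₁ : X₁ ⟶ Y₁) {x : X₁} {y : Y₁} (QX QX' : EtBCQ.SH X₁ x)
    (QY : EtBCQ.SH Y₁ y) (φ : QY.R →+* QX.R) [IsLocalHom φ] (ψ : QY.R →+* QX'.R) [IsLocalHom ψ]
    (hφ : Spec.map (CommRingCat.ofHom φ) ≫ QY.spec = QX.spec ≫ g₁)
    (hψ : Spec.map (CommRingCat.ofHom ψ) ≫ QY.spec = QX'.spec ≫ g₁) :
    ∃ (e : QX'.R ≃+* QX.R) (σ : QY.R ≃+* QY.R), (e.toRingHom.comp ψ).comp σ.toRingHom = φ := by
  obtain ⟨ι, hι, hιs⟩ := EtBCQ.exists_strict_hom QX' QX.spec QX.spec_closed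
  obtain ⟨κ, hκ, hκs⟩ := EtBCQ.exists_strict_hom QX QX'.spec QX'.spec_closed
  haveI := hι
  haveI := hκ
  haveI : IsLocalHom (ι.comp κ) := RingHom.isLocalHom_comp ι κ
  haveI : IsLocalHom (κ.comp ι) := RingHom.isLocalHom_comp κ ι
  have h1 := bijective_endo QX (ι.comp κ) (by rw [CommRingCat.ofHom_comp, Spec.map_comp, Category.assoc, hκs, hιs])
  have h2 := bijective_endo QX' (κ.comp ι) (by rw [CommRingCat.ofHom_comp, Spec.map_comp, Category.assoc, hιs, hκs])
  let e : QX'.R ≃+* QX.R := RingEquiv.ofBijective ι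
    ⟨Function.Injective.of_comp (f := κ) h2.1, Function.Surjective.of_comp (g := κ) h1.2⟩
  haveI : IsLocalHom (ι.comp ψ) := RingHom.isLocalHom_comp ι ψ
  have hs : Spec.map (CommRingCat.ofHom (ι.comp ψ)) ≫ QY.spec = QX.spec ≫ g₁ := by
    rw [CommRingCat.ofHom_comp, Spec.map_comp, Category.assoc, hψ, ← Category.assoc, hιs]
  obtain ⟨σ, ⟨hσ, hσ'⟩, -⟩ := EtBCQ.existsUnique_strict QY (B := QY.R) (C := QX.R) QY.spec φ (ι.comp ψ)
    (hs.trans hφ.symm)
  haveI : IsLocalHom σ := ⟨fun a ha => isUnit_of_map_unit φ a (by rw [← hσ']; exact ha.map (ι.comp ψ))⟩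
  exact ⟨e, RingEquiv.ofBijective σ (bijective_endo QY σ hσ), hσ'⟩

/-- universally submersive with connected geometric fibres -/
def AcyclicRingMap {A B : Type u} [CommRing A] [CommRing B] (φ : A →+* B) : Prop :=
  (∀ (S' : Scheme.{u}) (t : S' ⟶ Spec (CommRingCat.of A)),
      Topology.IsQuotientMap (pullback.snd (Spec.map (CommRingCat.ofHom φ)) t)) ∧
    ∀ (Ω : Type u) [Field Ω] [IsAlgClosed Ω] (s : Spec (CommRingCat.of Ω) ⟶ Spec (CommRingCat.of A)),
      ConnectedSpace ↥(pullback (Spec.map (CommRingCat.ofHom φ)) s)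

theorem AcyclicRingMap.congr {A B B' : Type u} [CommRing A] [CommRing B] [CommRing B'] {φ : A →+* B} {ψ : A →+* B'}
    (e : B' ≃+* B) (σ : A ≃+* A) (h : (e.toRingHom.comp ψ).comp σ.toRingHom = φ) (H : AcyclicRingMap ψ) :
    AcyclicRingMap φ := by
  let sφ : Spec (CommRingCat.of B) ⟶ Spec (CommRingCat.of A) := Spec.map (CommRingCat.ofHom φ)
  let sψ : Spec (CommRingCat.of B') ⟶ Spec (CommRingCat.of A) := Spec.map (CommRingCat.ofHom ψ)
  let se : Spec (CommRingCat.of B) ≅ Spec (CommRingCat.of B') := Scheme.Spec.mapIso e.toCommRingCatIso.op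
  let sσ : Spec (CommRingCat.of A) ≅ Spec (CommRingCat.of A) := Scheme.Spec.mapIso σ.toCommRingCatIso.op
  have h1 : se.hom ≫ sψ ≫ sσ.hom = sφ := by
    show Spec.map (CommRingCat.ofHom (e : B' →+* B)) ≫ Spec.map (CommRingCat.ofHom ψ) ≫
      Spec.map (CommRingCat.ofHom (σ : A →+* A)) = Spec.map _
    rw [← Spec.map_comp, ← Spec.map_comp]
    exact congrArg Spec.map (CommRingCat.hom_ext h)
  have hP : ∀ {S' : Scheme.{u}} (t : S' ⟶ Spec (CommRingCat.of A)),
      IsPullback (pullback.fst sψ (t ≫ sσ.inv) ≫ se.inv) (pullback.snd sψ (t ≫ sσ.inv)) sφ t := fun {S'} t => by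
    refine IsPullback.of_iso (IsPullback.of_hasPullback sψ (t ≫ sσ.inv)) (Iso.refl _) se.symm (Iso.refl _) sσ ?_ ?_ ?_ ?_
    · simp
    · simp
    · show sψ ≫ sσ.hom = se.inv ≫ sφ
      rw [← h1, Iso.inv_hom_id_assoc]
    · simp
  refine ⟨fun S' t => ?_, fun Ω _ _ t => ?_⟩
  · rw [show pullback.snd sφ t = (hP t).isoPullback.inv ≫ pullback.snd sψ (t ≫ sσ.inv) from
      ((hP t).isoPullback_inv_snd).symm, Scheme.Hom.comp_base, TopCat.coe_comp]
    exact (H.1 S' (t ≫ sσ.inv)).comp (hP t).isoPullback.inv.homeomorph.isQuotientMap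
  · exact (hP t).isoPullback.hom.homeomorph.connectedSpace_iff.1 (H.2 Ω (t ≫ sσ.inv))

theorem acyclicRingMap_of_connected {A B : Type u} [CommRing A] [CommRing B] [Algebra A B]
    (hq : ∀ (S' : Scheme.{u}) (t : S' ⟶ Spec (CommRingCat.of A)),
      Topology.IsQuotientMap (pullback.snd (Spec.map (CommRingCat.ofHom (algebraMap A B))) t))
    (H : ∀ (Ω : Type u) [Field Ω] [IsAlgClosed Ω] [Algebra A Ω], ConnectedSpace (PrimeSpectrum (B ⊗[A] Ω))) :
    AcyclicRingMap (algebraMap A B) := by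
  refine ⟨hq, fun Ω _ _ s => ?_⟩
  obtain ⟨φ, rfl⟩ := Spec.map_surjective s
  letI : Algebra A Ω := φ.hom.toAlgebra
  haveI := H Ω
  exact (pullbackSpecIso A B Ω).hom.homeomorph.connectedSpace_iff.mpr
    (inferInstanceAs (ConnectedSpace (PrimeSpectrum (B ⊗[A] Ω))))

theorem acyclicRingMap_of_flat {A B : Type u} [CommRing A] [IsLocalRing A] [CommRing B] [IsLocalRing B] [Algebra A B]
    [IsLocalHom (algebraMap A B)] [Module.Flat A B]
    (H : ∀ (Ω : Type u) [Field Ω] [IsAlgClosed Ω] [Algebra A Ω], ConnectedSpace (PrimeSpectrum (B ⊗[A] Ω))) :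
    AcyclicRingMap (algebraMap A B) := by
  let f : Spec (CommRingCat.of B) ⟶ Spec (CommRingCat.of A) := Spec.map (CommRingCat.ofHom (algebraMap A B))
  haveI : Flat f := by
    rw [HasRingHomProperty.Spec_iff (P := @Flat)]
    exact RingHom.flat_algebraMap_iff.mpr inferInstance
  haveI : Surjective f := by
    haveI : Module.FaithfullyFlat A B := Module.FaithfullyFlat.of_flat_of_isLocalHom
    exact ⟨PrimeSpectrum.comap_surjective_of_faithfullyFlat (A := A) (B := B)⟩
  exact acyclicRingMap_of_connected (fun S' t => EtShLib.isQuotientMap_snd_of_flat f S' t) H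

/-- what must be shown about an affine chart -/
def ChartProp (A₀ C₀ : Type u) [CommRing A₀] [CommRing C₀] [Algebra A₀ C₀] : Prop :=
  ∀ (A : Type u) [CommRing A] [HenselianLocalRing A] [IsSepClosed (ResidueField A)] [Algebra A₀ A]
    (q : Ideal (A ⊗[A₀] C₀)) [q.IsPrime] (Cq : Type u) [CommRing Cq] [IsLocalRing Cq] [Algebra (A ⊗[A₀] C₀) Cq]
    [IsLocalization.AtPrime Cq q] (B : Type u) [CommRing B] [IsLocalRing B] [Algebra Cq B]
    [IsLocalHom (algebraMap Cq B)] [_root_.Hensel.IsStrictHenselization Cq B] [Algebra (A ⊗[A₀] C₀) B]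
    [IsScalarTower (A ⊗[A₀] C₀) Cq B] [Algebra A B] [IsScalarTower A (A ⊗[A₀] C₀) B] [IsLocalHom (algebraMap A B)],
      AcyclicRingMap (algebraMap A B)

/-- maps of strict localisations of a base change, from affine charts -/
theorem acyclicRingMap_strict {X Y X₁ Y₁ : Scheme.{u}} (g : X ⟶ Y)
    (H : ∀ (V : Y.Opens) (U : X.Opens) (hUV : U ≤ g ⁻¹ᵁ V), IsAffineOpen V → IsAffineOpen U →
      letI := (g.appLE V U hUV).hom.toAlgebra
      ChartProp Γ(Y, V) Γ(X, U))
    (g₁ : X₁ ⟶ Y₁) (b : Y₁ ⟶ Y) (b' : X₁ ⟶ X) (sq : IsPullback b' g₁ g b) {x : X₁} (QX : EtBCQ.SH X₁ x) {y : Y₁}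
    (QY : EtBCQ.SH Y₁ y) [Algebra QY.R QX.R] [IsLocalHom (algebraMap QY.R QX.R)]
    (hX : Spec.map (CommRingCat.ofHom (algebraMap QY.R QX.R)) ≫ QY.spec = QX.spec ≫ g₁) :
    AcyclicRingMap (algebraMap QY.R QX.R) := by
  let A := QY.R
  let φ := algebraMap A QX.R
  let ξ : Spec (CommRingCat.of A) ⟶ Y := QY.spec ≫ b
  let P := pullback ξ g
  let u : P ⟶ X₁ := sq.lift (pullback.snd ξ g) (pullback.fst ξ g ≫ QY.spec)
    (pullback.condition.symm.trans (Category.assoc _ _ _).symm)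
  have hu : u ≫ g₁ = pullback.fst ξ g ≫ QY.spec := sq.lift_snd _ _ _
  have hu' : u ≫ b' = pullback.snd ξ g := sq.lift_fst _ _ _
  have cX : IsPullback u (pullback.fst ξ g) g₁ QY.spec := by
    have hout := (IsPullback.of_hasPullback ξ g).flip
    rw [← hu'] at hout
    exact IsPullback.of_right hout hu sq
  let v : Spec (CommRingCat.of QX.R) ⟶ P := pullback.lift (Spec.map (CommRingCat.ofHom φ)) (QX.spec ≫ b') (by
    show Spec.map _ ≫ QY.spec ≫ b = _
    exact (Category.assoc _ _ _).symm.trans ((congrArg (· ≫ b) hX).trans ((Category.assoc _ _ _).trans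
      ((congrArg (QX.spec ≫ ·) sq.w.symm).trans (Category.assoc _ _ _).symm))))
  let x' := v (closedPoint QX.R)
  have hx : u x' = x := by
    have h : v ≫ u = QX.spec := sq.hom_ext (by
      rw [Category.assoc, hu']; exact pullback.lift_snd _ _ _) (by
      rw [Category.assoc, hu, ← Category.assoc, pullback.lift_fst, hX])
    show u (v (closedPoint QX.R)) = x
    rw [← Scheme.Hom.comp_apply, h, QX.spec_closed]
  have hx' : (pullback.fst ξ g) x' = closedPoint A := by
    show (pullback.fst ξ g) (v (closedPoint QX.R)) = _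
    rw [← Scheme.Hom.comp_apply, pullback.lift_fst, EtBCQ.Spec_closedPoint']
  clear_value x'
  subst hx
  obtain ⟨QX', ψ, v', hψl, alg, hl, hsh, hψ, hv'p, hv'f, hv'⟩ :=
    EtAcycX.exists_strict_over g₁ QY u (pullback.fst ξ g) cX x' hx'
  haveI := hψl
  obtain ⟨e, σ, heσ⟩ := exists_ringEquiv g₁ QX QX' QY φ ψ hX hψ
  letI iψ : Algebra A QX'.R := ψ.toAlgebra
  refine AcyclicRingMap.congr e σ heσ ?_
  haveI : IsLocalHom (algebraMap A QX'.R) := hψl
  -- an affine chart
  obtain ⟨V, hV, hyV, -⟩ := exists_isAffineOpen_mem_and_subset (X := Y) (x := g ((pullback.snd ξ g) x')) (U := ⊤) trivial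
  obtain ⟨U, hU, hxU, hUV⟩ := exists_isAffineOpen_mem_and_subset (X := X) (x := (pullback.snd ξ g) x')
    (U := g ⁻¹ᵁ V) hyV
  let ρ : Γ(Y, V) ⟶ Γ(X, U) := g.appLE V U hUV
  have hρ : Spec.map ρ ≫ hV.fromSpec = hU.fromSpec ≫ g := IsAffineOpen.SpecMap_appLE_fromSpec g hV hU hUV
  have hrange : Set.range ξ ⊆ Set.range hV.fromSpec := by
    rw [hV.range_fromSpec]
    rintro _ ⟨z, rfl⟩
    have hz : ξ (closedPoint A) ∈ V := by
      rw [← hx', ← Scheme.Hom.comp_apply, pullback.condition, Scheme.Hom.comp_apply]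
      exact hyV
    exact (IsLocalRing.specializes_closedPoint z).map ξ.continuous |>.mem_open V.isOpen hz
  obtain ⟨α, hα⟩ := Spec.map_surjective (IsOpenImmersion.lift hV.fromSpec ξ hrange)
  have hαξ : Spec.map α ≫ hV.fromSpec = ξ := by rw [hα, IsOpenImmersion.lift_fac]
  letI iA : Algebra Γ(Y, V) A := α.hom.toAlgebra
  letI iU : Algebra Γ(Y, V) Γ(X, U) := ρ.hom.toAlgebra
  let C := A ⊗[Γ(Y, V)] Γ(X, U)
  let sA : Spec (CommRingCat.of A) ⟶ Spec Γ(Y, V) := Spec.map (CommRingCat.ofHom (algebraMap Γ(Y, V) A))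
  let sU : Spec Γ(X, U) ⟶ Spec Γ(Y, V) := Spec.map (CommRingCat.ofHom (algebraMap Γ(Y, V) Γ(X, U)))
  let j₀ : pullback sA sU ⟶ P := pullback.map sA sU ξ g (𝟙 _) hU.fromSpec hV.fromSpec
    (hαξ.trans (Category.id_comp _).symm) hρ
  let j : Spec (CommRingCat.of C) ⟶ P := (pullbackSpecIso Γ(Y, V) A Γ(X, U)).inv ≫ j₀
  haveI : IsOpenImmersion j₀ := inferInstanceAs (IsOpenImmersion (pullback.map _ _ _ _ _ _ _ _ _))
  haveI : IsOpenImmersion j := inferInstance
  have hj : j ≫ pullback.fst ξ g = Spec.map (CommRingCat.ofHom (algebraMap A C)) := by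
    show ((pullbackSpecIso Γ(Y, V) A Γ(X, U)).inv ≫ j₀) ≫ pullback.fst ξ g = _
    rw [Category.assoc, pullback.lift_fst, Category.comp_id, pullbackSpecIso_inv_fst]
    rfl
  obtain ⟨c, hc⟩ : x' ∈ Set.range j := by
    have h0 : x' ∈ Set.range j₀ := by
      rw [show Set.range j₀ = _ from Scheme.Pullback.range_map _ _ _ _ _ _ _ _ _]
      exact ⟨⟨_, rfl⟩, by rw [Set.mem_preimage, hU.range_fromSpec]; exact hxU⟩
    obtain ⟨z, hz⟩ := h0
    refine ⟨(pullbackSpecIso Γ(Y, V) A Γ(X, U)).hom z, ?_⟩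
    rw [← hz]
    show ((pullbackSpecIso Γ(Y, V) A Γ(X, U)).inv ≫ j₀) _ = _
    rw [← Scheme.Hom.comp_apply, Iso.hom_inv_id_assoc]
  subst hc
  obtain ⟨aC, hloc, hspec⟩ := exists_chart_localization j c
  letI := aC
  haveI := hloc
  letI : Algebra C QX'.R := ((algebraMap (P.presheaf.stalk (j c)) QX'.R).comp
    (algebraMap C (P.presheaf.stalk (j c)))).toAlgebra
  haveI : IsScalarTower C (P.presheaf.stalk (j c)) QX'.R := IsScalarTower.of_algebraMap_eq fun _ => rfl
  haveI : IsScalarTower A C QX'.R := by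
    refine IsScalarTower.of_algebraMap_eq' (Eq.symm ?_)
    refine congrArg CommRingCat.Hom.hom (Spec.map_injective (a₁ := CommRingCat.ofHom _) (a₂ := CommRingCat.ofHom _) ?_)
    show Spec.map (CommRingCat.ofHom (algebraMap A C) ≫ CommRingCat.ofHom (algebraMap C (P.presheaf.stalk (j c))) ≫
      CommRingCat.ofHom (algebraMap (P.presheaf.stalk (j c)) QX'.R)) = Spec.map (CommRingCat.ofHom ψ)
    rw [Spec.map_comp, Spec.map_comp, ← hj, ← hv'f, ← hv', Category.assoc, ← Category.assoc _ j, hspec, Hens2.specOf,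
      Category.assoc]
  exact H V U hUV hV hU A c.asIdeal (P.presheaf.stalk (j c)) QX'.R

theorem chartProp_sep {X Y : Scheme.{u}} (g : X ⟶ Y) [Flat g]
    (hsep : ∀ (K : Type u) [Field K] (k : Spec (CommRingCat.of K) ⟶ Y), AlgebraicGeometry.IsReduced (pullback g k))
    (hn : IsLocallyNoetherian Y ∨ LocallyOfFinitePresentation g) (V : Y.Opens) (U : X.Opens) (hUV : U ≤ g ⁻¹ᵁ V)
    (hV : IsAffineOpen V) (hU : IsAffineOpen U) :
    letI := (g.appLE V U hUV).hom.toAlgebra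
    ChartProp Γ(Y, V) Γ(X, U) := by
  intro A _ _ _ _ q _ Cq _ _ _ _ B _ _ _ _ _ _ _ _ _ _
  letI iU : Algebra Γ(Y, V) Γ(X, U) := (g.appLE V U hUV).hom.toAlgebra
  let ρ : Γ(Y, V) ⟶ Γ(X, U) := g.appLE V U hUV
  have hρ : Spec.map ρ ≫ hV.fromSpec = hU.fromSpec ≫ g := IsAffineOpen.SpecMap_appLE_fromSpec g hV hU hUV
  let sU : Spec Γ(X, U) ⟶ Spec Γ(Y, V) := Spec.map (CommRingCat.ofHom (algebraMap Γ(Y, V) Γ(X, U)))
  haveI : Module.Flat Γ(Y, V) Γ(X, U) := RingHom.flat_algebraMap_iff.mp (Flat.flat_appLE g hV hU hUV)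
  have hm : HasModel A (A ⊗[Γ(Y, V)] Γ(X, U)) := by
    rcases hn with hn | hn
    · haveI : IsNoetherianRing Γ(Y, V) := hn.component_noetherian ⟨V, hV⟩
      exact (hasModel_of_noetherian (A := Γ(Y, V)) (C := Γ(X, U))).baseChange A
    · haveI : Algebra.FinitePresentation Γ(Y, V) Γ(X, U) :=
        LocallyOfFinitePresentation.finitePresentation_appLE g hV hU hUV
      exact (hasModel_of_finitePresentation (A := Γ(Y, V)) (C := Γ(X, U))).baseChange A
  haveI : Module.Flat A B := by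
    haveI : Module.Flat (A ⊗[Γ(Y, V)] Γ(X, U)) B := EtStrictLoc.flat_strict q Cq B
    exact Module.Flat.trans A (A ⊗[Γ(Y, V)] Γ(X, U)) B
  refine acyclicRingMap_of_flat fun Ω _ _ _ => connectedSpace_tensor_of_model q Cq B hm (fun K _ _ => ?_) Ω
  -- reducedness of the fibre
  letI : Algebra Γ(Y, V) K := ((algebraMap A K).comp (algebraMap Γ(Y, V) A)).toAlgebra
  haveI : IsScalarTower Γ(Y, V) A K := IsScalarTower.of_algebraMap_eq fun _ => rfl
  let sK : Spec (CommRingCat.of K) ⟶ Spec Γ(Y, V) := Spec.map (CommRingCat.ofHom (algebraMap Γ(Y, V) K))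
  haveI := hsep K (sK ≫ hV.fromSpec)
  let m : pullback sU sK ⟶ pullback g (sK ≫ hV.fromSpec) := pullback.map sU sK g (sK ≫ hV.fromSpec) hU.fromSpec (𝟙 _)
    hV.fromSpec hρ (Category.id_comp _).symm
  haveI : IsOpenImmersion m := inferInstanceAs (IsOpenImmersion (pullback.map _ _ _ _ _ _ _ _ _))
  haveI : AlgebraicGeometry.IsReduced (pullback sU sK) := isReduced_of_isOpenImmersion m
  haveI : AlgebraicGeometry.IsReduced (Spec (CommRingCat.of (Γ(X, U) ⊗[Γ(Y, V)] K))) :=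
    isReduced_of_isOpenImmersion (pullbackSpecIso Γ(Y, V) Γ(X, U) K).inv
  haveI : _root_.IsReduced (Γ(X, U) ⊗[Γ(Y, V)] K) :=
    (affine_isReduced_iff (CommRingCat.of (Γ(X, U) ⊗[Γ(Y, V)] K))).1 inferInstance
  exact isReduced_of_injective _
    ((Algebra.TensorProduct.cancelBaseChange Γ(Y, V) A A K Γ(X, U)).toRingEquiv.trans
      (Algebra.TensorProduct.comm Γ(Y, V) K Γ(X, U)).toRingEquiv).injective

theorem connectedSpace_tensor_sep {X Y X₁ Y₁ : Scheme.{u}} (g : X ⟶ Y) [Flat g]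
    (hsep : ∀ (K : Type u) [Field K] (k : Spec (CommRingCat.of K) ⟶ Y), AlgebraicGeometry.IsReduced (pullback g k))
    (hn : IsLocallyNoetherian Y ∨ LocallyOfFinitePresentation g) (g₁ : X₁ ⟶ Y₁) (b : Y₁ ⟶ Y) (b' : X₁ ⟶ X)
    (sq : IsPullback b' g₁ g b) {x : X₁} (QX : EtBCQ.SH X₁ x) {y : Y₁} (QY : EtBCQ.SH Y₁ y)
    [Algebra QY.R QX.R] [IsLocalHom (algebraMap QY.R QX.R)]
    (hX : Spec.map (CommRingCat.ofHom (algebraMap QY.R QX.R)) ≫ QY.spec = QX.spec ≫ g₁)
    (Ω : Type u) [Field Ω] [IsAlgClosed Ω] [Algebra QY.R Ω] :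
    ConnectedSpace (PrimeSpectrum (QX.R ⊗[QY.R] Ω)) := by
  have h := (acyclicRingMap_strict g (fun V U hUV hV hU => chartProp_sep g hsep hn V U hUV hV hU) g₁ b b' sq QX QY hX).2
    Ω (Spec.map (CommRingCat.ofHom (algebraMap QY.R Ω)))
  exact (pullbackSpecIso QY.R QX.R Ω).hom.homeomorph.connectedSpace_iff.1 h

end Groth.Agent.EtShSep
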