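import Groth.Agent.FlatSpread.Model
import Groth.Agent.WeakEt.Basic
import Mathlib

/-!
Flat algebras obtained by base change from a Noetherian ring, and their behaviour under étale extensions.
-/

set_option autoImplicit false
set_option maxHeartbeats 800000
set_option synthInstance.maxHeartbeats 200000
set_option linter.style.haveILetI false

universe u

open scoped TensorProduct

namespace Groth.Agent.EtShSep

/-- `C` is the base change of a flat algebra over a Noetherian ring -/
def HasModel (A C : Type u) [CommRing A] [CommRing C] [Algebra A C] : Prop :=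
  ∃ (A₀ : Type u) (_ : CommRing A₀) (_ : IsNoetherianRing A₀) (_ : Algebra A₀ A) (C₀ : Type u) (_ : CommRing C₀)
    (_ : Algebra A₀ C₀) (_ : Module.Flat A₀ C₀), Nonempty (A ⊗[A₀] C₀ ≃ₐ[A] C)

variable {A C : Type u} [CommRing A] [CommRing C] [Algebra A C]

theorem HasModel.of_equiv (h : HasModel A C) {D : Type u} [CommRing D] [Algebra A D] (e : C ≃ₐ[A] D) : HasModel A D := by
  obtain ⟨A₀, _, _, _, C₀, _, _, _, ⟨ε⟩⟩ := h
  exact ⟨A₀, inferInstance, inferInstance, inferInstance, C₀, inferInstance, inferInstance, inferInstance, ⟨ε.trans e⟩⟩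

theorem hasModel_of_noetherian [IsNoetherianRing A] [Module.Flat A C] : HasModel A C :=
  ⟨A, inferInstance, inferInstance, inferInstance, C, inferInstance, inferInstance, inferInstance,
    ⟨Algebra.TensorProduct.lid A C⟩⟩

theorem hasModel_of_finitePresentation [Algebra.FinitePresentation A C] [Module.Flat A C] : HasModel A C := by
  obtain ⟨R₀, _, _, S₀, _, _, _, _, _, _, hR, -, hflat, hpush⟩ := FlatSpread.exists_model_algebra A C
  haveI := hR
  haveI := hflat
  haveI := hpush
  haveI : IsNoetherianRing R₀ := Algebra.FiniteType.isNoetherianRing ℤ R₀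
  exact ⟨R₀, inferInstance, inferInstance, inferInstance, S₀, inferInstance, inferInstance, inferInstance,
    ⟨Algebra.IsPushout.equiv R₀ A S₀ C⟩⟩

theorem HasModel.baseChange (h : HasModel A C) (B : Type u) [CommRing B] [Algebra A B] : HasModel B (B ⊗[A] C) := by
  obtain ⟨A₀, _, _, _, C₀, _, _, _, ⟨ε⟩⟩ := h
  letI : Algebra A₀ B := ((algebraMap A B).comp (algebraMap A₀ A)).toAlgebra
  haveI : IsScalarTower A₀ A B := IsScalarTower.of_algebraMap_eq fun _ => rfl
  exact ⟨A₀, inferInstance, inferInstance, inferInstance, C₀, inferInstance, inferInstance, inferInstance,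
    ⟨(Algebra.TensorProduct.cancelBaseChange A₀ A B B C₀).symm.trans
      (Algebra.TensorProduct.congr AlgEquiv.refl ε)⟩⟩

theorem exists_fg_range {A₀ C₀ : Type u} [CommRing A₀] [CommRing C₀] [Algebra A₀ A] [Algebra A₀ C₀]
    (s : Finset (A ⊗[A₀] C₀)) : ∃ A₁ : Subalgebra A₀ A, A₁.FG ∧
      ∀ x ∈ s, x ∈ (Algebra.TensorProduct.map A₁.val (AlgHom.id A₀ C₀)).range := by
  classical
  have key : ∀ x : A ⊗[A₀] C₀, ∃ A₁ : Subalgebra A₀ A, A₁.FG ∧ ∀ A₂, A₁ ≤ A₂ →
      x ∈ (Algebra.TensorProduct.map A₂.val (AlgHom.id A₀ C₀)).range := fun x => by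
    induction x using TensorProduct.induction_on with
    | zero => exact ⟨⊥, Subalgebra.fg_bot, fun _ _ => zero_mem _⟩
    | tmul a c =>
      exact ⟨Algebra.adjoin A₀ ↑({a} : Finset A), ⟨_, rfl⟩, fun A₂ h =>
        ⟨⟨a, h (Algebra.subset_adjoin (by simp))⟩ ⊗ₜ c, rfl⟩⟩
    | add x y hx hy =>
      obtain ⟨P, hP, hP'⟩ := hx
      obtain ⟨Q, hQ, hQ'⟩ := hy
      exact ⟨P ⊔ Q, hP.sup hQ, fun A₂ h => add_mem (hP' A₂ (le_sup_left.trans h)) (hQ' A₂ (le_sup_right.trans h))⟩
  choose P hP hP' using key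
  induction s using Finset.induction with
  | empty => exact ⟨⊥, Subalgebra.fg_bot, fun x hx => absurd hx (Finset.notMem_empty x)⟩
  | insert x t _ ih =>
    obtain ⟨Q, hQ, hQ'⟩ := ih
    refine ⟨P x ⊔ Q, (hP x).sup hQ, fun y hy => ?_⟩
    rcases Finset.mem_insert.1 hy with rfl | hy
    · exact hP' _ _ le_sup_left
    · obtain ⟨z, hz⟩ := hQ' y hy
      refine ⟨Algebra.TensorProduct.map (Subalgebra.inclusion (show Q ≤ P x ⊔ Q from le_sup_right)) (AlgHom.id A₀ C₀) z, ?_⟩
      rw [← hz]
      clear hz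
      induction z using TensorProduct.induction_on with
      | zero => simp
      | tmul _ _ => simp [Subalgebra.coe_inclusion]
      | add a b ha hb => simp only [map_add, ha, hb]

theorem hasModel_of_pushout (A₁ P T S₀ D₀ D : Type u) [CommRing A₁] [IsNoetherianRing A₁] [CommRing P] [CommRing T]
    [CommRing S₀] [CommRing D₀] [CommRing D] [Algebra A₁ A] [Algebra A₁ P] [Algebra A₁ T] [Algebra A T] [Algebra P T]
    [IsScalarTower A₁ P T] [IsScalarTower A₁ A T] [Algebra.IsPushout A₁ A P T] [Module.Flat A₁ P]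
    [Algebra S₀ P] [Algebra S₀ T] [IsScalarTower S₀ P T] [Algebra S₀ D₀] [Module.Flat S₀ D₀]
    [Algebra A D] [Algebra T D] [IsScalarTower A T D] (δ : D ≃ₐ[T] T ⊗[S₀] D₀) : HasModel A D := by
  haveI : Module.Flat A₁ (P ⊗[S₀] D₀) := Module.Flat.trans A₁ P (P ⊗[S₀] D₀)
  let e₁ : T ⊗[P] (P ⊗[S₀] D₀) ≃ₐ[A] D :=
    ((Algebra.TensorProduct.cancelBaseChange S₀ P T T D₀).trans δ.symm).restrictScalars A
  exact ⟨A₁, inferInstance, inferInstance, inferInstance, P ⊗[S₀] D₀, inferInstance, inferInstance, inferInstance,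
    ⟨(Algebra.IsPushout.cancelBaseChangeAlg A₁ A P T (P ⊗[S₀] D₀)).symm.trans e₁⟩⟩

theorem HasModel.etale (h : HasModel A C) (D : Type u) [CommRing D] [Algebra A D] [Algebra C D]
    [IsScalarTower A C D] [Algebra.Etale C D] : HasModel A D := by
  obtain ⟨A₀, _, _, _, C₀, _, _, _, ⟨ε⟩⟩ := h
  let T := A ⊗[A₀] C₀
  letI : Algebra T C := ε.toAlgHom.toRingHom.toAlgebra
  haveI : Algebra.Etale T C := RingHom.Etale.of_bijective (f := ε.toAlgHom.toRingHom) ε.bijective
  letI : Algebra T D := ((algebraMap C D).comp ε.toAlgHom.toRingHom).toAlgebra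
  haveI : IsScalarTower T C D := IsScalarTower.of_algebraMap_eq fun _ => rfl
  haveI : Algebra.Etale T D := Algebra.Etale.comp T C D
  haveI : IsScalarTower A T D := IsScalarTower.of_algebraMap_eq fun a => by
    show algebraMap A D a = algebraMap C D (ε (algebraMap A T a))
    rw [ε.commutes, ← IsScalarTower.algebraMap_apply]
  obtain ⟨S₀, D₀, _, _, ⟨s, hs⟩, _, ⟨δ⟩⟩ := Algebra.Etale.exists_subalgebra_fg ℤ T D
  obtain ⟨A₁, hA₁, hsA₁⟩ := exists_fg_range (A := A) s
  haveI : IsNoetherianRing A₁ := isNoetherianRing_of_fg hA₁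
  let P := A₁ ⊗[A₀] C₀
  let j : P →ₐ[A₀] T := Algebra.TensorProduct.map A₁.val (AlgHom.id A₀ C₀)
  have hj : Function.Injective j :=
    Module.Flat.rTensor_preserves_injective_linearMap (M := C₀) A₁.val.toLinearMap Subtype.val_injective
  let U : Subalgebra ℤ T := subalgebraOfSubring j.toRingHom.range
  have hS : S₀ ≤ U := hs ▸ Algebra.adjoin_le fun x hx => hsA₁ x hx
  let ρ : S₀ →+* P :=
    ((RingEquiv.ofBijective j.toRingHom.rangeRestrict
      ⟨fun a b hab => hj (congrArg Subtype.val hab), j.toRingHom.rangeRestrict_surjective⟩).symm.toRingHom).comp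
      (S₀.val.toRingHom.codRestrict j.toRingHom.range fun x => hS x.2)
  have hρ : ∀ x : S₀, j (ρ x) = (x : T) := fun x => by
    exact congrArg Subtype.val ((RingEquiv.ofBijective j.toRingHom.rangeRestrict
      ⟨fun a b hab => hj (congrArg Subtype.val hab), j.toRingHom.rangeRestrict_surjective⟩).apply_symm_apply _)
  letI : Algebra S₀ P := ρ.toAlgebra
  letI : Algebra P T := j.toRingHom.toAlgebra
  haveI : IsScalarTower S₀ P T := IsScalarTower.of_algebraMap_eq fun x => (hρ x).symm
  haveI : IsScalarTower A₁ P T := IsScalarTower.of_algebraMap_eq (R := A₁) (S := P) (A := T) fun a => by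
    show (a : A) ⊗ₜ[A₀] (1 : C₀) = j (a ⊗ₜ 1)
    rw [Algebra.TensorProduct.map_tmul]
    rfl
  haveI : Algebra.IsPushout A₁ A P T :=
    Algebra.IsPushout.tensorProduct_tensorProduct A₀ C₀ A₁ A (RingHom.ext fun c => by
      show j (1 ⊗ₜ c) = _
      rw [Algebra.TensorProduct.map_tmul, map_one]
      rfl)
  haveI : Module.Flat A₁ P := inferInstance
  exact hasModel_of_pushout A₁ P T S₀ D₀ D δ

/-- étale algebras over reduced rings are reduced -/
theorem isReduced_of_etale (C D : Type u) [CommRing C] [CommRing D] [Algebra C D] [Algebra.Etale C D] [IsReduced C] :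
    IsReduced D :=
  WeakEt.isReduced_of_weaklyEtale C D

theorem isReduced_tensor_of_etale (K : Type u) [CommRing K] [Algebra A K] (D : Type u) [CommRing D] [Algebra A D]
    [Algebra C D] [IsScalarTower A C D] [Algebra.Etale C D] [IsReduced (K ⊗[A] C)] : IsReduced (K ⊗[A] D) := by
  haveI : IsReduced (C ⊗[A] K) := isReduced_of_injective _ (Algebra.TensorProduct.comm A C K).injective
  haveI : IsReduced ((C ⊗[A] K) ⊗[C] D) := isReduced_of_etale (C ⊗[A] K) ((C ⊗[A] K) ⊗[C] D)
  let e : (C ⊗[A] K) ⊗[C] D ≃ₐ[C] D ⊗[A] K :=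
    (Algebra.TensorProduct.comm C (C ⊗[A] K) D).trans
      ((Algebra.TensorProduct.cancelBaseChange A C D D K).restrictScalars C)
  haveI : IsReduced (D ⊗[A] K) := isReduced_of_injective _ e.symm.injective
  exact isReduced_of_injective _ (Algebra.TensorProduct.comm A K D).injective

end Groth.Agent.EtShSep
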