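import Groth.Agent.EtShSep.Lift
import Groth.Agent.EtShSep.Model
import Groth.Agent.FFModel.Basic
import Groth.Agent.EtStrictLoc.Ring
import Groth.Agent.EtAcycX.LAChange
import Groth.Agent.Hensel.TensorFinite
import Groth.Agent.Hensel.Branches
import Groth.Agent.GRingCpl.ConnFibre
import Groth.Agent.EtShLib.SmoothStrict
import Mathlib

/-!
Geometric fibres of strict henselizations of flat algebras with geometrically reduced fibres are connected.
-/

set_option autoImplicit false
set_option maxHeartbeats 1200000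
set_option linter.style.haveILetI false
set_option linter.unusedSectionVars false

universe u

open scoped TensorProduct
open IsLocalRing

noncomputable section

namespace Groth.Agent.EtShSep

variable {A C : Type u} [CommRing A] [CommRing C] [Algebra A C] (q : Ideal C) [q.IsPrime] (Cq : Type u) [CommRing Cq]
  [IsLocalRing Cq] [Algebra C Cq] [IsLocalization.AtPrime Cq q] (B : Type u) [CommRing B] [IsLocalRing B]
  [Algebra Cq B] [IsLocalHom (algebraMap Cq B)] [_root_.Hensel.IsStrictHenselization Cq B] [Algebra C B]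
  [IsScalarTower C Cq B] [Algebra A B] [IsScalarTower A C B]

include q Cq in
theorem exists_stage_tensor {L : Type u} [CommRing L] [Algebra A L] (e : B ⊗[A] L) :
    ∃ (D : Type u) (_ : CommRing D) (_ : Algebra A D) (_ : Algebra C D) (_ : IsScalarTower A C D)
      (_ : Algebra.Etale C D) (φ : D →ₐ[C] B) (e' : D ⊗[A] L),
      Algebra.TensorProduct.map (φ.restrictScalars A) (AlgHom.id A L) e' = e := by
  induction e using TensorProduct.induction_on with
  | zero => exact ⟨C, inferInstance, inferInstance, inferInstance, inferInstance, inferInstance, Algebra.ofId C B, 0,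
      map_zero _⟩
  | tmul b l =>
    obtain ⟨D, _, _, _, φ, y, rfl⟩ := EtStrictLoc.exists_stage q Cq B b
    letI : Algebra A D := ((algebraMap C D).comp (algebraMap A C)).toAlgebra
    haveI : IsScalarTower A C D := IsScalarTower.of_algebraMap_eq fun _ => rfl
    exact ⟨D, inferInstance, inferInstance, inferInstance, inferInstance, inferInstance, φ, y ⊗ₜ l, rfl⟩
  | add e₁ e₂ h₁ h₂ =>
    obtain ⟨D₁, _, _, _, _, _, φ₁, x₁, rfl⟩ := h₁
    obtain ⟨D₂, _, _, _, _, _, φ₂, x₂, rfl⟩ := h₂
    haveI : Algebra.Etale C (D₁ ⊗[C] D₂) := Algebra.Etale.comp C D₁ (D₁ ⊗[C] D₂)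
    let i₁ : D₁ →ₐ[C] D₁ ⊗[C] D₂ := Algebra.TensorProduct.includeLeft
    let i₂ : D₂ →ₐ[C] D₁ ⊗[C] D₂ := Algebra.TensorProduct.includeRight
    refine ⟨D₁ ⊗[C] D₂, inferInstance, inferInstance, inferInstance, inferInstance, inferInstance,
      Algebra.TensorProduct.lift φ₁ φ₂ (fun _ _ => .all _ _),
      Algebra.TensorProduct.map (i₁.restrictScalars A) (AlgHom.id A L) x₁ +
        Algebra.TensorProduct.map (i₂.restrictScalars A) (AlgHom.id A L) x₂, ?_⟩
    rw [map_add]
    congr 1
    · induction x₁ using TensorProduct.induction_on with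
      | zero => simp
      | tmul _ _ => simp [i₁]
      | add a b ha hb => simp only [map_add, ha, hb]
    · induction x₂ using TensorProduct.induction_on with
      | zero => simp
      | tmul _ _ => simp [i₂]
      | add a b ha hb => simp only [map_add, ha, hb]

include q Cq in
theorem exists_kill_tensor {L : Type u} [CommRing L] [Algebra A L] {D : Type u} [CommRing D] [Algebra A D]
    [Algebra C D] [IsScalarTower A C D] [Algebra.Etale C D] (φ : D →ₐ[C] B) (z : D ⊗[A] L)
    (hz : Algebra.TensorProduct.map (φ.restrictScalars A) (AlgHom.id A L) z = 0) :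
    ∃ w : D, IsUnit (φ w) ∧ (w ⊗ₜ[A] (1 : L)) * z = 0 := by
  letI : Algebra D B := φ.toRingHom.toAlgebra
  haveI : IsScalarTower C D B := IsScalarTower.of_algebraMap_eq fun r => (φ.commutes r).symm
  haveI : IsScalarTower A D B := IsScalarTower.of_algebraMap_eq fun r => by
    rw [IsScalarTower.algebraMap_apply A C B, IsScalarTower.algebraMap_apply A C D]
    exact (φ.commutes _).symm
  haveI : Module.Flat C B := EtStrictLoc.flat_strict q Cq B
  haveI : Module.Flat D B := UnramLib.flat_of_formallyUnramified C D B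
  let s : D →ₗ[D] D ⊗[A] L := LinearMap.toSpanSingleton D _ z
  have hex : Function.Exact (LinearMap.lTensor B (LinearMap.ker s).subtype) (LinearMap.lTensor B s) :=
    Module.Flat.lTensor_exact (M := B) (LinearMap.exact_subtype_ker_map s)
  have h1 : LinearMap.lTensor B s ((1 : B) ⊗ₜ (1 : D)) = 0 := by
    apply (TensorProduct.AlgebraTensorModule.cancelBaseChange A D D B L).injective
    rw [map_zero, ← hz, LinearMap.lTensor_tmul, LinearMap.toSpanSingleton_apply, one_smul]
    clear hz hex
    induction z using TensorProduct.induction_on with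
    | zero => simp
    | tmul d l => simp [Algebra.smul_def, RingHom.algebraMap_toAlgebra]
    | add a b ha hb => rw [TensorProduct.tmul_add, map_add, map_add, ha, hb]
  obtain ⟨t, ht⟩ := (hex _).1 h1
  by_contra hne
  push Not at hne
  have hmem : ∀ t : B ⊗[D] LinearMap.ker s,
      TensorProduct.rid D B (LinearMap.lTensor B (LinearMap.ker s).subtype t) ∈ maximalIdeal B := fun t => by
    induction t using TensorProduct.induction_on with
    | zero => simp
    | tmul b i =>
      rw [LinearMap.lTensor_tmul, TensorProduct.rid_tmul, Algebra.smul_def]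
      refine Ideal.mul_mem_right _ _ ((mem_maximalIdeal _).2 fun hu => hne (i : D) hu ?_)
      have h2 : (i : D) • z = 0 := LinearMap.mem_ker.1 i.2
      rw [← h2, Algebra.smul_def]
      rfl
    | add a b ha hb => rw [map_add, map_add]; exact Ideal.add_mem _ ha hb
  have h3 := hmem t
  rw [ht, TensorProduct.rid_tmul, one_smul] at h3
  exact (maximalIdeal.isMaximal B).ne_top ((Ideal.eq_top_iff_one _).2 h3)

/-- on étale algebras over `C`, idempotents over the field lift to the subring -/
def IdemLifts (A C : Type u) [CommRing A] [CommRing C] [Algebra A C] {R₀ L : Type u} [CommRing R₀] [Field L] [Algebra A L]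
    [Algebra A R₀] [Algebra R₀ L] [IsScalarTower A R₀ L] (A' : Subalgebra R₀ L) : Prop :=
  ∀ (D : Type u) [CommRing D] [Algebra A D] [Algebra C D] [IsScalarTower A C D] [Algebra.Etale C D]
    (e : D ⊗[A] L), IsIdempotentElem e → ∃ z : D ⊗[A] A', IsIdempotentElem z ∧
      Algebra.TensorProduct.map (AlgHom.id A D) (IsScalarTower.toAlgHom A A' L) z = e

include q Cq in
/-- idempotents over the field are defined over the integral closure -/
theorem exists_idem_tensor {R₀ L : Type u} [CommRing R₀] [Field L] [Algebra A L] [Algebra A R₀] [Algebra R₀ L] [IsScalarTower A R₀ L]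
    (A' : Subalgebra R₀ L) (H : IdemLifts A C A') (e : B ⊗[A] L) (he : IsIdempotentElem e) :
    ∃ z : B ⊗[A] A', IsIdempotentElem z ∧
      Algebra.TensorProduct.map (AlgHom.id A B) (IsScalarTower.toAlgHom A A' L) z = e := by
  obtain ⟨D₁, _, _, _, _, _, φ₁, e₁, rfl⟩ := exists_stage_tensor q Cq B e
  obtain ⟨w, hw, hkill⟩ := exists_kill_tensor q Cq B φ₁ (e₁ * e₁ - e₁) (by rw [map_sub, map_mul, he.eq, sub_self])
  let D := Localization.Away w
  haveI : Algebra.Etale D₁ D := Algebra.Etale.of_isLocalizationAway w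
  haveI : Algebra.Etale C D := Algebra.Etale.comp C D₁ D
  let φ : D →ₐ[C] B := IsLocalization.Away.liftAlgHom w (f := φ₁) hw
  let i : D₁ →ₐ[C] D := IsScalarTower.toAlgHom C D₁ D
  have hφ : φ.comp i = φ₁ := AlgHom.ext fun x => IsLocalization.Away.lift_eq w (g := φ₁.toRingHom) hw x
  let iT := Algebra.TensorProduct.map (i.restrictScalars A) (AlgHom.id A L)
  let e' : D ⊗[A] L := iT e₁
  have he' : IsIdempotentElem e' := by
    show iT e₁ * iT e₁ = iT e₁
    rw [← map_mul, ← sub_eq_zero, ← map_sub]
    have h0 := congrArg iT hkill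
    rw [map_mul, map_zero] at h0
    refine ((IsUnit.map (Algebra.TensorProduct.includeLeft : D →ₐ[A] D ⊗[A] L)
      (IsLocalization.Away.algebraMap_isUnit (S := D) w)).mul_right_eq_zero).1 ?_
    exact h0
  have hee : Algebra.TensorProduct.map (φ.restrictScalars A) (AlgHom.id A L) e' =
      Algebra.TensorProduct.map (φ₁.restrictScalars A) (AlgHom.id A L) e₁ := by
    rw [← hφ]
    show _ = _
    clear he he' hkill
    simp only [e', iT]
    induction e₁ using TensorProduct.induction_on with
    | zero => simp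
    | tmul _ _ => simp
    | add a b ha hb => simp only [map_add, ha, hb]
  rw [← hee]
  obtain ⟨z, hz, hze⟩ := H D e' he'
  refine ⟨_, hz.map (Algebra.TensorProduct.map (φ.restrictScalars A) (AlgHom.id A A')), ?_⟩
  rw [← hze]
  clear hz hze
  induction z using TensorProduct.induction_on with
  | zero => simp
  | tmul _ _ => simp
  | add x y hx hy => simp only [map_add, hx, hy]

/-- idempotents over the field come from idempotents over the integrally closed subring, on every étale stage -/
theorem idemLifts_of_model (hm : HasModel A C)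
    (hred : ∀ (K : Type u) [Field K] [Algebra A K], IsReduced (K ⊗[A] C))
    {R₀ L : Type u} [CommRing R₀] [Field L] [Algebra A L] [Algebra A R₀] [Algebra R₀ L] [IsScalarTower A R₀ L]
    (A' : Subalgebra R₀ L) (hic : ∀ x : L, IsIntegral A' x → x ∈ A')
    (hfrac : ∀ l : L, ∃ a ∈ A', a ≠ 0 ∧ a * l ∈ A') : IdemLifts A C A' := by
  intro D _ _ _ _ _ e' he'
  -- the model
  obtain ⟨A₁, _, _, _, C₁, _, _, _, ⟨ε⟩⟩ := hm.etale D
  letI : Algebra A₁ L := ((algebraMap A L).comp (algebraMap A₁ A)).toAlgebra
  haveI : IsScalarTower A₁ A L := IsScalarTower.of_algebraMap_eq fun _ => rfl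
  have hA' : ∀ c : A₁, algebraMap A₁ L c ∈ A' := fun c => by
    show algebraMap A L (algebraMap A₁ A c) ∈ A'
    rw [IsScalarTower.algebraMap_apply A R₀ L]
    exact A'.algebraMap_mem _
  let A'₁ : Subalgebra A₁ L := { A'.toSubring with algebraMap_mem' := hA' }
  let Φ : L ⊗[A₁] C₁ ≃ₐ[A] D ⊗[A] L :=
    ((Algebra.TensorProduct.cancelBaseChange A₁ A A L C₁).symm.trans
      (Algebra.TensorProduct.congr AlgEquiv.refl ε)).trans (Algebra.TensorProduct.comm A L D)
  have hΦ : ∀ (l : L) (c : C₁), Φ (l ⊗ₜ c) = ε (1 ⊗ₜ c) ⊗ₜ l := fun l c => rfl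
  have hredK : ∀ (K : Type u) [Field K] [Algebra A₁ K], (A'₁ →ₐ[A₁] K) → IsReduced (K ⊗[A₁] C₁) := fun K _ _ ψ => by
    letI : Algebra A K := (ψ.toRingHom.comp (((algebraMap R₀ L).comp (algebraMap A R₀)).codRestrict A'₁.toSubring
      fun c => A'.algebraMap_mem _)).toAlgebra
    haveI : IsScalarTower A₁ A K := IsScalarTower.of_algebraMap_eq fun c => by
      refine (ψ.commutes c).symm.trans (congrArg ψ (Subtype.ext ?_))
      show algebraMap A L (algebraMap A₁ A c) = algebraMap R₀ L (algebraMap A R₀ (algebraMap A₁ A c))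
      exact IsScalarTower.algebraMap_apply A R₀ L _
    haveI := hred K
    haveI := isReduced_tensor_of_etale (A := A) (C := C) K D
    exact isReduced_of_injective _ ((Algebra.TensorProduct.cancelBaseChange A₁ A A K C₁).symm.trans
      (Algebra.TensorProduct.congr AlgEquiv.refl ε)).injective
  obtain ⟨z, hz⟩ := exists_idem_lift A'₁ (fun x hx => hic x hx) hfrac hredK (Φ.symm e') (he'.map Φ.symm)
  rw [show e' = Φ (Algebra.TensorProduct.map A'₁.val (AlgHom.id A₁ C₁) z) by rw [hz, Φ.apply_symm_apply]]
  haveI : Module.Flat A D := Module.Flat.of_linearEquiv ε.symm.toLinearEquiv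
  let jD := Algebra.TensorProduct.map (AlgHom.id A D) (IsScalarTower.toAlgHom A A' L)
  have hjD : Function.Injective jD := Module.Flat.lTensor_preserves_injective_linearMap
    (IsScalarTower.toAlgHom A A' L).toLinearMap Subtype.val_injective
  suffices h : ∀ w, Φ (Algebra.TensorProduct.map A'₁.val (AlgHom.id A₁ C₁) w) ∈ Set.range jD by
    obtain ⟨z', hz'⟩ := h z
    refine ⟨z', hjD (by rw [map_mul, hz', hz, Φ.apply_symm_apply]; exact he'.eq), ?_⟩
    exact hz'
  intro w
  induction w using TensorProduct.induction_on with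
  | zero => exact ⟨0, by simp⟩
  | tmul x c => exact ⟨ε (1 ⊗ₜ c) ⊗ₜ (⟨x, x.2⟩ : A'), by
      rw [Algebra.TensorProduct.map_tmul, Algebra.TensorProduct.map_tmul, hΦ]
      rfl⟩
  | add x y hx hy =>
    obtain ⟨a, ha⟩ := hx
    obtain ⟨b, hb⟩ := hy
    exact ⟨a + b, by simp only [map_add, ha, hb]⟩

include q Cq in
/-- **Connectedness of the geometric fibres**, from lifting of idempotents on étale stages. -/
theorem connectedSpace_tensor_of_lifts [HenselianLocalRing A] [IsSepClosed (ResidueField A)]
    [IsLocalHom (algebraMap A B)] (hsurj : Function.Surjective (PrimeSpectrum.comap (algebraMap A B)))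
    (H : ∀ {R₀ L : Type u} [CommRing R₀] [Field L] [IsAlgClosed L] [Algebra A L] [Algebra A R₀] [Algebra R₀ L]
      [IsScalarTower A R₀ L] (A' : Subalgebra R₀ L), (∀ x : L, IsIntegral A' x → x ∈ A') →
      (∀ l : L, ∃ a ∈ A', a ≠ 0 ∧ a * l ∈ A') → IdemLifts A C A')
    (Ω : Type u) [Field Ω] [IsAlgClosed Ω] [Algebra A Ω] : ConnectedSpace (PrimeSpectrum (B ⊗[A] Ω)) := by
  haveI : HenselianLocalRing B := _root_.Hensel.IsStrictHenselization.henselian Cq
  let p : Ideal A := RingHom.ker (algebraMap A Ω)
  haveI : p.IsPrime := RingHom.ker_isPrime _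
  let R₀ := A ⧸ p
  haveI : IsDomain R₀ := inferInstance
  letI : Algebra R₀ Ω := (RingHom.kerLift (algebraMap A Ω)).toAlgebra
  haveI : IsScalarTower A R₀ Ω := IsScalarTower.of_algebraMap_eq fun r => rfl
  have hinj : Function.Injective (algebraMap R₀ Ω) := RingHom.kerLift_injective (algebraMap A Ω)
  haveI : FaithfulSMul R₀ Ω := (faithfulSMul_iff_algebraMap_injective _ _).2 hinj
  let κ := FractionRing R₀
  letI : Algebra κ Ω := FractionRing.liftAlgebra R₀ Ω
  let L := AlgebraicClosure κ
  letI : Algebra L Ω := (IsAlgClosed.lift : L →ₐ[κ] Ω).toRingHom.toAlgebra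
  haveI : IsScalarTower κ L Ω := IsScalarTower.of_algebraMap_eq fun c => ((IsAlgClosed.lift : L →ₐ[κ] Ω).commutes c).symm
  haveI : IsScalarTower A L Ω := IsScalarTower.of_algebraMap_eq fun r => by
    rw [IsScalarTower.algebraMap_apply A κ L, ← IsScalarTower.algebraMap_apply κ L Ω,
      IsScalarTower.algebraMap_apply A R₀ κ, ← IsScalarTower.algebraMap_apply R₀ κ Ω, ← IsScalarTower.algebraMap_apply A R₀ Ω]
  haveI : Algebra.IsAlgebraic R₀ L := ⟨fun z => (IsFractionRing.isAlgebraic_iff R₀ κ L).mpr (Algebra.IsAlgebraic.isAlgebraic z)⟩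
  have hinjL : ∀ z, algebraMap R₀ L z = 0 → z = 0 := fun z hz => by
    apply hinj
    rw [map_zero, IsScalarTower.algebraMap_apply R₀ κ Ω, IsScalarTower.algebraMap_apply κ L Ω,
      ← IsScalarTower.algebraMap_apply R₀ κ L, hz, map_zero]
  let A' := integralClosure R₀ L
  haveI : IsFractionRing A' L := integralClosure.isFractionRing_of_algebraic hinjL
  haveI : IsIntegrallyClosed A' := (isIntegrallyClosed_iff_isIntegrallyClosedIn L).2 inferInstance
  haveI : HenselianLocalRing R₀ := Hensel.henselianLocalRing_finite A R₀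
  haveI : Algebra.IsIntegral R₀ A' := inferInstance
  haveI : IsLocalRing A' := Hensel.isLocalRing_of_integral_domain R₀ A'
  haveI : Algebra.IsIntegral A A' := Algebra.IsIntegral.trans R₀
  haveI : HenselianLocalRing A' := Hensel.henselianLocalRing_finite A A'
  haveI : IsLocalHom (algebraMap A A') := by
    refine ((local_hom_TFAE (algebraMap A A')).out 0 4).2 ?_
    exact eq_maximalIdeal (Ideal.isMaximal_comap_of_isIntegral_of_isMaximal (R := A) (maximalIdeal A'))
  haveI : Nontrivial (B ⊗[A] A') := EtShLib.nontrivial_tensor A B A'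
  haveI : IsLocalRing (B ⊗[A] A') := EtAcycX.isLocalRing_tensor A B A'
  let j := Algebra.TensorProduct.map (AlgHom.id A B) (IsScalarTower.toAlgHom A A' L)
  let D := B ⊗[A] L
  haveI : Nontrivial D := by
    haveI := FFModel.nontrivial_tensor (R := A) (S := B) (K := L) (hsurj _)
    exact (Algebra.TensorProduct.comm A L B).symm.toEquiv.nontrivial
  haveI : ConnectedSpace (PrimeSpectrum D) := GRingCpl.connectedSpace_of_idem fun e he => by
    obtain ⟨z, hz, rfl⟩ := exists_idem_tensor q Cq B A' (H A' (fun x hx => isIntegral_trans (R := R₀) x hx) (fun l => by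
      obtain ⟨a, c, hc, rfl⟩ := IsFractionRing.div_surjective (A := A') l
      refine ⟨(c : L), c.2, fun h => nonZeroDivisors.ne_zero hc (Subtype.ext h), ?_⟩
      show (c : L) * ((a : L) / (c : L)) ∈ A'
      rw [mul_div_cancel₀ _ fun h => nonZeroDivisors.ne_zero hc (Subtype.ext h)]
      exact a.2)) e he
    rcases IsLocalRing.isUnit_or_isUnit_one_sub_self z with h | h
    · exact Or.inr (by rw [((IsIdempotentElem.iff_eq_one_of_isUnit h).1 hz : z = 1), map_one])
    · refine Or.inl ?_
      have : z * (1 - z) = 0 := by rw [mul_sub, mul_one, hz.eq, sub_self]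
      rw [show z = 0 from (h.mul_left_eq_zero).1 this, map_zero]
  letI : Algebra L D := (Algebra.TensorProduct.includeRight : L →ₐ[A] D).toRingHom.toAlgebra
  haveI h2 := GRingCpl.connectedSpace_tensor_of_algClosed (Ω := L) (Ω' := Ω) (D := D)
  haveI : IsScalarTower A L D := IsScalarTower.of_algebraMap_eq fun r =>
    (Algebra.TensorProduct.algebraMap_apply' (R := A) (A := B) (B := L) r)
  let ε : L ⊗[A] B ≃ₐ[L] D := AlgEquiv.ofRingEquiv (f := (Algebra.TensorProduct.comm A L B).toRingEquiv)
    fun l => rfl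
  let e : Ω ⊗[L] D ≃ₐ[Ω] Ω ⊗[A] B :=
    (Algebra.TensorProduct.congr AlgEquiv.refl ε.symm).trans (Algebra.TensorProduct.cancelBaseChange A L Ω Ω B)
  exact (PrimeSpectrum.homeomorphOfRingEquiv
    (e.toRingEquiv.trans (Algebra.TensorProduct.comm A Ω B).toRingEquiv)).connectedSpace_iff.mp h2


include q Cq in
/-- **Connectedness of the geometric fibres.** -/
theorem connectedSpace_tensor_of_model [HenselianLocalRing A] [IsSepClosed (ResidueField A)]
    [IsLocalHom (algebraMap A B)] [Module.Flat A B] (hm : HasModel A C)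
    (hred : ∀ (K : Type u) [Field K] [Algebra A K], IsReduced (K ⊗[A] C))
    (Ω : Type u) [Field Ω] [IsAlgClosed Ω] [Algebra A Ω] : ConnectedSpace (PrimeSpectrum (B ⊗[A] Ω)) := by
  haveI : Module.FaithfullyFlat A B := Module.FaithfullyFlat.of_flat_of_isLocalHom
  exact connectedSpace_tensor_of_lifts q Cq B PrimeSpectrum.comap_surjective_of_faithfullyFlat
    (fun A' hic hfrac => idemLifts_of_model hm hred A' hic hfrac) Ω

end Groth.Agent.EtShSep
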