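import Groth.Agent.RG.Dev.ConnNbhd
import Groth.Agent.Rigid.FibreTranslate
import Groth.Agent.Unibranch.SectionComp
import Groth.Agent.Weighting.Geom
import Groth.Agent.EtShSep.Covered
import Groth.Agent.WeakEt.Scheme
import Mathlib

/-!
Factorisations through geometrically connected morphisms for flat morphisms with geometrically reduced fibres.
-/

set_option autoImplicit false
set_option backward.isDefEq.respectTransparency false
set_option backward.isDefEq.respectTransparency.types false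
set_option maxHeartbeats 1000000
set_option linter.style.haveILetI false

universe u

open CategoryTheory CategoryTheory.Limits AlgebraicGeometry TopologicalSpace

noncomputable section

namespace Groth.Agent.EtShSep

theorem geometricallyReduced_of_forall {X S : Scheme.{u}} (f : X ⟶ S)
    (h : ∀ (K : Type u) [Field K] (k : Spec (CommRingCat.of K) ⟶ S), IsReduced (pullback f k)) :
    GeometricallyReduced f := by
  rw [GeometricallyReduced.eq_geometrically]
  intro K _ y Z fst snd hZ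
  haveI := h K y
  exact isReduced_of_isOpenImmersion hZ.isoPullback.hom

theorem geometricallyReduced_etale_comp {U X S : Scheme.{u}} (j : U ⟶ X) [Etale j] (f : X ⟶ S)
    [GeometricallyReduced f] : GeometricallyReduced (j ≫ f) := by
  rw [GeometricallyReduced.eq_geometrically]
  intro K _ y Z fst snd hZ
  haveI : IsReduced (pullback f y) :=
    GeometricallyReduced.geometrically_isReduced y (pullback.fst f y) (pullback.snd f y) (.of_hasPullback _ _)
  let m : Z ⟶ pullback f y := pullback.lift (fst ≫ j) snd (by rw [Category.assoc]; exact hZ.w)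
  have hm : IsPullback fst m j (pullback.fst f y) :=
    IsPullback.of_bot (by rw [show m ≫ pullback.snd f y = snd from pullback.lift_snd _ _ _]; exact hZ)
      (pullback.lift_fst _ _ _).symm (IsPullback.of_hasPullback f y)
  haveI : Etale m := MorphismProperty.of_isPullback hm inferInstance
  haveI := WeakEt.isReduced m
  infer_instance

theorem exists_factor {X S : Scheme.{u}} (f : X ⟶ S) [Flat f] [LocallyOfFinitePresentation f]
    [GeometricallyReduced f] (x : X) :
    ∃ (U : X.Etale) (V : S.Etale) (a : U.left ⟶ V.left),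
      a ≫ V.hom = U.hom ≫ f ∧ QuasiCompact a ∧ GeometricallyConnected a ∧ x ∈ Set.range U.hom := by
  classical
  let s := f x
  obtain ⟨V₀, hV₀, hsV₀, -⟩ := exists_isAffineOpen_mem_and_subset (X := S) (U := ⊤) (x := s) trivial
  obtain ⟨U₀, hU₀, hxU₀, hUV⟩ := exists_isAffineOpen_mem_and_subset (X := X) (U := f ⁻¹ᵁ V₀) (x := x) hsV₀
  haveI : IsAffine V₀.toScheme := hV₀
  haveI : IsAffine U₀.toScheme := hU₀
  let h₀ : U₀.toScheme ⟶ V₀.toScheme := X.homOfLE hUV ≫ f ∣_ V₀
  have hh₀ : h₀ ≫ V₀.ι = U₀.ι ≫ f := by rw [Category.assoc, morphismRestrict_ι, Scheme.homOfLE_ι_assoc]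
  haveI : Flat (f ∣_ V₀) := MorphismProperty.of_isPullback (isPullback_morphismRestrict f V₀).flip ‹_›
  haveI : LocallyOfFinitePresentation (f ∣_ V₀) :=
    MorphismProperty.of_isPullback (isPullback_morphismRestrict f V₀).flip ‹_›
  haveI : GeometricallyReduced (f ∣_ V₀) := MorphismProperty.of_isPullback (isPullback_morphismRestrict f V₀).flip ‹_›
  haveI : GeometricallyReduced h₀ := RGDev.geometricallyReduced_openImmersion_comp _ _
  -- a quasi-compact open with connected fibre
  let x₀ : U₀.toScheme := ⟨x, hxU₀⟩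
  let s₀ := h₀ x₀
  haveI : LocallyOfFiniteType (h₀.fiberToSpecResidueField s₀) := MorphismProperty.pullback_snd _ _ inferInstance
  haveI := Unibranch.locallyConnectedSpace_fiber h₀ s₀
  haveI : AlgebraicGeometry.IsNoetherian (h₀.fiber s₀) := by
    haveI : IsLocallyNoetherian (h₀.fiber s₀) :=
      LocallyOfFiniteType.isLocallyNoetherian (h₀.fiberToSpecResidueField s₀)
    haveI : QuasiCompact (h₀.fiberToSpecResidueField s₀) := MorphismProperty.pullback_snd _ _ inferInstance
    haveI : CompactSpace ↥(h₀.fiber s₀) := QuasiCompact.compactSpace_of_compactSpace (h₀.fiberToSpecResidueField s₀)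
    exact {}
  obtain ⟨q₀, hq₀⟩ : x₀ ∈ Set.range (h₀.fiberι s₀) := (h₀.range_fiberι s₀).ge rfl
  let C₀ : Set ↥(h₀.fiber s₀) := connectedComponent q₀
  have hC₀ : IsOpen C₀ := isOpen_connectedComponent
  obtain ⟨W, hW, hWC⟩ := (h₀.fiberι s₀).isEmbedding.isInducing.isOpen_iff.mp hC₀
  obtain ⟨tset, ht⟩ := ((NoetherianSpace.isCompact C₀).image (h₀.fiberι s₀).continuous).elim_finite_subcover
    (fun A : {A : U₀.toScheme.affineOpens // ((A : U₀.toScheme.Opens) : Set U₀.toScheme) ⊆ W} ↦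
      ((A.1 : U₀.toScheme.Opens) : Set U₀.toScheme))
    (fun A ↦ (A.1 : U₀.toScheme.Opens).2) (by
      rintro _ ⟨r, hr, rfl⟩
      obtain ⟨_, ⟨A, hA, rfl⟩, hxA, hAW⟩ := U₀.toScheme.isBasis_affineOpens.exists_subset_of_mem_open
        (show h₀.fiberι s₀ r ∈ W from hWC.ge hr) hW
      exact Set.mem_iUnion.mpr ⟨⟨⟨A, hA⟩, hAW⟩, hxA⟩)
  let O : U₀.toScheme.Opens := ⟨⋃ A ∈ tset, ((A.1 : U₀.toScheme.Opens) : Set U₀.toScheme),
    isOpen_biUnion fun A _ ↦ (A.1 : U₀.toScheme.Opens).2⟩
  have hOc : IsCompact (O : Set U₀.toScheme) := tset.isCompact_biUnion fun A _ ↦ A.1.2.isCompact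
  have hOT : h₀.fiberι s₀ ⁻¹' (O : Set U₀.toScheme) = C₀ := Set.ext fun r ↦ ⟨fun hr ↦ by
    obtain ⟨A, -, hrA⟩ := Set.mem_iUnion₂.mp hr
    exact hWC.le (A.2 hrA), fun hr ↦ ht ⟨r, hr, rfl⟩⟩
  let hW₀ : O.toScheme ⟶ V₀.toScheme := O.ι ≫ h₀
  haveI : CompactSpace O.toScheme := isCompact_iff_compactSpace.mp hOc
  haveI : QuasiCompact hW₀ := (quasiCompact_iff_compactSpace hW₀).mpr inferInstance
  haveI : GeometricallyReduced hW₀ := RGDev.geometricallyReduced_openImmersion_comp _ _
  have hxO : x₀ ∈ O := by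
    rw [← hq₀]
    exact hOT.ge mem_connectedComponent
  let x₁ : O.toScheme := ⟨x₀, hxO⟩
  have hfib : hW₀ x₁ = s₀ := rfl
  have hconn : _root_.IsPreconnected (hW₀ ⁻¹' {s₀}) := by
    rw [← O.ι.isEmbedding.isInducing.isPreconnected_image]
    convert (isPreconnected_connectedComponent (x := q₀)).image (h₀.fiberι s₀) (h₀.fiberι s₀).continuous.continuousOn
    ext z
    constructor
    · rintro ⟨r, hr, rfl⟩
      obtain ⟨p, hp⟩ := (h₀.range_fiberι s₀).ge (show h₀ (O.ι r) = s₀ from hr)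
      exact ⟨p, hOT.le (show h₀.fiberι s₀ p ∈ O by rw [hp]; exact r.2), hp⟩
    · rintro ⟨p, hp, rfl⟩
      exact ⟨⟨h₀.fiberι s₀ p, hOT.ge hp⟩, (h₀.range_fiberι s₀).le ⟨p, rfl⟩, rfl⟩
  haveI : Nonempty ↥(hW₀.fiber s₀) := ⟨((hW₀.range_fiberι s₀).ge hfib).choose⟩
  haveI : PreconnectedSpace ↥(hW₀.fiber s₀) := ⟨by
    rw [← (hW₀.fiberι s₀).isEmbedding.isInducing.isPreconnected_image, Set.image_univ, hW₀.range_fiberι]
    exact hconn⟩
  -- quasi-section
  obtain ⟨S₁, c, s₁, Z, gZ, σ, hS₁, hc, hgfin, hget, hσ, ⟨z, hz⟩⟩ := RGDev.exists_finite_quasiSection hW₀ s₀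
  haveI := hS₁
  haveI := hgfin
  haveI := hget
  haveI := hc.etale
  let c₂ : Z ⟶ V₀.toScheme := gZ ≫ c
  have hc₂z : c₂ z = s₀ := (Scheme.Hom.comp_apply gZ c z).trans ((congrArg c hz).trans hc.base_eq)
  haveI : Etale c₂ := inferInstance
  let h₂ := pullback.snd hW₀ c₂
  let τ : Z ⟶ pullback hW₀ c₂ := pullback.lift (σ ≫ pullback.fst hW₀ c) (𝟙 Z) (by
    rw [Category.assoc, pullback.condition, ← Category.assoc, hσ, Category.id_comp])
  have hτ : τ ≫ h₂ = 𝟙 Z := pullback.lift_snd _ _ _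
  haveI : GeometricallyReduced h₂ := MorphismProperty.pullback_snd _ _ ‹_›
  haveI : LocallyOfFiniteType (h₂.fiberToSpecResidueField z) := MorphismProperty.pullback_snd _ _ inferInstance
  haveI := Unibranch.locallyConnectedSpace_fiber h₂ z
  let ps : Spec (Z.residueField z) ⟶ h₂.fiber z := pullback.lift (Z.fromSpecResidueField z ≫ τ) (𝟙 _) (by
    rw [Category.assoc, hτ, Category.comp_id, Category.id_comp])
  let q : ↥(h₂.fiber z) := ps default
  let T : (h₂.fiber z).Opens := ⟨connectedComponent q, isOpen_connectedComponent⟩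
  have hTs : Set.range ps ⊆ Set.range T.ι := by
    rw [T.range_ι]
    rintro _ ⟨w, rfl⟩
    rw [Subsingleton.elim w default]
    exact mem_connectedComponent
  haveI : ConnectedSpace T.toScheme := Subtype.connectedSpace isConnected_connectedComponent
  have hT : GeometricallyConnected (T.ι ≫ h₂.fiberToSpecResidueField z) :=
    Rigid.geometricallyConnected_of_section _ (IsOpenImmersion.lift T.ι ps hTs) (by
      rw [← Category.assoc, IsOpenImmersion.lift_fac]
      exact pullback.lift_snd _ _ _)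
  -- the component surjects on the fibre
  obtain ⟨x₂, hx₂T, hx₂⟩ : ∃ r ∈ (T : Set ↥(h₂.fiber z)), pullback.fst hW₀ c₂ (h₂.fiberι z r) = x₁ := by
    haveI : LocallyQuasiFinite c₂ := by
      refine ⟨fun {U} hU {W} hW e => ?_⟩
      have := HasRingHomProperty.appLE (P := @Etale) c₂ inferInstance ⟨U, hU⟩ ⟨W, hW⟩ e
      algebraize [(c₂.appLE U W e).hom]
      show @Algebra.QuasiFinite _ _ _ _ (c₂.appLE U W e).hom.toAlgebra
      infer_instance
    let ρ₀ : Spec (Z.residueField z) ⟶ Spec (V₀.toScheme.residueField (c₂ z)) := Spec.map (c₂.residueFieldMap z)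
    haveI : IsFinite ρ₀ := (IsFinite.SpecMap_iff _).2 (Weighting.finite_residueFieldMap c₂ z)
    haveI : UniversallyOpen ρ₀ := by
      haveI : Flat ρ₀ := by
        rw [HasRingHomProperty.Spec_iff (P := @Flat)]
        letI := (c₂.residueFieldMap z).hom.toAlgebra
        exact RingHom.flat_algebraMap_iff.2 inferInstance
      haveI : LocallyOfFiniteType ρ₀ := inferInstance
      infer_instance
    let π : h₂.fiber z ⟶ hW₀.fiber (c₂ z) := pullback.lift (h₂.fiberι z ≫ pullback.fst hW₀ c₂)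
      (h₂.fiberToSpecResidueField z ≫ ρ₀) (by
        rw [Category.assoc, pullback.condition, ← Category.assoc]
        refine (congrArg (· ≫ c₂) pullback.condition).trans ?_
        rw [Category.assoc, Category.assoc, Scheme.Hom.SpecMap_residueFieldMap_fromSpecResidueField]
        rfl)
    have hπ : IsPullback π (h₂.fiberToSpecResidueField z) (hW₀.fiberToSpecResidueField (c₂ z)) ρ₀ := by
      refine IsPullback.of_right ?_ (pullback.lift_snd _ _ _) (IsPullback.of_hasPullback hW₀ (V₀.toScheme.fromSpecResidueField (c₂ z)))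
      rw [show π ≫ pullback.fst hW₀ (V₀.toScheme.fromSpecResidueField (c₂ z)) = h₂.fiberι z ≫ pullback.fst hW₀ c₂ from
        pullback.lift_fst _ _ _, Scheme.Hom.SpecMap_residueFieldMap_fromSpecResidueField]
      exact (IsPullback.of_hasPullback h₂ (Z.fromSpecResidueField z)).paste_horiz (IsPullback.of_hasPullback hW₀ c₂)
    haveI : IsFinite π := MorphismProperty.of_isPullback hπ.flip inferInstance
    haveI : UniversallyOpen π := MorphismProperty.of_isPullback hπ.flip inferInstance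
    obtain ⟨r₁, hr₁⟩ : x₁ ∈ Set.range (hW₀.fiberι (c₂ z)) := (hW₀.range_fiberι _).ge (hfib.trans hc₂z.symm)
    haveI : PreconnectedSpace ↥(hW₀.fiber (c₂ z)) := by rw [hc₂z]; infer_instance
    have hclopen : IsClopen (π '' (T : Set ↥(h₂.fiber z))) :=
      ⟨π.isClosedMap _ isClosed_connectedComponent, π.isOpenMap _ T.2⟩
    have huniv := hclopen.eq_univ ⟨π q, q, mem_connectedComponent, rfl⟩
    obtain ⟨r, hr, hπr⟩ := huniv.ge (Set.mem_univ r₁)
    refine ⟨r, hr, ?_⟩
    rw [← hr₁, ← hπr, ← Scheme.Hom.comp_apply, ← Scheme.Hom.comp_apply]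
    exact congrArg (fun k : h₂.fiber z ⟶ O.toScheme => k r) (pullback.lift_fst _ _ _).symm
  obtain ⟨S', g', z', hS', hg', V', hV'c, hV'conn, hV'⟩ := RGDev.exists_geomConn_nbhd h₂ z T hT
  haveI := hS'
  haveI := hg'.etale
  let uh : V'.toScheme ⟶ X := V'.ι ≫ pullback.fst h₂ g' ≫ pullback.fst hW₀ c₂ ≫ O.ι ≫ U₀.ι
  haveI : Etale uh := inferInstance
  let vh : S' ⟶ S := g' ≫ c₂ ≫ V₀.ι
  haveI : Etale vh := inferInstance
  refine ⟨Scheme.Etale.mk uh, Scheme.Etale.mk vh, V'.ι ≫ pullback.snd h₂ g', ?_, ?_, hV'conn, ?_⟩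
  · show (V'.ι ≫ pullback.snd h₂ g') ≫ g' ≫ c₂ ≫ V₀.ι = uh ≫ f
    simp only [uh, Category.assoc, ← hh₀]
    rw [← pullback.condition_assoc]
    refine congrArg (fun k => V'.ι ≫ pullback.fst h₂ g' ≫ k) ?_
    exact (pullback.condition_assoc (f := hW₀) (g := c₂) V₀.ι).symm.trans (by simp [hW₀])
  · haveI : CompactSpace V'.toScheme := isCompact_iff_compactSpace.mp hV'c
    exact (quasiCompact_iff_compactSpace (V'.ι ≫ pullback.snd h₂ g' : V'.toScheme ⟶ S')).mpr inferInstance
  · obtain ⟨p, hp₁, hp₂⟩ := Scheme.Pullback.exists_preimage_pullback (f := h₂) (g := g') (h₂.fiberι z x₂) z'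
      (((h₂.range_fiberι z).le ⟨x₂, rfl⟩).trans hg'.base_eq.symm)
    have hpV : p ∈ V' := (hV' p hp₂).2 (hp₁ ▸ ⟨x₂, hx₂T, rfl⟩)
    refine ⟨(⟨p, hpV⟩ : V'.toScheme), ?_⟩
    show (V'.ι ≫ pullback.fst h₂ g' ≫ pullback.fst hW₀ c₂ ≫ O.ι ≫ U₀.ι) _ = x
    simp only [Scheme.Hom.comp_apply, Scheme.Opens.ι_apply]
    rw [hp₁, hx₂]

theorem hasConnCovers {X S : Scheme.{u}} (f : X ⟶ S) [Flat f] [LocallyOfFinitePresentation f]
    [GeometricallyReduced f] : HasConnCovers f := by
  intro U
  haveI := U.prop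
  haveI : GeometricallyReduced (U.hom ≫ f) := geometricallyReduced_etale_comp U.hom f
  choose W V a w hqc hgc hmem using fun y : U.left => exists_factor (U.hom ≫ f) y
  refine ⟨U.left, fun y => compEt U (W y), fun y => MorphismProperty.Over.homMk (W y).hom rfl, fun y => ?_, fun y => ?_⟩
  · obtain ⟨z, hz⟩ := hmem y
    exact ⟨y, z, hz⟩
  · exact ⟨V y, a y, (w y).trans (Category.assoc _ _ _).symm, hqc y, hgc y⟩

end Groth.Agent.EtShSep
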