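import Groth.Agent.EtShSep.Valuation
import Mathlib

/-!
Idempotents of a flat algebra with geometrically reduced fibres over the field are defined over the integral
closure in that field.
-/

set_option autoImplicit false
set_option maxHeartbeats 1200000
set_option linter.style.haveILetI false

universe u

open scoped TensorProduct
open IsLocalRing

noncomputable section

namespace Groth.Agent.EtShSep

variable {A₀ : Type u} [CommRing A₀] {C : Type u} [CommRing C] [Algebra A₀ C] [Module.Flat A₀ C]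

theorem map_injective {R S : Type u} [CommRing R] [CommRing S] [Algebra A₀ R] [Algebra A₀ S] (f : R →ₐ[A₀] S)
    (hf : Function.Injective f) : Function.Injective (Algebra.TensorProduct.map f (AlgHom.id A₀ C)) :=
  Module.Flat.rTensor_preserves_injective_linearMap (M := C) f.toLinearMap hf

theorem exists_model {L : Type u} [Field L] [Algebra A₀ L] (A' : Subalgebra A₀ L)
    (hfrac : ∀ l : L, ∃ a ∈ A', a ≠ 0 ∧ a * l ∈ A') (e : L ⊗[A₀] C) :
    ∃ (R₁ : Subalgebra A₀ L) (a : R₁), R₁.FG ∧ R₁ ≤ A' ∧ a ≠ 0 ∧ ∃ z : R₁ ⊗[A₀] C,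
      Algebra.TensorProduct.map R₁.val (AlgHom.id A₀ C) z = ((a : L) ⊗ₜ (1 : C)) * e := by
  classical
  induction e using TensorProduct.induction_on with
  | zero => exact ⟨⊥, 1, Subalgebra.fg_bot, bot_le, one_ne_zero, 0, by rw [map_zero, mul_zero]⟩
  | tmul l c =>
    obtain ⟨a, ha, ha0, hal⟩ := hfrac l
    let R₁ : Subalgebra A₀ L := Algebra.adjoin A₀ ↑({a, a * l} : Finset L)
    refine ⟨R₁, ⟨a, Algebra.subset_adjoin (by simp)⟩, ⟨_, rfl⟩, Algebra.adjoin_le (fun z hz => ?_),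
      fun h => ha0 (congrArg Subtype.val h), ⟨a * l, Algebra.subset_adjoin (by simp)⟩ ⊗ₜ c, ?_⟩
    · rw [Finset.coe_insert, Finset.coe_singleton, Set.mem_insert_iff, Set.mem_singleton_iff] at hz
      rcases hz with rfl | rfl <;> assumption
    · simp [Algebra.TensorProduct.tmul_mul_tmul]
  | add e₁ e₂ h₁ h₂ =>
    obtain ⟨R, a, hR, hR', ha, z, hz⟩ := h₁
    obtain ⟨S, b, hS, hS', hb, w, hw⟩ := h₂
    let i : R →ₐ[A₀] (R ⊔ S : Subalgebra A₀ L) := Subalgebra.inclusion le_sup_left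
    let k : S →ₐ[A₀] (R ⊔ S : Subalgebra A₀ L) := Subalgebra.inclusion le_sup_right
    refine ⟨R ⊔ S, i a * k b, hR.sup hS, sup_le hR' hS', mul_ne_zero
      (fun h => ha (Subalgebra.inclusion_injective le_sup_left (h.trans (map_zero i).symm)))
      (fun h => hb (Subalgebra.inclusion_injective le_sup_right (h.trans (map_zero k).symm))),
      (k b ⊗ₜ 1) * Algebra.TensorProduct.map i (AlgHom.id A₀ C) z +
        (i a ⊗ₜ 1) * Algebra.TensorProduct.map k (AlgHom.id A₀ C) w, ?_⟩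
    have hcomp : ∀ {T : Subalgebra A₀ L} (h : T ≤ R ⊔ S) (x : T ⊗[A₀] C),
        Algebra.TensorProduct.map (R ⊔ S).val (AlgHom.id A₀ C)
          (Algebra.TensorProduct.map (Subalgebra.inclusion h) (AlgHom.id A₀ C) x) =
            Algebra.TensorProduct.map T.val (AlgHom.id A₀ C) x := fun h x => by
      induction x using TensorProduct.induction_on with
      | zero => simp
      | tmul _ _ => simp [Subalgebra.coe_inclusion]
      | add x y hx hy => simp [map_add, hx, hy]
    rw [map_add, map_mul, map_mul, hcomp, hcomp, hz, hw, Algebra.TensorProduct.map_tmul,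
      Algebra.TensorProduct.map_tmul, mul_add]
    simp only [← mul_assoc, Algebra.TensorProduct.tmul_mul_tmul]
    simp [i, k, mul_comm]

theorem exists_rep {N : Type u} [AddCommGroup N] [Module A₀ N] (W : Submodule A₀ N) (x : W ⊗[A₀] C) :
    ∃ (n : ℕ) (v : Fin n → W) (c : Fin n → C), x = ∑ i, v i ⊗ₜ c i := by
  induction x using TensorProduct.induction_on with
  | zero => exact ⟨0, Fin.elim0, Fin.elim0, by simp⟩
  | tmul v c => exact ⟨1, fun _ => v, fun _ => c, by simp⟩
  | add x y hx hy =>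
    obtain ⟨n, v, c, rfl⟩ := hx
    obtain ⟨m, v', c', rfl⟩ := hy
    exact ⟨n + m, Fin.append v v', Fin.append c c', by simp [Fin.sum_univ_add]⟩

/-- the residue ring detecting a fixed element -/
theorem exists_relation {R : Type u} [CommRing R] [Algebra A₀ R] (q : Ideal R) [q.IsPrime] {E : Type u} [CommRing E]
    [Algebra A₀ E] (χ : R →ₐ[A₀] E) (hq : ∀ t ∈ q, χ t = 0) (hS : ∀ t ∉ q, IsUnit (χ t))
    {n : ℕ} (g : Fin n → E) (c : Fin n → C) (i₀ : Fin n) (hg : g i₀ ≠ 0) (h : ∑ i, g i ⊗ₜ[A₀] c i = 0) :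
    ∃ r : Fin n → R, r i₀ ∉ q ∧ ∑ i, Ideal.Quotient.mk q (r i) ⊗ₜ[A₀] c i = 0 := by
  let κ := q.ResidueField
  let θ : κ →ₐ[A₀] E := Ideal.ResidueField.liftₐ q χ (fun t ht => hq t ht) (fun t ht => hS t ht)
  letI : Algebra κ E := θ.toRingHom.toAlgebra
  haveI : IsScalarTower A₀ κ E := IsScalarTower.of_algebraMap_eq fun x => (θ.commutes x).symm
  obtain ⟨lam, hlam⟩ : ∃ lam : E →ₗ[κ] κ, lam (g i₀) ≠ 0 := by
    by_contra hne
    push Not at hne
    exact hg ((Module.forall_dual_apply_eq_zero_iff κ (g i₀)).1 hne)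
  have h1 : ∑ i, lam (g i) ⊗ₜ[A₀] c i = 0 := by
    have := congrArg (LinearMap.rTensor C (lam.restrictScalars A₀)) h
    rwa [map_sum, map_zero] at this
  obtain ⟨d, hd⟩ := IsLocalization.exist_integer_multiples_of_finite (nonZeroDivisors (R ⧸ q)) fun i => lam (g i)
  choose ρ hρ using hd
  choose r hr using fun i => Ideal.Quotient.mk_surjective (ρ i)
  refine ⟨r, fun h0 => ?_, ?_⟩
  · have h2 : ρ i₀ = 0 := by rw [← hr i₀, Ideal.Quotient.eq_zero_iff_mem]; exact h0
    have h3 := hρ i₀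
    rw [h2, map_zero, Algebra.smul_def] at h3
    rcases mul_eq_zero.1 h3.symm with h4 | h4
    · exact nonZeroDivisors.ne_zero d.2 ((map_eq_zero_iff _ (IsFractionRing.injective (R ⧸ q) κ)).1 h4)
    · exact hlam h4
  · apply Module.Flat.rTensor_preserves_injective_linearMap (M := C)
      (IsScalarTower.toAlgHom A₀ (R ⧸ q) κ).toLinearMap (IsFractionRing.injective (R ⧸ q) κ)
    rw [map_sum, map_zero]
    have h4 := congrArg (fun z => (algebraMap (R ⧸ q) κ d ⊗ₜ[A₀] (1 : C)) * z) h1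
    simp only [Finset.mul_sum, mul_zero, Algebra.TensorProduct.tmul_mul_tmul, one_mul] at h4
    refine Eq.trans (Finset.sum_congr rfl fun i _ => ?_) h4
    rw [LinearMap.rTensor_tmul, hr i]
    show algebraMap (R ⧸ q) κ (ρ i) ⊗ₜ[A₀] c i = _
    rw [hρ i, Algebra.smul_def]

theorem mk_mul_tmul {R : Type u} [CommRing R] [Algebra A₀ R] (J : Ideal R) (t : R) (n : R ⧸ J) (c : C) :
    (Ideal.Quotient.mk J t ⊗ₜ[A₀] (1 : C)) * (n ⊗ₜ c) = (Ideal.Quotient.mk J t * n) ⊗ₜ c := by
  rw [Algebra.TensorProduct.tmul_mul_tmul, one_mul]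

/-- divisibility in suitable discrete valuation rings detects vanishing in a flat extension -/
theorem eq_zero_of_detect {R : Type u} [CommRing R] [IsNoetherianRing R] [Algebra A₀ R] (J : Ideal R) (a : R)
    (haJ : a ∈ J) (β : (R ⧸ J) ⊗[A₀] C)
    (H : ∀ q : Ideal R, q.IsPrime → ∀ w : R, (∀ t ∈ q, t * w ∈ J) → (∀ t ∉ q, t * w ∉ J) →
      ∃ (V : Type u) (_ : CommRing V) (_ : IsDomain V) (_ : IsPrincipalIdealRing V) (_ : Algebra A₀ V)
        (ψ : R →ₐ[A₀] V) (_ : ψ a ≠ 0) (hψJ : ∀ x ∈ J, Ideal.Quotient.mk (Ideal.span {ψ a}) (ψ x) = 0),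
        ¬ ψ a ∣ ψ w ∧ (∀ t, t ∉ q → IsUnit (ψ t)) ∧
        Algebra.TensorProduct.map (Ideal.Quotient.liftₐ J ((Ideal.Quotient.mkₐ A₀ _).comp ψ) hψJ)
          (AlgHom.id A₀ C) β = 0) : β = 0 := by
  classical
  by_contra hβ
  let m : R →+* (R ⧸ J) ⊗[A₀] C :=
    (Algebra.TensorProduct.includeLeftRingHom : (R ⧸ J) →+* (R ⧸ J) ⊗[A₀] C).comp (Ideal.Quotient.mk J)
  have hm : ∀ t, m t = Ideal.Quotient.mk J t ⊗ₜ 1 := fun t => rfl
  let I : R → Ideal R := fun r =>
    { carrier := {t | m t * (m r * β) = 0}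
      add_mem' := fun {x z} hx hz => by
        show m (x + z) * (m r * β) = 0
        rw [map_add, add_mul, hx, hz, add_zero]
      zero_mem' := by
        show m 0 * (m r * β) = 0
        rw [map_zero, zero_mul]
      smul_mem' := fun s x hx => by
        show m (s • x) * (m r * β) = 0
        rw [smul_eq_mul, map_mul, mul_assoc, hx, mul_zero] }
  have hI : ∀ r t, t ∈ I r ↔ m (t * r) * β = 0 := fun r t => by
    rw [map_mul, mul_assoc]
    rfl
  have hmul : ∀ s t, m (s * t) = m s * m t := map_mul m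
  obtain ⟨q, ⟨r, hr, rfl⟩, hmax⟩ := (set_has_maximal_iff_noetherian.2 inferInstance :
    ∀ S : Set (Ideal R), S.Nonempty → ∃ M ∈ S, ∀ I ∈ S, ¬ M < I)
    {Q | ∃ r, m r * β ≠ 0 ∧ Q = I r} ⟨I 1, 1, by rw [map_one, one_mul]; exact hβ, rfl⟩
  let y := m r * β
  have hy : ∀ t, t ∈ I r ↔ m t * y = 0 := fun t => Iff.rfl
  haveI hqp : (I r).IsPrime := by
    refine ⟨fun h => ?_, fun {u v} huv => ?_⟩
    · have h1 : (1 : R) ∈ I r := h ▸ Submodule.mem_top
      rw [hI, one_mul] at h1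
      exact hr h1
    · rw [or_iff_not_imp_left]
      intro hu
      rw [hI] at hu huv
      have hle : I r ≤ I (u * r) := fun t ht => by
        rw [hI] at ht ⊢
        rw [show t * (u * r) = u * (t * r) by ring, hmul, mul_assoc, ht, mul_zero]
      have heq : I r = I (u * r) := hle.eq_or_lt.resolve_right (hmax _ ⟨u * r, hu, rfl⟩)
      rw [heq, hI, show v * (u * r) = u * v * r by ring]
      exact huv
  obtain ⟨gs, hgs⟩ := IsNoetherian.noetherian (I r)
  let W : Submodule A₀ (R ⧸ J) :=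
    LinearMap.ker (LinearMap.pi fun g : gs => LinearMap.mulLeft A₀ (Ideal.Quotient.mk J (g : R)))
  have hW : ∀ v : W, ∀ t ∈ I r, Ideal.Quotient.mk J t * (v : R ⧸ J) = 0 := fun v t ht => by
    have ht' : t ∈ Submodule.span R (gs : Set R) := hgs.ge ht
    refine Submodule.span_induction (p := fun t _ => Ideal.Quotient.mk J t * (v : R ⧸ J) = 0) (fun g hg => ?_) ?_
      (fun _ _ _ _ h h' => ?_) (fun s t _ h => ?_) ht'
    · exact congrFun (LinearMap.mem_ker.1 v.2) ⟨g, hg⟩
    · rw [map_zero, zero_mul]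
    · rw [map_add, add_mul, h, h', add_zero]
    · rw [smul_eq_mul, map_mul, mul_assoc, h, mul_zero]
  have hyW : y ∈ Set.range (LinearMap.rTensor C W.subtype) := by
    let φ : (R ⧸ J) →ₗ[A₀] gs → (R ⧸ J) := LinearMap.pi fun g : gs => LinearMap.mulLeft A₀ (Ideal.Quotient.mk J (g : R))
    refine (Module.Flat.rTensor_exact (M := C) (LinearMap.exact_subtype_ker_map φ) y).1 ?_
    apply (TensorProduct.piLeft A₀ C (fun _ : gs => R ⧸ J)).injective
    rw [map_zero]
    funext g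
    have hg : m (g : R) * y = 0 := (hy _).1 (hgs.le (Submodule.subset_span g.2))
    have key : ∀ x : (R ⧸ J) ⊗[A₀] C,
        TensorProduct.piLeft A₀ C (fun _ : gs => R ⧸ J) (LinearMap.rTensor C φ x) g = m (g : R) * x := fun x => by
      induction x using TensorProduct.induction_on with
      | zero => rw [map_zero, map_zero, mul_zero]; rfl
      | tmul n c => rw [hm, mk_mul_tmul]; rfl
      | add x z hx hz => simp only [map_add, Pi.add_apply, mul_add, hx, hz]
    exact (key y).trans hg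
  obtain ⟨z, hz⟩ := hyW
  let P : ℕ → Prop := fun k => ∃ t ∉ I r, ∃ (v : Fin k → W) (c : Fin k → C),
    m t * y = ∑ i, (v i : R ⧸ J) ⊗ₜ c i
  have hP : ∃ k, P k := by
    obtain ⟨k, v, c, rfl⟩ := exists_rep W z
    refine ⟨k, 1, (Ideal.ne_top_iff_one _).1 hqp.ne_top, v, c, ?_⟩
    rw [map_sum] at hz
    rw [map_one, one_mul]
    exact hz.symm
  obtain ⟨k, ⟨t, ht, v, c, htv⟩, hmin⟩ : ∃ k, P k ∧ ∀ l < k, ¬ P l :=
    ⟨Nat.find hP, Nat.find_spec hP, fun l hl => Nat.find_min hP hl⟩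
  rcases k with _ | k
  · exact ht ((hy t).2 (by rw [htv, Finset.univ_eq_empty, Finset.sum_empty]))
  obtain ⟨w, hw⟩ := Ideal.Quotient.mk_surjective (v 0 : R ⧸ J)
  have hqw : ∀ t ∈ I r, t * w ∈ J := fun t ht => by
    rw [← Ideal.Quotient.eq_zero_iff_mem, map_mul, hw]
    exact hW _ t ht
  -- shortening
  have short : ∀ s ∉ I r, ∀ (v' : Fin (k + 1) → W),
      m s * (m t * y) = ∑ i, (v' i : R ⧸ J) ⊗ₜ c i → (v' 0 : R ⧸ J) = 0 → False := fun s hs v' h h0 => by
    refine hmin k (Nat.lt_succ_self k) ⟨s * t, fun h1 => (hqp.mem_or_mem h1).elim hs ht, fun i => v' i.succ,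
      fun i => c i.succ, ?_⟩
    rw [hmul, mul_assoc, h, Fin.sum_univ_succ, h0, TensorProduct.zero_tmul, zero_add]
  have hcl : ∀ (s : R) (x : W), Ideal.Quotient.mk J s * (x : R ⧸ J) ∈ W := fun s x => by
    refine LinearMap.mem_ker.2 (funext fun g => ?_)
    have h := congrFun (LinearMap.mem_ker.1 x.2) g
    simp only [LinearMap.pi_apply, LinearMap.mulLeft_apply, Pi.zero_apply] at h ⊢
    rw [mul_left_comm, h, mul_zero]
  have hw' : ∀ s ∉ I r, s * w ∉ J := fun s hs h => by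
    refine short s hs (fun i => ⟨_, hcl s (v i)⟩) ?_ ?_
    · rw [htv, Finset.mul_sum]
      exact Finset.sum_congr rfl fun i _ => mk_mul_tmul J s _ _
    · show Ideal.Quotient.mk J s * (v 0 : R ⧸ J) = 0
      rw [← hw, ← map_mul]
      exact Ideal.Quotient.eq_zero_iff_mem.2 h
  obtain ⟨V, _, _, _, _, ψ, hψa0, hψJ, hψw, hψu, hFβ⟩ := H (I r) hqp w hqw hw'
  let Ja : Ideal V := Ideal.span {ψ a}
  let f : (R ⧸ J) →ₐ[A₀] V ⧸ Ja := Ideal.Quotient.liftₐ J ((Ideal.Quotient.mkₐ A₀ Ja).comp ψ) hψJ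
  let F := Algebra.TensorProduct.map f (AlgHom.id A₀ C)
  have hFy : F (m t * y) = 0 := by
    show F (m t * (m r * β)) = 0
    rw [map_mul, map_mul]
    refine mul_eq_zero_of_right _ (mul_eq_zero_of_right _ ?_)
    exact hFβ
  let Qv : Ideal V := (I r).map ψ.toRingHom
  obtain ⟨h, hh⟩ := (IsPrincipalIdealRing.principal Qv).principal
  have haq : a ∈ I r := by
    show m a * (m r * β) = 0
    rw [hm, Ideal.Quotient.eq_zero_iff_mem.2 haJ,
      TensorProduct.zero_tmul, zero_mul]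
  obtain ⟨a', ha''⟩ : h ∣ ψ a := Ideal.mem_span_singleton.1 (hh.le (Ideal.mem_map_of_mem ψ.toRingHom haq))
  have hψa : ψ a ≠ 0 := hψa0
  have hh0 : h ≠ 0 := fun h0 => hψa (by rw [ha'', h0, zero_mul])
  have ha0' : a' ≠ 0 := fun h0 => hψa (by rw [ha'', h0, mul_zero])
  let E := V ⧸ Ideal.span {h}
  let χ : R →ₐ[A₀] E := (Ideal.Quotient.mkₐ A₀ _).comp ψ
  let ι : E →ₗ[A₀] V ⧸ Ja := Submodule.liftQ ((Ideal.span {h}).restrictScalars A₀)
    ((Ideal.Quotient.mkₐ A₀ Ja).toLinearMap.comp (LinearMap.mulRight A₀ a')) (fun x hx => by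
      obtain ⟨z, rfl⟩ := Ideal.mem_span_singleton'.1 hx
      exact Ideal.Quotient.eq_zero_iff_mem.2 (Ideal.mem_span_singleton.2 ⟨z, by
        show z * h * a' = ψ a * z
        rw [ha'']; ring⟩))
  have hι : Function.Injective ι := by
    rw [← LinearMap.ker_eq_bot, LinearMap.ker_eq_bot']
    intro x hx
    obtain ⟨x, rfl⟩ := Ideal.Quotient.mk_surjective x
    obtain ⟨z, hz'⟩ := Ideal.mem_span_singleton.1 (Ideal.Quotient.eq_zero_iff_mem.1 (show
      Ideal.Quotient.mk Ja (x * a') = 0 from hx))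
    exact Ideal.Quotient.eq_zero_iff_mem.2 (Ideal.mem_span_singleton.2 ⟨z, mul_right_cancel₀ ha0' (by
      rw [hz', ha'']; ring)⟩)
  have hfW : ∀ x : W, f (x : R ⧸ J) ∈ Set.range ι := fun x => by
    obtain ⟨s, hs⟩ := Ideal.Quotient.mk_surjective (x : R ⧸ J)
    have h1 : ∀ z ∈ Qv, ψ a ∣ z * ψ s := fun z hz' => by
      refine Submodule.span_induction (p := fun z _ => ψ a ∣ z * ψ s) ?_ (by simp)
        (fun _ _ _ _ h1 h2 => by rw [add_mul]; exact dvd_add h1 h2)
        (fun q' z _ h1 => by rw [smul_eq_mul, mul_assoc]; exact h1.mul_left q') hz'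
      rintro _ ⟨u, hu, rfl⟩
      show ψ a ∣ ψ u * ψ s
      rw [← map_mul]
      refine Ideal.mem_span_singleton.1 (Ideal.Quotient.eq_zero_iff_mem.1 (hψJ _ (Ideal.Quotient.eq_zero_iff_mem.1 ?_)))
      rw [map_mul, hs]
      exact hW x u hu
    obtain ⟨g, hg⟩ := h1 h (hh ▸ Submodule.mem_span_singleton_self h)
    refine ⟨Ideal.Quotient.mk _ g, ?_⟩
    rw [← hs]
    show Ideal.Quotient.mk Ja (g * a') = Ideal.Quotient.mk Ja (ψ s)
    rw [mul_left_cancel₀ hh0 (show h * ψ s = h * (g * a') by rw [hg, ha'']; ring)]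
  choose g hg using hfW
  have hg0 : g (v 0) ≠ 0 := fun h0 => hψw (by
    have h1 := hg (v 0)
    rw [h0, map_zero, ← hw] at h1
    exact Ideal.mem_span_singleton.1 (Ideal.Quotient.eq_zero_iff_mem.1 h1.symm))
  have hsum : ∑ i, g (v i) ⊗ₜ[A₀] c i = 0 := by
    apply Module.Flat.rTensor_preserves_injective_linearMap (M := C) ι hι
    rw [map_sum, map_zero, ← hFy, htv, map_sum]
    exact Finset.sum_congr rfl fun i _ => by simp [F, hg]
  obtain ⟨rr, hrr, hrel⟩ := exists_relation (I r) χ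
    (fun s hs => Ideal.Quotient.eq_zero_iff_mem.2 (hh.le (Ideal.mem_map_of_mem ψ.toRingHom hs)))
    (fun s hs => (hψu s hs).map (Ideal.Quotient.mk _)) (fun i => g (v i)) c 0 hg0 hsum
  let T : (R ⧸ I r) →ₗ[A₀] (R ⧸ J) := Submodule.liftQ ((I r).restrictScalars A₀)
    ((LinearMap.mulRight A₀ (v 0 : R ⧸ J)).comp (Ideal.Quotient.mkₐ A₀ J).toLinearMap) (fun s hs => hW _ s hs)
  have hrel' : ∑ i, (Ideal.Quotient.mk J (rr i) * (v 0 : R ⧸ J)) ⊗ₜ[A₀] c i = 0 := by
    have := congrArg (LinearMap.rTensor C T) hrel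
    rw [map_sum, map_zero] at this
    exact this
  refine short (rr 0) hrr (fun i => ⟨Ideal.Quotient.mk J (rr 0) * (v i : R ⧸ J) - Ideal.Quotient.mk J (rr i) * (v 0 : R ⧸ J),
    sub_mem (hcl _ _) (hcl _ _)⟩) ?_ (sub_self _)
  simp only [TensorProduct.sub_tmul, Finset.sum_sub_distrib, hrel', sub_zero]
  rw [htv, Finset.mul_sum]
  exact Finset.sum_congr rfl fun i _ => mk_mul_tmul J _ _ _


variable [IsNoetherianRing A₀] {L : Type u} [Field L] [Algebra A₀ L] (A' : Subalgebra A₀ L)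

/-- a prime of `R₁` above which `A'` has a prime -/
theorem exists_prime_over (R₁ : Subalgebra A₀ L) (hR' : R₁ ≤ A') (a : R₁) (J : Ideal R₁)
    (hJ : ∀ x, x ∈ J ↔ (x : L) / (a : L) ∈ A') (q : Ideal R₁) [q.IsPrime] (w : R₁) (hqw : ∀ t ∈ q, t * w ∈ J)
    (hw : ∀ t ∉ q, t * w ∉ J) :
    ∃ P : Ideal A', P.IsPrime ∧ P.comap (Subalgebra.inclusion hR') = q := by
  let i : R₁ →+* A' := (Subalgebra.inclusion hR').toRingHom
  let Qc : Ideal A' :=
    { carrier := {x | (x : L) * ((w : L) / (a : L)) ∈ A'}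
      add_mem' := fun hx hy => by
        simp only [Set.mem_ofPred_eq, Subalgebra.coe_add, add_mul] at *
        exact add_mem hx hy
      zero_mem' := by simp
      smul_mem' := fun r x hx => by
        simp only [Set.mem_ofPred_eq, smul_eq_mul, Subalgebra.coe_mul, mul_assoc] at *
        exact mul_mem r.2 hx }
  have hmem : ∀ t, i t ∈ Qc ↔ t * w ∈ J := fun t => by
    rw [hJ]
    show (t : L) * ((w : L) / (a : L)) ∈ A' ↔ ((t : L) * (w : L)) / (a : L) ∈ A'
    rw [mul_div_assoc]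
  have hdis : Disjoint ((q.map i : Ideal A') : Set A') (q.primeCompl.map i : Submonoid A') := by
    rw [Set.disjoint_left]
    rintro x hx ⟨s, hs, rfl⟩
    exact hw s hs ((hmem s).1 ((Ideal.map_le_iff_le_comap.2 fun t ht => Ideal.mem_comap.2 ((hmem t).2 (hqw t ht))) hx))
  obtain ⟨P, hP, hqP, hPS⟩ := Ideal.exists_le_prime_disjoint _ _ hdis
  refine ⟨P, hP, le_antisymm (fun t ht => ?_) fun t ht => hqP (Ideal.mem_map_of_mem i ht)⟩
  by_contra h
  exact Set.disjoint_left.1 hPS ht ⟨t, h, rfl⟩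

/-- **Idempotent fractions are integral.** -/
theorem exists_idem_lift (hic : ∀ x : L, IsIntegral A' x → x ∈ A')
    (hfrac : ∀ l : L, ∃ a ∈ A', a ≠ 0 ∧ a * l ∈ A')
    (hred : ∀ (K : Type u) [Field K] [Algebra A₀ K], (A' →ₐ[A₀] K) → IsReduced (K ⊗[A₀] C))
    (e : L ⊗[A₀] C) (he : IsIdempotentElem e) :
    e ∈ Set.range (Algebra.TensorProduct.map A'.val (AlgHom.id A₀ C)) := by
  classical
  obtain ⟨R₁, a, hR, hR', ha, b, hb⟩ := exists_model A' hfrac e
  haveI : IsNoetherianRing R₁ := isNoetherianRing_of_fg hR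
  have ha' : (a : L) ≠ 0 := fun h => ha (Subtype.ext h)
  let J : Ideal R₁ :=
    { carrier := {x | (x : L) / (a : L) ∈ A'}
      add_mem' := fun hx hy => by
        simp only [Set.mem_ofPred_eq, Subalgebra.coe_add, add_div] at *
        exact add_mem hx hy
      zero_mem' := by simp
      smul_mem' := fun r x hx => by
        simp only [Set.mem_ofPred_eq, smul_eq_mul, Subalgebra.coe_mul, mul_div_assoc] at *
        exact mul_mem (hR' r.2) hx }
  have hJ : ∀ x, x ∈ J ↔ (x : L) / (a : L) ∈ A' := fun _ => Iff.rfl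
  let j := Algebra.TensorProduct.map R₁.val (AlgHom.id A₀ C)
  have hbb : b * b = (a ⊗ₜ 1) * b := map_injective R₁.val Subtype.val_injective (by
    show j (b * b) = j _
    rw [map_mul, map_mul, hb, mul_mul_mul_comm, he.eq, mul_assoc, Algebra.TensorProduct.map_tmul]
    rfl)
  let p : R₁ →ₐ[A₀] R₁ ⧸ J := Ideal.Quotient.mkₐ A₀ J
  let β := Algebra.TensorProduct.map p (AlgHom.id A₀ C) b
  by_cases hβ : β = 0
  · -- conclusion
    have hex : Function.Exact (LinearMap.rTensor C (J.subtype.restrictScalars A₀))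
        (LinearMap.rTensor C p.toLinearMap) :=
      Module.Flat.rTensor_exact (M := C) fun x => by
        refine ⟨fun h => ⟨⟨x, Ideal.Quotient.eq_zero_iff_mem.1 h⟩, rfl⟩, ?_⟩
        rintro ⟨y, rfl⟩
        exact Ideal.Quotient.eq_zero_iff_mem.2 y.2
    obtain ⟨z, hz⟩ := (hex b).1 hβ
    let d : J →ₗ[A₀] A' :=
      { toFun := fun x => ⟨((x : R₁) : L) / (a : L), x.2⟩
        map_add' := fun x y => Subtype.ext (add_div _ _ _)
        map_smul' := fun r x => Subtype.ext (by simp [Algebra.smul_def, mul_div_assoc]) }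
    refine ⟨LinearMap.rTensor C d z, ?_⟩
    have hu : IsUnit ((a : L) ⊗ₜ[A₀] (1 : C)) :=
      (IsUnit.mk0 _ ha').map (Algebra.TensorProduct.includeLeft : L →ₐ[A₀] L ⊗[A₀] C)
    refine hu.mul_right_injective ?_
    show ((a : L) ⊗ₜ[A₀] (1 : C)) * _ = (a : L) ⊗ₜ 1 * e
    rw [← hb]
    show _ = j b
    rw [← hz]
    clear hz
    induction z using TensorProduct.induction_on with
    | zero => simp
    | tmul x c => simp [j, d, Algebra.TensorProduct.tmul_mul_tmul, mul_div_cancel₀ _ ha']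
    | add x y hx hy => simp only [map_add, mul_add, hx, hy]
  refine (hβ (eq_zero_of_detect J a ((hJ a).2 (by rw [div_self ha']; exact A'.one_mem)) β
    fun q hq w hqw hw' => ?_)).elim
  haveI := hq
  obtain ⟨P', hP', hPq⟩ := exists_prime_over A' R₁ hR' a J hJ q w hqw hw'
  obtain ⟨V, _, _, hV, _, ψ, hψ, hψJ, hψw, hψu, hψm⟩ :=
    exists_dvr_detect A' hic R₁ hR hR' a ha J hJ q w hqw hw'
  -- the special fibre over `V` is reduced
  let κV := (maximalIdeal V).ResidueField
  haveI : IsReduced (κV ⊗[V] (V ⊗[A₀] C)) := by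
    haveI := hP'
    let κq := q.ResidueField
    let α : κq →ₐ[A₀] κV := Ideal.ResidueField.liftₐ q ((IsScalarTower.toAlgHom A₀ V κV).comp ψ)
      (fun s hs => by
        show algebraMap V κV (ψ s) = 0
        exact Ideal.algebraMap_residueField_eq_zero.2 (hψm s hs))
      (fun s hs => (hψu s hs).map (algebraMap V κV))
    let α' : κq →ₐ[A₀] P'.ResidueField := Ideal.ResidueField.liftₐ q
      ((IsScalarTower.toAlgHom A₀ A' P'.ResidueField).comp (Subalgebra.inclusion hR'))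
      (fun s hs => by
        show algebraMap A' P'.ResidueField (Subalgebra.inclusion hR' s) = 0
        exact Ideal.algebraMap_residueField_eq_zero.2 (Ideal.mem_comap.1 (hPq.ge hs)))
      (fun s hs => IsUnit.mk0 _ fun h0 => hs (by
        exact hPq.le (Ideal.mem_comap.2 (Ideal.algebraMap_residueField_eq_zero.1 h0))))
    letI := α.toRingHom.toAlgebra
    letI := α'.toRingHom.toAlgebra
    haveI : IsScalarTower A₀ κq κV := IsScalarTower.of_algebraMap_eq fun x => (α.commutes x).symm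
    haveI : IsScalarTower A₀ κq P'.ResidueField := IsScalarTower.of_algebraMap_eq fun x => (α'.commutes x).symm
    haveI : Nontrivial (κV ⊗[κq] P'.ResidueField) :=
      TensorProduct.nontrivial_of_linearMap_injective_of_flat_right κq κV P'.ResidueField
        (Algebra.linearMap κq κV) (algebraMap κq κV).injective
    obtain ⟨M, hM⟩ := Ideal.exists_maximal (κV ⊗[κq] P'.ResidueField)
    letI := Ideal.Quotient.field M
    let K := (κV ⊗[κq] P'.ResidueField) ⧸ M
    let iV : κV →ₐ[A₀] K :=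
      ((Ideal.Quotient.mkₐ κq M).comp Algebra.TensorProduct.includeLeft).restrictScalars A₀
    let iA : A' →ₐ[A₀] K := (((Ideal.Quotient.mkₐ κq M).comp Algebra.TensorProduct.includeRight).restrictScalars A₀).comp
      (IsScalarTower.toAlgHom A₀ A' P'.ResidueField)
    haveI := hred K iA
    haveI : IsReduced (κV ⊗[A₀] C) :=
      isReduced_of_injective _ (map_injective (C := C) iV iV.toRingHom.injective)
    exact isReduced_of_injective _ (Algebra.TensorProduct.cancelBaseChange A₀ V κV κV C).injective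
  obtain ⟨d, hd⟩ := exists_eq_mul_of_sq (M := V ⊗[A₀] C) (a := ψ a)
    (fun h => ha (hψ (h.trans (map_zero ψ).symm)))
    (c := Algebra.TensorProduct.map ψ (AlgHom.id A₀ C) b) (by
      rw [← map_mul, hbb, map_mul]
      rfl)
  refine ⟨V, inferInstance, inferInstance, inferInstance, inferInstance, ψ,
    fun h0 => ha (hψ (h0.trans (map_zero ψ).symm)),
    fun x hx => Ideal.Quotient.eq_zero_iff_mem.2 (Ideal.mem_span_singleton.2 (hψJ x hx)), hψw, hψu, ?_⟩
  let Ja : Ideal V := Ideal.span {ψ a}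
  let f : (R₁ ⧸ J) →ₐ[A₀] V ⧸ Ja := Ideal.Quotient.liftₐ J ((Ideal.Quotient.mkₐ A₀ Ja).comp ψ) fun x hx =>
    Ideal.Quotient.eq_zero_iff_mem.2 (Ideal.mem_span_singleton.2 (hψJ x hx))
  let F := Algebra.TensorProduct.map f (AlgHom.id A₀ C)
  show F β = 0
  have e1 : F β = Algebra.TensorProduct.map (Ideal.Quotient.mkₐ A₀ Ja) (AlgHom.id A₀ C)
      (Algebra.TensorProduct.map ψ (AlgHom.id A₀ C) b) := by
    show F (Algebra.TensorProduct.map p (AlgHom.id A₀ C) b) = _
    generalize b = x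
    induction x using TensorProduct.induction_on with
    | zero => simp
    | tmul _ _ => simp [F, f, p]
    | add x z hx hz => simp only [map_add, hx, hz]
  rw [e1, hd, map_mul]
  refine mul_eq_zero_of_left ?_ _
  show Ideal.Quotient.mk Ja (ψ a) ⊗ₜ[A₀] (1 : C) = 0
  rw [Ideal.Quotient.eq_zero_iff_mem.2 (Ideal.mem_span_singleton_self _), TensorProduct.zero_tmul]

end Groth.Agent.EtShSep
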