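import Groth.Agent.EtShSep.Factor
import Groth.Agent.EtShSep.Forget
import Mathlib

/-!
Inverse image along flat morphisms with connected covers preserves products of abelian sheaves.
-/

set_option autoImplicit false
set_option backward.isDefEq.respectTransparency false
set_option backward.isDefEq.respectTransparency.types false
set_option maxHeartbeats 1000000
set_option linter.style.haveILetI false

universe u

open CategoryTheory CategoryTheory.Limits AlgebraicGeometry Opposite

noncomputable section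

namespace Groth.Agent.EtShSep

open Groth.Agent.EtShLib

variable {X S : Scheme.{u}} (f : X ⟶ S)

/-- pulled back sections of an abelian sheaf -/
def ruAb (G : EtCoh.Ab S) {T : X.Etale} {V : S.Etale} (δ : T ⟶ (EtCoh.bc f).obj V) (s : EtCoh.sect G V) :
    EtCoh.sect ((EtCoh.pull f).obj G) T :=
  ((EtCoh.pull f).obj G).obj.map δ.op (((EtCoh.pullPushAdj f).unit.app G).hom.app (op V) s)

theorem ruAb_eq (G : EtCoh.Ab S) {T : X.Etale} {V : S.Etale} (δ : T ⟶ (EtCoh.bc f).obj V) (s : EtCoh.sect G V) :
    ruAb f G δ s = (pullCmp f G).hom.app (op T) (ru f ((undSh S).obj G) δ s) := by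
  refine Eq.trans ?_ (NatTrans.naturality_apply (pullCmp f G).hom δ.op _).symm
  exact congrArg (fun z => ((EtCoh.pull f).obj G).obj.map δ.op z) (app_congr (unit_pullCmp f G) (op V) s).symm

theorem bijective_ruAb (G : EtCoh.Ab S) {T : X.Etale} {V : S.Etale} (δ : T ⟶ (EtCoh.bc f).obj V)
    (h : Function.Bijective (ru f ((undSh S).obj G) δ)) : Function.Bijective (ruAb f G δ) := by
  haveI := isIso_pullCmp f G
  haveI : IsIso (pullCmp f G).hom := inferInstanceAs (IsIso ((sheafToPresheaf _ _).map (pullCmp f G)))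
  have h2 := (isIso_iff_bijective ((pullCmp f G).hom.app (op T))).mp inferInstance
  have e : ruAb f G δ = (fun z => (pullCmp f G).hom.app (op T) z) ∘ ru f ((undSh S).obj G) δ := funext (ruAb_eq f G δ)
  rw [e]
  exact h2.comp h

theorem ruAb_map {G G' : EtCoh.Ab S} (π : G ⟶ G') {T : X.Etale} {V : S.Etale} (δ : T ⟶ (EtCoh.bc f).obj V)
    (s : EtCoh.sect G V) :
    ((EtCoh.pull f).map π).hom.app (op T) (ruAb f G δ s) = ruAb f G' δ (π.hom.app (op V) s) := by
  refine (NatTrans.naturality_apply ((EtCoh.pull f).map π).hom δ.op _).trans ?_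
  refine congrArg (fun z => ((EtCoh.pull f).obj G').obj.map δ.op z) ?_
  exact (ConcreteCategory.congr_hom (congrArg (fun η : G ⟶ (EtCoh.push f).obj ((EtCoh.pull f).obj G') => η.hom.app (op V))
    ((EtCoh.pullPushAdj f).unit.naturality π)) s).symm

theorem bijective_prod_sections {X : Scheme.{u}} {ι : Type u} (G : ι → EtCoh.Ab X) (U : X.Etale) :
    Function.Bijective (fun (x : EtCoh.sect (∏ᶜ G) U) (i : ι) => (Pi.π G i).hom.app (op U) x) := by
  let E : EtCoh.Ab X ⥤ Type (u + 1) :=
    sheafToPresheaf _ _ ⋙ (evaluation _ _).obj (op U) ⋙ forget AddCommGrpCat.{u + 1}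
  have hc := isLimitOfHasProductOfPreservesLimit E G
  exact (Types.isLimit_iff_bijective_sectionOfCone (c := Fan.mk (E.obj (∏ᶜ G)) fun i => E.map (Pi.π G i))).mp ⟨hc⟩
    |> fun h => ⟨fun a b hab => h.1 (Subtype.ext (funext fun j => congrFun hab j.as)), fun p => by
      obtain ⟨x, hx⟩ := h.2 ⟨fun j => p j.as, fun {j j'} g => by
        obtain ⟨j⟩ := j; obtain ⟨j'⟩ := j'; obtain rfl : j = j' := Discrete.eq_of_hom g; simp⟩
      exact ⟨x, funext fun i => congrFun (congrArg Subtype.val hx) ⟨i⟩⟩⟩

theorem preservesProducts_pull [Flat f] (hcov : HasConnCovers f) (ι : Type u) :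
    PreservesLimitsOfShape (Discrete ι) (EtCoh.pull f) := by
  suffices h : ∀ G : ι → EtCoh.Ab S, PreservesLimit (Discrete.functor G) (EtCoh.pull f) from
    preservesLimitsOfShape_of_discrete (EtCoh.pull f)
  intro G
  let P := ∏ᶜ G
  let H : ι → EtCoh.Ab X := fun i => (EtCoh.pull f).obj (G i)
  let κ := piComparison (EtCoh.pull f) G
  suffices hκ : IsIso κ from PreservesProduct.of_iso_comparison (EtCoh.pull f) G
  apply isIso_of_isIso_undSh
  refine isIso_of_bijective_covering _ fun U => ?_
  obtain ⟨ιc, Uc, mU, hc, hf⟩ := hcov U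
  refine ⟨ιc, Uc, mU, hc, fun k => ?_⟩
  obtain ⟨V, a, w, hqc, hgc⟩ := hf k
  haveI : Flat a := flat_stage f a w
  haveI := hqc
  haveI := hgc
  let δ := mkδ f a w
  have hb : ∀ K : EtCoh.Ab S, Function.Bijective (ruAb f K δ) := fun K =>
    bijective_ruAb f K δ (bijective_ru_of_geomConnected f _ a w)
  let EP := fun (x : EtCoh.sect P V) (i : ι) => (Pi.π G i).hom.app (op V) x
  let EH := fun (x : EtCoh.sect (∏ᶜ H) (Uc k)) (i : ι) => (Pi.π H i).hom.app (op (Uc k)) x
  have key : ∀ s, EH (κ.hom.app (op (Uc k)) (ruAb f P δ s)) = fun i => ruAb f (G i) δ (EP s i) := fun s => funext fun i => by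
    refine Eq.trans ?_ (ruAb_map f (Pi.π G i) δ s)
    exact ConcreteCategory.congr_hom (congrArg (fun η : (EtCoh.pull f).obj P ⟶ H i => η.hom.app (op (Uc k)))
      (piComparison_comp_π (EtCoh.pull f) G i)) _
  have h1 : Function.Bijective fun s => EH (κ.hom.app (op (Uc k)) (ruAb f P δ s)) := by
    rw [funext key]
    exact (Function.Bijective.piMap fun i => hb (G i)).comp (bijective_prod_sections G V)
  have h2 : Function.Bijective fun x => EH (κ.hom.app (op (Uc k)) x) :=
    (Function.Bijective.of_comp_iff (fun x => EH (κ.hom.app (op (Uc k)) x)) (hb P)).mp h1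
  exact (Function.Bijective.of_comp_iff' (bijective_prod_sections H (Uc k))
    (fun x : EtCoh.sect ((EtCoh.pull f).obj P) (Uc k) => κ.hom.app (op (Uc k)) x)).mp h2

end Groth.Agent.EtShSep
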