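import Groth.Agent.EtShLib.BaseChange
import Groth.Agent.EtShLib.Nested
import Mathlib

/-!
Sections of pulled back sheaves of sets over étale schemes with connected fibres over an étale base.
-/

set_option autoImplicit false
set_option backward.isDefEq.respectTransparency false
set_option backward.isDefEq.respectTransparency.types false
set_option maxHeartbeats 1000000
set_option linter.style.haveILetI false
set_option linter.unusedSectionVars false

universe u

open CategoryTheory CategoryTheory.Limits AlgebraicGeometry Opposite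

noncomputable section

namespace Groth.Agent.EtShSep

open Groth.Agent.EtShLib

variable {X S : Scheme.{u}} (f : X ⟶ S) (F : EtDesc.Sh S)

/-- pulled back sections are detected on a surjective stage -/
theorem injective_ru {T : X.Etale} {o : S.Etale} (δ : T ⟶ (EtCoh.bc f).obj o)
    (h : Function.Surjective (δ.left ≫ pullback.fst o.hom f)) : Function.Injective (ru f F δ) := by
  intro s s' hs
  refine eq_of_eqLoc fun y => ?_
  obtain ⟨x, rfl⟩ := h y
  rw [← mem_eqLoc_ru, hs, eqLoc_self]
  trivial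

theorem fst_apply {T : X.Etale} {o : S.Etale} (m : T.left ⟶ o.left) (w : m ≫ o.hom = T.hom ≫ f) (x : T.left) :
    ((mkδ f m w).left ≫ pullback.fst o.hom f) x = m x :=
  congrArg (fun k : T.left ⟶ o.left => k x) (mkδ_fst f m w)

/-- the diagonal of an étale scheme -/
def δdiag (V : S.Etale) : EtCoh.top V.left ⟶ (EtCoh.bc V.hom).obj V := mkδ V.hom (𝟙 V.left) rfl

theorem injective_ru_diag (V : S.Etale) : Function.Injective (ru V.hom F (δdiag V)) :=
  injective_ru V.hom F _ fun y => ⟨y, (fst_apply (T := EtCoh.top V.left) V.hom (𝟙 V.left) rfl y).trans rfl⟩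

/-- an étale scheme over an étale scheme, over the base -/
abbrev compEt (V : S.Etale) (W : V.left.Etale) : S.Etale :=
  haveI := V.prop
  haveI := W.prop
  Scheme.Etale.mk (W.hom ≫ V.hom)

/-- the inverse image along an étale morphism has the same sections -/
theorem bijective_ru_etale (V : S.Etale) : Function.Bijective (ru V.hom F (δdiag V)) := by
  refine ⟨injective_ru_diag F V, fun t => ?_⟩
  let j := V.hom
  let G := (EtDesc.pullSh j).obj F
  let δW : ∀ W : V.left.Etale, W ⟶ (EtCoh.bc j).obj (compEt V W) := fun W => mkδ j (o := compEt V W) (𝟙 W.left) (Category.id_comp _)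
  have hinjW : ∀ W : V.left.Etale, Function.Injective (ru j F (δW W)) := fun W =>
    injective_ru j F _ fun y => ⟨y, (fst_apply (T := W) (o := compEt V W) j (𝟙 W.left) (Category.id_comp _) y).trans rfl⟩
  have hloc : ∀ p : V.left, ∃ (W : V.left.Etale) (s : EtDesc.sect F (compEt V W)),
      p ∈ Set.range W.hom ∧ G.obj.map (tT W).op t = ru j F (δW W) s := by
    intro p
    obtain ⟨Ω, _, _, ξ, -, hξ⟩ := EtStalk.covers_all (X := V.left) p
    let v0 : Over.mk ξ ⟶ (Scheme.Etale.forget V.left).obj (EtCoh.top V.left) := Over.homMk ξ (Category.comp_id _)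
    obtain ⟨γ, hγ, hγg⟩ := exists_pullGerm j ξ (ξ ≫ j) rfl F
    obtain ⟨z, hz⟩ := hγ.2 (gm ξ G (EtCoh.top V.left) v0 t)
    obtain ⟨o, v, σ, rfl⟩ := gm_surjective (G := F) (ξ ≫ j) z
    rw [hγg] at hz
    obtain ⟨Z, z, a, b, ha, hb⟩ := exists_common ξ (EtPushStalk.up j ξ (Over.homMk v.left ((Over.w v).trans rfl))) v0
    rw [← ha, ← hb, ← gm_map, ← gm_map, gm_eq_iff] at hz
    obtain ⟨W, g, ⟨w, hw⟩, he⟩ := hz
    let c : W ⟶ (EtCoh.bc j).obj o := g ≫ a
    let m : compEt V W ⟶ o := MorphismProperty.Over.homMk (c.left ≫ pullback.fst o.hom j) (by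
      show (c.left ≫ pullback.fst o.hom j) ≫ o.hom = W.hom ≫ j
      rw [Category.assoc, pullback.condition, ← Category.assoc]
      exact congrArg (· ≫ j) (MorphismProperty.Over.w c))
    refine ⟨W, F.obj.map m.op σ, ⟨w, ?_⟩, ?_⟩
    · have e1 : W.hom w = Z.hom (g.left w) :=
        (congrArg (fun k : W.left ⟶ V.left => k w) (MorphismProperty.Over.w g)).symm.trans (Scheme.Hom.comp_apply _ _ _)
      refine e1.trans ((congrArg Z.hom hw).trans ((Scheme.Hom.comp_apply _ _ _).symm.trans ?_))
      exact (congrArg (fun k : Spec (CommRingCat.of Ω) ⟶ V.left => k default) (Over.w z)).trans hξ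
    · rw [ru_res]
      have hδ : δW W ≫ (EtCoh.bc j).map m = c := bc_ext j (by
        refine (Category.assoc _ _ _).trans ((congrArg ((δW W).left ≫ ·) (bc_map_fst j m)).trans ?_)
        refine (Category.assoc _ _ _).symm.trans ?_
        rw [mkδ_fst]
        exact Category.id_comp _)
      rw [hδ, ru]
      have hb' : g ≫ b = tT W := tT_eq _
      rw [← hb', ← map_map, ← map_map]
      exact he.symm
  choose W s hmem hs using hloc
  obtain ⟨s₀, hs₀⟩ := exists_amalg (G := F) (P := V) (fun p => compEt V (W p))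
    (fun p => MorphismProperty.Over.homMk (W p).hom rfl) (fun p => ⟨p, hmem p⟩) s (fun i k T a b hab => by
      let r : T.left ⟶ V.left := (a ≫ MorphismProperty.Over.homMk (W i).hom rfl : T ⟶ V).left
      haveI : Etale r := etale_left (a ≫ MorphismProperty.Over.homMk (W i).hom rfl : T ⟶ V)
      let T' : V.left.Etale := Scheme.Etale.mk r
      let a' : T' ⟶ W i := MorphismProperty.Over.homMk a.left rfl
      let b' : T' ⟶ W k := MorphismProperty.Over.homMk b.left (congrArg (fun e : T ⟶ V => e.left) hab).symm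
      let δT : T' ⟶ (EtCoh.bc j).obj T := mkδ j (o := T) (𝟙 T.left) (by
        exact (Category.id_comp _).trans
          (MorphismProperty.Over.w (a ≫ MorphismProperty.Over.homMk (W i).hom rfl : T ⟶ V)).symm)
      apply injective_ru j F δT fun y => ⟨y, (fst_apply (T := T') (o := T) j (𝟙 T.left) _ y).trans rfl⟩
      have ea : δT ≫ (EtCoh.bc j).map a = a' ≫ δW (W i) := bc_ext j (by
        refine (Category.assoc _ _ _).trans ((congrArg (δT.left ≫ ·) (bc_map_fst j a)).trans ?_)
        refine (Category.assoc _ _ _).symm.trans ?_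
        refine (congrArg (· ≫ a.left) (mkδ_fst j (T := T') (o := T) (𝟙 T.left) _)).trans ((Category.id_comp _).trans ?_)
        refine Eq.trans ?_ (Category.assoc a'.left (δW (W i)).left _).symm
        exact ((congrArg (a'.left ≫ ·) (mkδ_fst j (T := W i) (o := compEt V (W i)) (𝟙 _) _)).trans (Category.comp_id _)).symm)
      have eb : δT ≫ (EtCoh.bc j).map b = b' ≫ δW (W k) := bc_ext j (by
        refine (Category.assoc _ _ _).trans ((congrArg (δT.left ≫ ·) (bc_map_fst j b)).trans ?_)
        refine (Category.assoc _ _ _).symm.trans ?_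
        refine (congrArg (· ≫ b.left) (mkδ_fst j (T := T') (o := T) (𝟙 T.left) _)).trans ((Category.id_comp _).trans ?_)
        refine Eq.trans ?_ (Category.assoc b'.left (δW (W k)).left _).symm
        exact ((congrArg (b'.left ≫ ·) (mkδ_fst j (T := W k) (o := compEt V (W k)) (𝟙 _) _)).trans (Category.comp_id _)).symm)
      rw [ru_res, ru_res, ea, eb, ← map_ru, ← map_ru, ← hs, ← hs, map_map, map_map, tT_eq (a' ≫ tT (W i)),
        tT_eq (b' ≫ tT (W k))])
  refine ⟨s₀, eq_of_eqLoc fun p => ⟨W p, tT (W p), hmem p, ?_⟩⟩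
  rw [hs, ← hs₀ p, map_ru, ru_res]
  refine congrArg (fun d => ru j F d s₀) (bc_ext j ?_)
  refine (Category.assoc _ _ _).trans ((congrArg ((tT (W p)).left ≫ ·) (mkδ_fst _ _ _)).trans ?_)
  refine Eq.trans ?_ (Category.assoc _ _ _).symm
  refine Eq.trans ?_ (congrArg ((δW (W p)).left ≫ ·) (bc_map_fst j _)).symm
  refine Eq.trans ?_ (Category.assoc _ _ _)
  rw [mkδ_fst]
  exact (Category.comp_id _).trans (Category.id_comp _).symm

theorem fst_map_comp {W B Z : Scheme.{u}} (g : W ⟶ B) {T : W.Etale} {o o' : B.Etale} (δ : T ⟶ (EtCoh.bc g).obj o)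
    (e : o ⟶ o') (r : o'.left ⟶ Z) : (δ ≫ (EtCoh.bc g).map e).left ≫ pullback.fst o'.hom g ≫ r =
      (δ.left ≫ pullback.fst o.hom g) ≫ e.left ≫ r := by
  refine (Category.assoc δ.left ((EtCoh.bc g).map e).left _).trans ?_
  refine (congrArg (δ.left ≫ ·) ((Category.assoc _ _ _).symm.trans (congrArg (· ≫ r) (bc_map_fst g e)))).trans ?_
  exact (congrArg (δ.left ≫ ·) (Category.assoc _ _ _)).trans (Category.assoc _ _ _).symm

/-- pulled back sections over a stage with connected fibres -/
theorem bijective_ru_of_connected {T : X.Etale} {V : S.Etale} (m : T.left ⟶ V.left) (w : m ≫ V.hom = T.hom ≫ f)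
    (hsub : ∀ (S' : Scheme.{u}) (g : S' ⟶ V.left), Topology.IsQuotientMap (pullback.snd m g))
    (hc : ∀ (Ω : Type u) [Field Ω] [IsAlgClosed Ω] (s : Spec (CommRingCat.of Ω) ⟶ V.left), ConnectedSpace ↥(pullback m s)) :
    Function.Bijective (ru f F (mkδ f m w)) := by
  have hsurj : Function.Surjective m := fun y => by
    obtain ⟨z, hz⟩ := (hsub V.left (𝟙 _)).surjective y
    refine ⟨pullback.fst m (𝟙 V.left) z, ?_⟩
    rw [← Scheme.Hom.comp_apply, pullback.condition, Category.comp_id]
    exact hz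
  refine ⟨injective_ru f F _ fun y => ?_, fun t => ?_⟩
  · obtain ⟨x, rfl⟩ := hsurj y
    exact ⟨x, fst_apply f m w x⟩
  let k : T.left ⟶ S := T.hom ≫ f
  obtain ⟨θ₁, hθ₁i, hθ₁⟩ := exists_nested T.hom f k rfl F
  obtain ⟨θ₂, hθ₂i, hθ₂⟩ := exists_nested m V.hom k w F
  let H := (EtDesc.pullSh V.hom).obj F
  haveI := hθ₁i
  haveI := hθ₂i
  haveI : IsIso θ₂.hom := inferInstanceAs (IsIso ((sheafToPresheaf _ _).map θ₂))
  obtain ⟨t₂, ht₂⟩ := (ConcreteCategory.bijective_of_isIso (θ₂.hom.app (op (EtCoh.top T.left)))).2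
    (θ₁.hom.app (op (EtCoh.top T.left)) (ru T.hom ((EtDesc.pullSh f).obj F) (δdiag T) t))
  obtain ⟨s', rfl⟩ := (bijective_ru_top m H (isIso_unit m hsub hc H)).2 t₂
  obtain ⟨s, rfl⟩ := (bijective_ru_etale F V).2 s'
  refine ⟨s, injective_ru_diag ((EtDesc.pullSh f).obj F) T ?_⟩
  haveI : IsIso θ₁.hom := inferInstanceAs (IsIso ((sheafToPresheaf _ _).map θ₁))
  apply (ConcreteCategory.bijective_of_isIso (θ₁.hom.app (op (EtCoh.top T.left)))).1
  rw [← ht₂]
  let δ₀ : EtCoh.top T.left ⟶ (EtCoh.bc k).obj V :=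
    mkδ k (T := EtCoh.top T.left) m (w.trans (Category.id_comp _).symm)
  have l1 : θ₁.hom.app (op (EtCoh.top T.left)) (ru T.hom ((EtDesc.pullSh f).obj F) (δdiag T) (ru f F (mkδ f m w) s)) =
      ru k F δ₀ s := by
    refine (congrArg _ (ru_res T.hom ((EtDesc.pullSh f).obj F) (mkδ f m w) (δdiag T) (unitSect f F V s))).trans ?_
    refine hθ₁ _ _ _ δ₀ ?_ s
    refine Eq.trans ?_ (mkδ_fst k (T := EtCoh.top T.left) m _).symm
    refine (fst_map_comp T.hom (δdiag T) (mkδ f m w) _).trans ?_
    refine (congrArg₂ (fun p q => p ≫ q) (mkδ_fst T.hom (T := EtCoh.top T.left) (o := T) (𝟙 _) _) (mkδ_fst f m w)).trans ?_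
    exact Category.id_comp _
  have l2 : θ₂.hom.app (op (EtCoh.top T.left)) (ru m H (mkδ (T := EtCoh.top T.left) (o := EtCoh.top V.left) m m
      ((Category.comp_id _).trans (Category.id_comp _).symm)) (ru V.hom F (δdiag V) s)) = ru k F δ₀ s := by
    refine (congrArg _ (ru_res m H (δdiag V) _ (unitSect V.hom F V s))).trans ?_
    refine hθ₂ _ _ _ δ₀ ?_ s
    refine Eq.trans ?_ (mkδ_fst k (T := EtCoh.top T.left) m _).symm
    refine (fst_map_comp m _ (δdiag V) _).trans ?_
    refine (congrArg₂ (fun p q => p ≫ q) (mkδ_fst m (T := EtCoh.top T.left) (o := EtCoh.top V.left) m _)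
      (mkδ_fst V.hom (T := EtCoh.top V.left) (o := V) (𝟙 _) _)).trans ?_
    exact Category.comp_id _
  exact l1.trans l2.symm

/-- the standard case: flat quasi-compact morphisms with geometrically connected fibres -/
theorem bijective_ru_of_geomConnected {T : X.Etale} {V : S.Etale} (m : T.left ⟶ V.left) (w : m ≫ V.hom = T.hom ≫ f)
    [Flat m] [QuasiCompact m] [GeometricallyConnected m] : Function.Bijective (ru f F (mkδ f m w)) := by
  have hc : ∀ (Ω : Type u) [Field Ω] (s : Spec (CommRingCat.of Ω) ⟶ V.left), ConnectedSpace ↥(pullback m s) := fun Ω _ s =>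
    GeometricallyConnected.geometrically_connectedSpace (f := m) s (pullback.fst m s) (pullback.snd m s)
      (IsPullback.of_hasPullback m s)
  haveI : Surjective m := ⟨fun y => by
    haveI := hc _ (V.left.fromSpecResidueField y)
    obtain ⟨z⟩ := (inferInstance : Nonempty ↥(pullback m (V.left.fromSpecResidueField y)))
    refine ⟨pullback.fst m _ z, ?_⟩
    rw [← Scheme.Hom.comp_apply, pullback.condition, Scheme.Hom.comp_apply]
    exact Set.mem_singleton_iff.1 ((Scheme.range_fromSpecResidueField y).le ⟨_, rfl⟩)⟩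
  exact bijective_ru_of_connected f F m w (fun S' g => isQuotientMap_snd_of_flat m S' g) fun Ω _ _ s => hc Ω s

end Groth.Agent.EtShSep
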