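import Groth.Agent.DvrDom.Basic
import Groth.Agent.GRingCpl.ConnFibre
import Mathlib

/-!
Discrete valuation rings detecting divisibility in an integrally closed subring of a field, and the descent
of idempotent fractions over a discrete valuation ring.
-/

set_option autoImplicit false
set_option maxHeartbeats 800000
set_option linter.style.haveILetI false

universe u

open scoped TensorProduct
open IsLocalRing

namespace Groth.Agent.EtShSep

/-- a discrete valuation ring centred at a nonzero prime of a Noetherian domain -/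
theorem exists_dvr_of_prime {T : Type u} [CommRing T] [IsDomain T] [IsNoetherianRing T] (P : Ideal T) [P.IsPrime]
    (hP : P ≠ ⊥) : ∃ (V : Type u) (_ : CommRing V) (_ : IsDomain V) (_ : IsDiscreteValuationRing V) (j : T →+* V),
      Function.Injective j ∧ (∀ t ∉ P, IsUnit (j t)) ∧ ∀ t ∈ P, j t ∈ maximalIdeal V := by
  let A := Localization.AtPrime P
  let K := FractionRing T
  let φ : A →+* K := IsLocalization.lift (M := P.primeCompl) (g := algebraMap T K) fun d => IsUnit.mk0 _ fun h =>
    nonZeroDivisors.ne_zero (P.primeCompl_le_nonZeroDivisors d.2) (IsFractionRing.injective T K (h.trans (map_zero _).symm))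
  letI : Algebra A K := φ.toAlgebra
  haveI : IsScalarTower T A K := IsScalarTower.of_algebraMap_eq fun t => (IsLocalization.lift_eq _ t).symm
  haveI : IsDomain A := IsLocalization.isDomain_localization P.primeCompl_le_nonZeroDivisors
  have hinjA : Function.Injective (algebraMap T A) :=
    IsLocalization.injective A P.primeCompl_le_nonZeroDivisors
  have hA : ¬ IsField A := fun h => hP (eq_bot_iff.2 fun t ht => by
    have h1 := (IsLocalization.AtPrime.to_map_mem_maximal_iff A P t).2 ht
    rw [(isField_iff_maximalIdeal_eq).1 h, Ideal.mem_bot] at h1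
    exact hinjA (h1.trans (map_zero _).symm))
  haveI : IsNoetherianRing A := IsLocalization.isNoetherianRing P.primeCompl A inferInstance
  haveI : IsFractionRing A K := IsFractionRing.isFractionRing_of_isDomain_of_isLocalization P.primeCompl A K
  haveI : FaithfulSMul A K := (faithfulSMul_iff_algebraMap_injective A K).2 (IsFractionRing.injective A K)
  obtain ⟨V, hV, hAV, hmV⟩ := DvrDom.exists_dvr_dominating_of_fg A hA K ∅ Set.finite_empty (by
    rw [Set.union_empty, eq_top_iff]
    intro z _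
    obtain ⟨x, d, -, rfl⟩ := IsFractionRing.div_surjective (A := A) z
    exact div_mem (Subfield.subset_closure ⟨x, rfl⟩) (Subfield.subset_closure ⟨d, rfl⟩))
  haveI := hV
  let j : T →+* V := ((algebraMap A K).comp (algebraMap T A)).codRestrict V.toSubring fun t => hAV _
  refine ⟨V, inferInstance, inferInstance, hV, j,
    fun x z h => hinjA (IsFractionRing.injective A K (congrArg Subtype.val h)), fun t ht => ?_, fun t ht => ?_⟩
  · obtain ⟨v, hv⟩ := ((IsLocalization.map_units A (⟨t, ht⟩ : P.primeCompl))).exists_right_inv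
    refine IsUnit.of_mul_eq_one ⟨algebraMap A K v, hAV v⟩ (Subtype.ext ?_)
    show algebraMap A K (algebraMap T A t) * algebraMap A K v = 1
    rw [← map_mul, hv, map_one]
  · rw [mem_maximalIdeal, mem_nonunits_iff]
    intro hu
    exact (hmV _ ((IsLocalization.AtPrime.to_map_mem_maximal_iff A P t).2 ht)).ne
      ((ValuationSubring.valuation_eq_one_iff V (j t)).1 hu)

theorem exists_dvr_detect {A₀ L : Type u} [CommRing A₀] [IsNoetherianRing A₀] [Field L] [Algebra A₀ L]
    (A' : Subalgebra A₀ L) (hic : ∀ x : L, IsIntegral A' x → x ∈ A')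
    (R₁ : Subalgebra A₀ L) (hR : R₁.FG) (hR' : R₁ ≤ A') (a : R₁) (ha : a ≠ 0)
    (J : Ideal R₁) (hJ : ∀ x, x ∈ J ↔ (x : L) / (a : L) ∈ A')
    (q : Ideal R₁) [q.IsPrime] (w : R₁) (hqw : ∀ t ∈ q, t * w ∈ J) (hw : ∀ t ∉ q, t * w ∉ J) :
    ∃ (V : Type u) (_ : CommRing V) (_ : IsDomain V) (_ : IsDiscreteValuationRing V) (_ : Algebra A₀ V)
      (ψ : R₁ →ₐ[A₀] V), Function.Injective ψ ∧ (∀ x ∈ J, ψ a ∣ ψ x) ∧ ¬ ψ a ∣ ψ w ∧
      (∀ t, t ∉ q → IsUnit (ψ t)) ∧ ∀ t ∈ q, ψ t ∈ maximalIdeal V := by
  classical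
  haveI : IsNoetherianRing R₁ := isNoetherianRing_of_fg hR
  have ha' : (a : L) ≠ 0 := fun h => ha (Subtype.ext h)
  have hw0 : (w : L) ≠ 0 := fun h => by
    refine hw 1 (Ideal.one_notMem q) ?_
    have : w = 0 := Subtype.ext h
    rw [this, mul_zero]
    exact J.zero_mem
  obtain ⟨G, hG⟩ := IsNoetherian.noetherian J
  let y : L := (a : L) / (w : L)
  let g : R₁ → L := fun x => (x : L) / (a : L)
  let R₂ : Subalgebra A₀ L := R₁ ⊔ Algebra.adjoin A₀ ↑(G.image g)
  let T : Subalgebra A₀ L := R₂ ⊔ Algebra.adjoin A₀ ↑({y} : Finset L)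
  have hTfg : T.FG := (hR.sup ⟨_, rfl⟩).sup ⟨_, rfl⟩
  haveI : IsNoetherianRing T := isNoetherianRing_of_fg hTfg
  have hR₂ : R₂ ≤ A' := sup_le hR' (Algebra.adjoin_le fun z hz => by
    obtain ⟨x, hx, rfl⟩ := Finset.mem_image.1 (Finset.mem_coe.1 hz)
    exact (hJ x).1 (hG.le (Submodule.subset_span (Finset.mem_coe.2 hx))))
  have hJR₂ : ∀ x : R₁, x ∈ J → g x ∈ R₂ := fun x hx => by
    have hx' : x ∈ Submodule.span R₁ (G : Set R₁) := hG.ge hx
    clear hx
    refine Submodule.span_induction (p := fun z _ => g z ∈ R₂) (fun z hz => ?_) ?_ (fun z z' _ _ hz hz' => ?_)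
      (fun r z _ hz => ?_) hx'
    · exact (show Algebra.adjoin A₀ (↑(G.image g) : Set L) ≤ R₂ from le_sup_right)
        (Algebra.subset_adjoin (Finset.mem_coe.2 (Finset.mem_image_of_mem g (Finset.mem_coe.1 hz))))
    · simp [g]
    · simp only [g, Subalgebra.coe_add, add_div]
      exact add_mem hz hz'
    · simp only [g, smul_eq_mul, Subalgebra.coe_mul, mul_div_assoc]
      exact mul_mem ((show R₁ ≤ R₂ from le_sup_left) r.2) hz
  have hle : R₁ ≤ T := le_sup_of_le_left le_sup_left
  have hyT : y ∈ T := (show Algebra.adjoin A₀ ↑({y} : Finset L) ≤ T from le_sup_right)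
    (Algebra.subset_adjoin (by simp))
  let ι : R₁ →ₐ[A₀] T := Subalgebra.inclusion hle
  let yT : T := ⟨y, hyT⟩
  let S : Submonoid T := q.primeCompl.map ι
  have hdis : Disjoint ((Ideal.span {yT} : Ideal T) : Set T) (S : Set T) := by
    rw [Set.disjoint_left]
    rintro z hz ⟨s, hs, rfl⟩
    obtain ⟨p, hp⟩ := Ideal.mem_span_singleton'.1 hz
    have hp' : (p : L) * y = (s : L) := congrArg Subtype.val hp
    let Z : L := (s : L) / y
    have hy0 : y ≠ 0 := div_ne_zero ha' hw0
    have hs0 : (s : L) ≠ 0 := fun h => hs (by rw [show s = 0 from Subtype.ext h]; exact q.zero_mem)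
    have hZ : Z ∈ A' := by
      by_contra hZ
      haveI : IsIntegrallyClosedIn A'.toSubring L :=
        Subring.isIntegrallyClosedIn_iff.mpr fun {x} hx => hic x hx
      obtain ⟨V, hV, hZV⟩ := Subring.exists_le_valuationSubring_of_isIntegrallyClosedIn (R := A'.toSubring) hZ
      have hZi : Z⁻¹ ∈ V.nonunits := (V.inv_mem_nonunits_iff).mpr (Or.inr hZV)
      have hyV : y ∈ V := by
        have : y = (s : L) * Z⁻¹ := by
          show y = (s : L) * ((s : L) / y)⁻¹
          rw [inv_div, mul_div_cancel₀ _ hs0]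
        rw [this]
        exact V.mul_mem _ _ (hV (hR' s.2)) (V.nonunits_subset hZi)
      have hTV : (p : L) ∈ V := by
        have hA0 : ∀ c : A₀, algebraMap A₀ L c ∈ V := fun c => hV (A'.algebraMap_mem c)
        let V' : Subalgebra A₀ L := { V.toSubring with algebraMap_mem' := hA0 }
        have : T ≤ V' := sup_le (fun x hx => hV (hR₂ hx)) (Algebra.adjoin_le fun z hz => by
          rw [Finset.coe_singleton, Set.mem_singleton_iff] at hz
          subst hz
          exact hyV)
        exact this p.2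
      have h1 : Z⁻¹ * (p : L) = 1 := by
        show ((s : L) / y)⁻¹ * (p : L) = 1
        rw [inv_div, div_mul_eq_mul_div, mul_comm, hp', div_self hs0]
      obtain ⟨hZiV, hZin⟩ := (V.mem_nonunits_iff_exists_mem_maximalIdeal).1 hZi
      exact hZin (IsUnit.of_mul_eq_one ⟨(p : L), hTV⟩ (Subtype.ext h1))
    refine hw s hs ((hJ _).2 ?_)
    have e1 : Z = ((s * w : R₁) : L) / (a : L) := by
      show (s : L) / ((a : L) / (w : L)) = _
      rw [div_div_eq_mul_div]
      rfl
    exact e1 ▸ hZ
  obtain ⟨P, hP, hyP, hPS⟩ := Ideal.exists_le_prime_disjoint _ _ hdis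
  haveI := hP
  have hy0 : y ≠ 0 := div_ne_zero ha' hw0
  obtain ⟨V, _, _, hV, j, hj, hju, hm⟩ := exists_dvr_of_prime P fun h =>
    hy0 (congrArg Subtype.val ((Ideal.mem_bot).1 (h ▸ hyP (Ideal.mem_span_singleton_self yT)) : yT = 0))
  letI : Algebra A₀ V := (j.comp (algebraMap A₀ T)).toAlgebra
  let jA : T →ₐ[A₀] V := { j with commutes' := fun _ => rfl }
  let ψ : R₁ →ₐ[A₀] V := jA.comp ι
  have hSP : ∀ t ∉ q, IsUnit (ψ t) := fun t ht => by
    have htP : ι t ∉ P := fun h => Set.disjoint_left.1 hPS h ⟨t, ht, rfl⟩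
    exact hju _ htP
  have hyw : ι a = yT * ι w := Subtype.ext (div_mul_cancel₀ (a : L) hw0).symm
  refine ⟨V, inferInstance, inferInstance, hV, inferInstance, ψ, hj.comp (Subalgebra.inclusion_injective hle),
    fun x hx => ?_, fun h => ?_, hSP, fun t ht => ?_⟩
  · refine ⟨j ⟨g x, (show R₂ ≤ T from le_sup_left) (hJR₂ x hx)⟩, ?_⟩
    show j (ι x) = j (ι a) * _
    rw [← map_mul]
    exact congrArg j (Subtype.ext (mul_div_cancel₀ (x : L) ha').symm)
  · obtain ⟨v, hv⟩ := h
    have hψa : ψ a = j yT * ψ w := (congrArg j hyw).trans (map_mul j _ _)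
    have hψw : ψ w ≠ 0 := fun h0 => hw0 (congrArg Subtype.val
      ((hj.comp (Subalgebra.inclusion_injective hle)) (a₁ := w) (a₂ := 0) (h0.trans (map_zero ψ).symm)))
    have h1 : j yT * v = 1 := mul_right_cancel₀ hψw (by
      rw [one_mul]
      calc j yT * v * ψ w = ψ a * v := by rw [hψa]; ring
        _ = ψ w := hv.symm)
    exact (mem_maximalIdeal _).1 (hm yT (hyP (Ideal.mem_span_singleton_self yT))) (IsUnit.of_mul_eq_one v h1)
  · have hu : ¬ IsUnit (ψ t) := fun hu => by
      obtain ⟨v, hv⟩ := hu.exists_left_inv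
      have htw : g (t * w) ∈ T := (show R₂ ≤ T from le_sup_left) (hJR₂ _ (hqw t ht))
      have h1 : ι t * ι w = ι a * ⟨g (t * w), htw⟩ := Subtype.ext (by
        show (t : L) * (w : L) = (a : L) * ((((t * w : R₁)) : L) / (a : L))
        rw [mul_div_cancel₀ _ ha']; rfl)
      have h2 : ψ t * ψ w = ψ a * j ⟨g (t * w), htw⟩ := by
        show j (ι t) * j (ι w) = j (ι a) * _
        rw [← map_mul, h1, map_mul]
      have hψa : ψ a = j yT * ψ w := (congrArg j hyw).trans (map_mul j _ _)
      have hψw : ψ w ≠ 0 := fun h0 => hw0 (congrArg Subtype.val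
        ((hj.comp (Subalgebra.inclusion_injective hle)) (a₁ := w) (a₂ := 0) (h0.trans (map_zero ψ).symm)))
      have h3 : j yT * (v * j ⟨g (t * w), htw⟩) = 1 := mul_right_cancel₀ hψw (by
        calc j yT * (v * j ⟨g (t * w), htw⟩) * ψ w = v * (ψ a * j ⟨g (t * w), htw⟩) := by rw [hψa]; ring
          _ = v * ψ t * ψ w := by rw [← h2]; ring
          _ = 1 * ψ w := by rw [hv])
      exact (mem_maximalIdeal _).1 (hm yT (hyP (Ideal.mem_span_singleton_self yT))) (IsUnit.of_mul_eq_one _ h3)
    exact (mem_maximalIdeal _).2 hu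

/-- over a discrete valuation ring, idempotent fractions of a flat algebra with reduced special fibre are integral -/
theorem exists_eq_mul_of_sq {V M : Type u} [CommRing V] [IsDomain V] [IsDiscreteValuationRing V] [CommRing M]
    [Algebra V M] [Module.Flat V M] [IsReduced ((maximalIdeal V).ResidueField ⊗[V] M)] {a : V} (ha : a ≠ 0)
    {c : M} (hc : c * c = algebraMap V M a * c) : ∃ d, c = algebraMap V M a * d := by
  obtain ⟨π, hπ⟩ := IsDiscreteValuationRing.exists_irreducible V
  obtain ⟨n, u, rfl⟩ := IsDiscreteValuationRing.eq_unit_mul_pow_irreducible ha hπ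
  have hmax := hπ.maximalIdeal_eq
  obtain ⟨t, ht, d, hd⟩ := GRingCpl.exists_smul_mem_of_sq (R := V) (M := M) (Q := maximalIdeal V) (π := π)
    (hmax ▸ Ideal.mem_span_singleton_self π) hπ.ne_zero
    (fun q hq => ⟨1, Ideal.one_notMem _, by rw [one_mul]; exact Ideal.mem_span_singleton.1 (hmax ▸ hq)⟩)
    n c 1 u (Ideal.one_notMem _) (by rw [one_smul, Algebra.smul_def, hc])
  have htu : IsUnit t := by
    by_contra h
    exact ht ((mem_maximalIdeal _).2 h)
  obtain ⟨t', ht'⟩ := htu.exists_left_inv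
  refine ⟨algebraMap V M (↑u⁻¹ * t') * d, ?_⟩
  have h1 : algebraMap V M (↑u * π ^ n) * (algebraMap V M (↑u⁻¹ * t') * d) = t' • (π ^ n • d) := by
    rw [Algebra.smul_def, Algebra.smul_def, ← mul_assoc, ← map_mul, ← mul_assoc (algebraMap V M t'), ← map_mul, ← mul_assoc]
    refine congrArg (fun r => algebraMap V M r * d) ?_
    calc (↑u * π ^ n) * ↑u⁻¹ * t' = (↑u * ↑u⁻¹) * (t' * π ^ n) := by ring
      _ = t' * π ^ n := by rw [Units.mul_inv, one_mul]
  rw [h1, ← hd, smul_smul, ht', one_smul]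

end Groth.Agent.EtShSep
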